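import Cfsg.Agent.Lib.LocalEvenB.JOver.Comp

/-!
# Properties of the factors
-/

set_option autoImplicit false
set_option linter.all false

namespace CfsgLib.LocalEvenB.JOver

open Subgroup Cfsg
open scoped commutatorElement

variable {G : Type*} [Group G]

theorem pCoreOf_map_inj {G' : Type*} [Group G'] {p : ℕ} (f : G →* G') (hf : Function.Injective f) (H : Subgroup G) :
    (Cfsg.pCoreOf p H).map f = Cfsg.pCoreOf p (H.map f) := by
  rw [Cfsg.pCoreOf, Cfsg.pCoreOf, ← CfsgLib.Core.map_equiv_pCore (H.equivMapOfInjective f hf),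
    map_map, map_map]
  rfl

theorem centralizer_map_equiv (e : G ≃* G) (H : Subgroup G) :
    (centralizer (H : Set G)).map e.toMonoidHom = centralizer ((H.map e.toMonoidHom : Subgroup G) : Set G) :=
  CfsgLib.LocalEvenB.map_centralizer_equiv e H

theorem omegaCenterOf_map (e : G ≃* G) (H : Subgroup G) :
    (omegaCenterOf H).map e.toMonoidHom = omegaCenterOf (H.map e.toMonoidHom) := by
  rw [omegaCenterOf, omegaCenterOf, CfsgLib.PGroups.omegaOne_map _ e.injective,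
    map_inf _ _ _ e.injective, centralizer_map_equiv]

theorem wOf_map (e : G ≃* G) (K : Subgroup G) : (wOf K).map e.toMonoidHom = wOf (K.map e.toMonoidHom) := by
  rw [wOf, wOf, map_commutator, omegaCenterOf_map, pCoreOf_map_inj _ e.injective]

variable [Finite G]

theorem normalizer_le_normalizer_wOf (K : Subgroup G) :
    normalizer (K : Set G) ≤ normalizer (wOf K : Set G) := by
  intro g hg
  rw [← CfsgLib.LocalEvenB.map_conj_eq_self_iff_mem_normalizer] at hg ⊢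
  rw [wOf_map, hg]

/-- A 2-group normalising a nontrivial 2-group fixes a nontrivial element. -/
theorem exists_fixed_of_two {P W : Subgroup G} (hP : IsPGroup 2 P) (hW : IsPGroup 2 W) (hW1 : W ≠ ⊥)
    (hPn : P ≤ normalizer (W : Set G)) : ∃ u ∈ W, u ≠ 1 ∧ ∀ g ∈ P, g * u = u * g := by
  have hU : IsPGroup 2 ↥(P ⊔ W) := hP.to_sup_of_normal_right' hW hPn
  haveI : Fact (Nat.Prime 2) := ⟨Nat.prime_two⟩
  haveI : (W.subgroupOf (P ⊔ W)).Normal :=
    (normal_subgroupOf_iff_le_normalizer le_sup_right).2 (sup_le hPn le_normalizer)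
  obtain ⟨u, ⟨hu, huZ⟩, hu1⟩ := (Subgroup.bot_or_exists_ne_one _).resolve_left
    (CfsgLib.PGroups.inf_center_ne_bot hU (N := W.subgroupOf (P ⊔ W)) (fun h0 => by
      rw [subgroupOf_eq_bot] at h0
      exact hW1 (disjoint_self.1 (h0.mono_right le_sup_right))))
  exact ⟨u, hu, fun e => hu1 (Subtype.ext e), fun g hg =>
    congrArg Subtype.val (mem_center_iff.1 huZ ⟨g, mem_sup_left hg⟩)⟩

/-- To normalise a subgroup generated by odd elements it is enough to send those into it. -/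
theorem mem_normalizer_of_odd {K : Subgroup G} (hgen : closure {g : G | g ∈ K ∧ Odd (orderOf g)} = K) {g : G}
    (h : ∀ x ∈ K, Odd (orderOf x) → g * x * g⁻¹ ∈ K) : g ∈ normalizer (K : Set G) := by
  refine CfsgLib.LocalEvenB.mem_normalizer_of_forall fun x hx => ?_
  have : K ≤ K.comap (MulAut.conj g).toMonoidHom := by
    conv_lhs => rw [← hgen]
    rw [closure_le]
    exact fun y hy => h y hy.1 hy.2
  exact this hx

theorem le_normalizer_of_comm {K J : Subgroup G} (hc : ⁅K, J⁆ = K) : J ≤ normalizer (K : Set G) := by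
  have := CfsgLib.Core.le_normalizer_commutator_self J K
  rw [hc] at this
  exact le_sup_right.trans this

variable {L J Q : Subgroup G} (F : Frame L J Q)

/-- A subgroup generated by odd elements, reproduced by commutation with `J`, is a factor. -/
theorem comp_of_comm {K : Subgroup G} (hKL : K ≤ L) (hgen : closure {g : G | g ∈ K ∧ Odd (orderOf g)} = K)
    (hc : ⁅K, J⁆ = K) (hidx : (pCoreOf 2 K).relIndex K = 3) : Comp F K := by
  have hJN : J ≤ normalizer (K : Set G) := le_normalizer_of_comm hc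
  have hJL : J ≤ L := F.J_le.trans F.Y_le
  have hKY : K ≤ F.Y := by
    refine hc.ge.trans (commutator_le.2 fun k hk j hj => ?_)
    rw [commutatorElement_def]
    exact mul_mem (F.Y_normal k (hKL hk) j (F.J_le hj)) (inv_mem (F.J_le hj))
  have hQN : Q ≤ normalizer (K : Set G) := by
    intro q hq
    let N : Subgroup G := L ⊓ normalizer (K : Set G)
    let Q₁ : Subgroup G := Q ⊓ normalizer (K : Set G)
    have hQ₁n : ∀ a ∈ N, ∀ q ∈ Q₁, a * q * a⁻¹ ∈ Q₁ := fun a ha q hq =>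
      mem_inf.2 ⟨F.Q_normal a (mem_inf.1 ha).1 q (mem_inf.1 hq).1,
        mul_mem (mul_mem (mem_inf.1 ha).2 (mem_inf.1 hq).2) (inv_mem (mem_inf.1 ha).2)⟩
    let C : Subgroup G :=
      { carrier := {a | a ∈ N ∧ ∀ q ∈ Q, ⁅q, a⁆ ∈ Q₁}
        one_mem' := ⟨one_mem _, fun q _ => by simp⟩
        mul_mem' := fun {a b} ha hb => ⟨mul_mem ha.1 hb.1, fun q hq => by
          rw [show ⁅q, a * b⁆ = ⁅q, a⁆ * (a * ⁅q, b⁆ * a⁻¹) by simp [commutatorElement_def, mul_assoc]]
          exact mul_mem (ha.2 q hq) (hQ₁n a ha.1 _ (hb.2 q hq))⟩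
        inv_mem' := fun {a} ha => ⟨N.inv_mem ha.1, fun q hq => by
          rw [show ⁅q, a⁻¹⁆ = a⁻¹ * ⁅q, a⁆⁻¹ * a⁻¹⁻¹ by simp [commutatorElement_def, mul_assoc]]
          exact hQ₁n _ (N.inv_mem ha.1) _ (Q₁.inv_mem (ha.2 q hq))⟩ }
    have hJC : ∀ j ∈ J, j ∈ C := by
      refine fun j hj => ⟨⟨hJL hj, hJN hj⟩, fun q hq => ⟨?_, hJN (F.comm_J j hj q hq)⟩⟩
      rw [commutatorElement_def, show q * j * q⁻¹ * j⁻¹ = q * (j * q⁻¹ * j⁻¹) by group]
      exact mul_mem hq (F.Q_normal j (hJL hj) _ (inv_mem hq))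
    have hKC : K ≤ C := by
      refine hc.ge.trans (commutator_le.2 fun k hk j hj => ?_)
      rw [commutatorElement_def]
      refine mul_mem ?_ (inv_mem (hJC j hj))
      have hkN : k ∈ N := mem_inf.2 ⟨hKL hk, le_normalizer hk⟩
      refine ⟨mul_mem (mul_mem hkN (hJC j hj).1) (inv_mem hkN), fun q hq => ?_⟩
      have hq' : k⁻¹ * q * k ∈ Q := by simpa using F.Q_normal k⁻¹ (inv_mem hkN.1) q hq
      have := hQ₁n k hkN _ ((hJC j hj).2 _ hq')
      convert this using 1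
      simp [commutatorElement_def, mul_assoc]
    refine mem_normalizer_of_odd hgen fun x hx hxo => ?_
    refine mem_of_odd_mem_sup (Q := Q₁) (F.Q_two.to_le inf_le_left) inf_le_right ?_ ?_
    · rw [show q * x * q⁻¹ = ⁅q, x⁆ * x by simp [commutatorElement_def, mul_assoc]]
      exact mul_mem (mem_sup_right ((hKC hx).2 q hq)) (mem_sup_left hx)
    · rw [show q * x * q⁻¹ = MulAut.conj q x from rfl, MulEquiv.orderOf_eq]
      exact hxo
  refine ⟨hKY, hgen, hidx, hJN, hQN, ?_⟩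
  by_contra hne
  push Not at hne
  have hKQ : K ≤ Q := by
    refine hc.ge.trans (commutator_le.2 fun k hk j hj => ?_)
    exact F.ker_comm ⟨k, hKY hk⟩ ⟨j, F.J_le hj⟩ (hne ⟨k, hKY hk⟩ hk)
  have hK2 : IsPGroup 2 K := F.Q_two.to_le hKQ
  have htop : Cfsg.pCore 2 ↥K = ⊤ :=
    top_unique (CfsgLib.Core.le_pCore (p := 2) (hK2.of_equiv topEquiv.symm))
  rw [pCoreOf, htop, ← MonoidHom.range_eq_map, K.range_subtype, relIndex_self] at hidx
  omega

namespace Comp

variable {F} {K : Subgroup G} (hK : Comp F K)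
include hK

theorem exists_exp {i : Fin F.n} (hi : AtIndex F K i) (σ : Equiv.Perm (Fin 3)) (hσ : Equiv.Perm.sign σ = 1) :
    ∃ e : ↥F.Y, (e : G) ∈ K ∧ F.φ e i = σ := by
  obtain ⟨x, hx, hxi⟩ := hi.2
  rcases perm3_pow_cases _ σ (hK.sign_eq x hx i) hσ hxi with h | h | h
  · exact ⟨1, one_mem _, by rw [map_one, h]; rfl⟩
  · exact ⟨x, hx, h.symm⟩
  · exact ⟨x * x, mul_mem hx hx, by rw [map_mul, Pi.mul_apply, h]⟩

/-- A factor is normal in `Y`. -/
theorem normalizes : F.Y ≤ normalizer (K : Set G) := by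
  classical
  haveI : (Q.subgroupOf F.Y).Normal := ⟨fun q hq y => F.Q_normal _ (F.Y_le y.2) _ hq⟩
  let π := QuotientGroup.mk' (Q.subgroupOf F.Y)
  have hπ : ∀ z : ↥F.Y, π z = 1 ↔ (z : G) ∈ Q := fun z => (QuotientGroup.eq_one_iff z).trans mem_subgroupOf
  have hcen : ∀ z : ↥F.Y, F.φ z = 1 → ∀ w : ↥F.Y, π z * π w = π w * π z := by
    intro z hz w
    refine commutatorElement_eq_one_iff_mul_comm.1 ?_
    rw [← map_commutatorElement, hπ]
    exact F.ker_comm z w hz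
  obtain ⟨i, hi⟩ := hK.exists_index
  obtain ⟨fj, hfj, hfi, hfk⟩ := F.flip i
  intro y₀ hy₀
  obtain ⟨j, hj, hjs⟩ := F.exists_J_sign fun k => Equiv.Perm.sign (F.φ ⟨y₀, hy₀⟩ k)
  set y' : ↥F.Y := j⁻¹ * ⟨y₀, hy₀⟩ with hy'
  have hy's : ∀ k, Equiv.Perm.sign (F.φ y' k) = 1 := fun k => by
    rw [hy', map_mul, map_inv, Pi.mul_apply, Pi.inv_apply, map_mul, map_inv, hjs k, inv_mul_cancel]
  obtain ⟨e, he, hei⟩ := hK.exists_exp hi (F.φ y' i) (hy's i)
  set r : ↥F.Y := e⁻¹ * y' with hr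
  have hri : F.φ r i = 1 := by rw [hr, map_mul, map_inv, Pi.mul_apply, Pi.inv_apply, hei, inv_mul_cancel]
  have hrs : ∀ k, Equiv.Perm.sign (F.φ r k) = 1 := fun k => by
    rw [hr, map_mul, map_inv, Pi.mul_apply, Pi.inv_apply, map_mul, map_inv, hy's k, hK.sign_eq e he k, inv_one, one_mul]
  suffices hrN : (r : G) ∈ normalizer (K : Set G) by
    have e1 : y₀ = (j : G) * ((e : G) * (r : G)) := by simp [hr, hy']
    rw [e1]
    exact mul_mem (hK.J_norm hj) (mul_mem (le_normalizer he) hrN)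
  refine mem_normalizer_of_odd hK.gen fun x hx hxo => ?_
  set x' : ↥F.Y := ⟨x, hK.le hx⟩ with hx'
  set c : ↥F.Y := r * x' * r⁻¹ * x'⁻¹ with hc
  have hc1 : F.φ c = 1 := funext fun k => by
    rw [hc, map_mul, map_mul, map_mul, map_inv, map_inv, Pi.mul_apply, Pi.mul_apply, Pi.mul_apply,
      Pi.inv_apply, Pi.inv_apply, Pi.one_apply]
    by_cases hk : k = i
    · subst hk; rw [hri]; simp
    · rw [hi.1 x' hx k hk]; simp
  -- conjugation by an element of `J` with a single sign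
  set z : ↥F.Y := r⁻¹ * (fj * r * fj⁻¹) with hz
  have hz1 : F.φ z = 1 := funext fun k => by
    rw [hz, map_mul, map_mul, map_mul, map_inv, map_inv, Pi.mul_apply, Pi.mul_apply, Pi.mul_apply,
      Pi.inv_apply, Pi.inv_apply, Pi.one_apply]
    by_cases hk : k = i
    · subst hk; rw [hri]; simp
    · rw [perm3_even_comm _ _ (hfk k hk) (hrs k), inv_mul_cancel]
  have hjb : π fj * π x' * (π fj)⁻¹ = (π x')⁻¹ := by
    refine eq_inv_of_mul_eq_one_left ?_
    rw [← map_inv π, ← map_mul π, ← map_mul π, ← map_mul π, hπ]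
    exact (hK.core_ker (hK.inverts hi hfj hfi hx)).2
  have hja : π fj * π r * (π fj)⁻¹ = π r * π z := by
    rw [← map_inv π, ← map_mul π, ← map_mul π, ← map_mul π, hz]
    simp
  have hcc := hcen c hc1
  have hzc := hcen z hz1
  have h1 : π fj * π c * (π fj)⁻¹ = π c := by rw [← hcc, mul_inv_cancel_right]
  have h2 : π fj * π c * (π fj)⁻¹ = (π c)⁻¹ := by
    have e1 : π c = π r * π x' * (π r)⁻¹ * (π x')⁻¹ := by rw [hc, map_mul, map_mul, map_mul, map_inv, map_inv]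
    calc π fj * π c * (π fj)⁻¹
        = (π fj * π r * (π fj)⁻¹) * (π fj * π x' * (π fj)⁻¹) * (π fj * π r * (π fj)⁻¹)⁻¹ *
            (π fj * π x' * (π fj)⁻¹)⁻¹ := by rw [e1]; group
      _ = π r * (π z * (π x')⁻¹) * (π z)⁻¹ * (π r)⁻¹ * π x' := by rw [hja, hjb]; group
      _ = π r * (π x')⁻¹ * (π r)⁻¹ * π x' := by
          rw [show π z * (π x')⁻¹ = (π x')⁻¹ * π z by rw [← map_inv]; exact hzc _]; group
      _ = (π x')⁻¹ * ((π c)⁻¹ * π x') := by rw [e1]; group
      _ = (π c)⁻¹ := by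
          rw [show (π c)⁻¹ * π x' = π x' * (π c)⁻¹ from
            ((show Commute (π c) (π x') from hcc x').inv_left).eq, inv_mul_cancel_left]
  have h3 : π c * π c = 1 := mul_eq_one_iff_eq_inv.2 (h1.symm.trans h2)
  have hcQ : (c : G) ∈ Q := F.ker_two c hc1 1 (by
    rw [pow_one, pow_two]; exact (hπ (c * c)).1 (by rw [map_mul, h3]))
  refine mem_of_odd_mem_sup F.Q_two hK.Q_norm ?_ ?_
  · rw [show (r : G) * x * (r : G)⁻¹ = (c : G) * x by simp [hc, hx']]
    exact mul_mem (mem_sup_right hcQ) (mem_sup_left hx)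
  · rw [show (r : G) * x * (r : G)⁻¹ = MulAut.conj (r : G) x from rfl, MulEquiv.orderOf_eq]
    exact hxo

theorem le_of_same_index {K' : Subgroup G} (hK' : Comp F K') {i : Fin F.n} (hi : AtIndex F K i)
    (hi' : AtIndex F K' i) : K' ≤ K := by
  classical
  haveI : (Q.subgroupOf F.Y).Normal := ⟨fun q hq y => F.Q_normal _ (F.Y_le y.2) _ hq⟩
  let π := QuotientGroup.mk' (Q.subgroupOf F.Y)
  have hπ : ∀ z : ↥F.Y, π z = 1 ↔ (z : G) ∈ Q := fun z => (QuotientGroup.eq_one_iff z).trans mem_subgroupOf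
  have hcen : ∀ z : ↥F.Y, F.φ z = 1 → ∀ w : ↥F.Y, π z * π w = π w * π z := by
    intro z hz w
    refine commutatorElement_eq_one_iff_mul_comm.1 ?_
    rw [← map_commutatorElement, hπ]
    exact F.ker_comm z w hz
  obtain ⟨fj, hfj, hfi, hfk⟩ := F.flip i
  conv_lhs => rw [← hK'.gen]
  rw [closure_le]
  rintro x ⟨hx, hxo⟩
  set x' : ↥F.Y := ⟨x, hK'.le hx⟩ with hx'
  obtain ⟨e, he, hei⟩ := hK.exists_exp hi (F.φ x' i) (hK'.sign_eq x' hx i)
  set c : ↥F.Y := e⁻¹ * x' with hc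
  have hc1 : F.φ c = 1 := funext fun k => by
    rw [hc, map_mul, map_inv, Pi.mul_apply, Pi.inv_apply, Pi.one_apply]
    by_cases hk : k = i
    · subst hk; rw [hei, inv_mul_cancel]
    · rw [hi.1 e he k hk, hi'.1 x' hx k hk]; simp
  have hcc := hcen c hc1
  have hje : π fj * π e * (π fj)⁻¹ = (π e)⁻¹ := by
    refine eq_inv_of_mul_eq_one_left ?_
    rw [← map_inv π, ← map_mul π, ← map_mul π, ← map_mul π, hπ]
    exact (hK.core_ker (hK.inverts hi hfj hfi he)).2
  have hjx : π fj * π x' * (π fj)⁻¹ = (π x')⁻¹ := by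
    refine eq_inv_of_mul_eq_one_left ?_
    rw [← map_inv π, ← map_mul π, ← map_mul π, ← map_mul π, hπ]
    exact (hK'.core_ker (hK'.inverts hi' hfj hfi hx)).2
  have e1 : π c = (π e)⁻¹ * π x' := by rw [hc, map_mul, map_inv]
  have h1 : π fj * π c * (π fj)⁻¹ = π c := by rw [← hcc, mul_inv_cancel_right]
  have h2 : π fj * π c * (π fj)⁻¹ = (π c)⁻¹ := by
    calc π fj * π c * (π fj)⁻¹ = (π fj * π e * (π fj)⁻¹)⁻¹ * (π fj * π x' * (π fj)⁻¹) := by rw [e1]; group
      _ = π e * (π x')⁻¹ := by rw [hje, hjx, inv_inv]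
      _ = π e * (π c)⁻¹ * (π e)⁻¹ := by rw [e1]; group
      _ = (π c)⁻¹ := by
          rw [show π e * (π c)⁻¹ = (π c)⁻¹ * π e from ((show Commute (π c) (π e) from hcc e).inv_left).eq.symm,
            mul_inv_cancel_right]
  have h3 : π c * π c = 1 := mul_eq_one_iff_eq_inv.2 (h1.symm.trans h2)
  have hcQ : (c : G) ∈ Q := F.ker_two c hc1 1 (by
    rw [pow_one, pow_two]; exact (hπ (c * c)).1 (by rw [map_mul, h3]))
  refine mem_of_odd_mem_sup F.Q_two hK.Q_norm ?_ hxo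
  rw [show x = (e : G) * (c : G) by simp [hc, hx']]
  exact mul_mem (mem_sup_left he) (mem_sup_right hcQ)

theorem eq_of_same_index {K' : Subgroup G} (hK' : Comp F K') {i : Fin F.n} (hi : AtIndex F K i)
    (hi' : AtIndex F K' i) : K' = K :=
  le_antisymm (hK.le_of_same_index hK' hi hi') (hK'.le_of_same_index hK hi' hi)

theorem conj {l : G} (hl : l ∈ L) : Comp F (K.map (MulAut.conj l).toMonoidHom) := by
  set f := (MulAut.conj l).toMonoidHom with hf
  have hfi : Function.Injective f := (MulAut.conj l).injective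
  have hle : K.map f ≤ F.Y := by
    rintro _ ⟨x, hx, rfl⟩
    exact F.Y_normal l hl x (hK.le hx)
  have hYn : F.Y ≤ normalizer ((K.map f : Subgroup G) : Set G) := by
    intro y hy
    refine CfsgLib.LocalEvenB.mem_normalizer_of_forall ?_
    rintro _ ⟨x, hx, rfl⟩
    have hy' : l⁻¹ * y * l ∈ F.Y := by simpa using F.Y_normal l⁻¹ (inv_mem hl) y hy
    refine ⟨(l⁻¹ * y * l) * x * (l⁻¹ * y * l)⁻¹, (mem_normalizer_iff.1 (hK.normalizes hy') x).1 hx, ?_⟩
    show l * _ * l⁻¹ = y * (l * x * l⁻¹) * y⁻¹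
    group
  refine ⟨hle, ?_, ?_, F.J_le.trans hYn, F.Q_le.trans hYn, ?_⟩
  · refine le_antisymm (by rw [closure_le]; exact fun x hx => hx.1) (map_le_iff_le_comap.2 ?_)
    conv_lhs => rw [← hK.gen]
    rw [closure_le]
    exact fun x hx => subset_closure ⟨mem_map_of_mem f hx.1, by
      rw [orderOf_injective f hfi]; exact hx.2⟩
  · rw [← pCoreOf_map_inj f hfi, relIndex_map_map_of_injective _ _ hfi]
    exact hK.index
  · obtain ⟨x, hx, hx1⟩ := hK.notker
    refine ⟨⟨l * x * l⁻¹, F.Y_normal l hl x x.2⟩, ⟨x, hx, rfl⟩, fun h1 => hx1 ?_⟩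
    have := F.ker_conj l⁻¹ (inv_mem hl) _ h1
    convert this using 2
    exact Subtype.ext (by simp [mul_assoc])

/-- A factor is subnormal in `L`. -/
theorem isSubnormal : (K.subgroupOf L).IsSubnormal := by
  refine IsSubnormal.step _ (F.Y.subgroupOf L) (fun x hx => hK.le hx) ?_ ?_
  · exact (Normal.isSubnormal ⟨fun y hy l => F.Y_normal l l.2 y hy⟩)
  · exact ⟨fun x hx y => (mem_normalizer_iff.1 (hK.normalizes y.2) ((x : ↥L) : G)).1 hx⟩

/-- Different factors centralise the four-groups of each other. -/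
theorem centralizes {K' : Subgroup G} (hK' : Comp F K') {i i' : Fin F.n} (hi : AtIndex F K i)
    (hi' : AtIndex F K' i') (hne : i ≠ i') (hW4 : Nat.card ↥(wOf K) = 4) (hWsq : ∀ w ∈ wOf K, w * w = 1)
    (hWc : pCoreOf 2 K ≤ centralizer (wOf K : Set G)) {c : G} (hcK : c ∈ K) (hco : Odd (orderOf c))
    (hcc : c ∉ centralizer (wOf K : Set G)) : K' ≤ centralizer (wOf K : Set G) := by
  set W := wOf K with hW
  have hYW : F.Y ≤ normalizer (W : Set G) := hK.normalizes.trans (normalizer_le_normalizer_wOf K)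
  have hW1 : W ≠ ⊥ := fun h => by rw [h, card_bot] at hW4; omega
  have hW2 : IsPGroup 2 W := IsPGroup.of_card (n := 2) (by rw [hW4]; rfl)
  have hcW : c ∈ normalizer (W : Set G) := hYW (hK.le hcK)
  -- an element commuting with the action of `c` and fixing a point centralises `W`
  have key : ∀ g : G, g ∈ normalizer (W : Set G) → c⁻¹ * g * c * g⁻¹ ∈ centralizer (W : Set G) →
      ∀ u ∈ W, u ≠ 1 → g * u = u * g → g ∈ centralizer (W : Set G) := by
    intro g hgN hgc u hu hu1 hgu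
    have hv : c * u * c⁻¹ ∈ W := (mem_normalizer_iff.1 hcW u).1 hu
    have hne : c * u * c⁻¹ ≠ u := fun h => hcc (mem_centralizer_iff.2 fun w hw =>
      (four_odd_fixed hW4 hWsq hcW hco hu hu1 (mul_inv_eq_iff_eq_mul.1 h) w hw).symm)
    have hgv : g * (c * u * c⁻¹) = c * u * c⁻¹ * g := by
      have h1 := mem_centralizer_iff.1 hgc u hu
      have h1' : c⁻¹ * g * c * u * (c⁻¹ * g * c)⁻¹ = u := by
        have hgu' : g⁻¹ * u * g = u := by rw [mul_assoc, ← hgu, inv_mul_cancel_left]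
        calc c⁻¹ * g * c * u * (c⁻¹ * g * c)⁻¹
            = (c⁻¹ * g * c * g⁻¹) * g * u * g⁻¹ * (c⁻¹ * g * c * g⁻¹)⁻¹ := by group
          _ = (c⁻¹ * g * c * g⁻¹) * u * (c⁻¹ * g * c * g⁻¹)⁻¹ := by
              rw [mul_assoc _ g u, hgu, ← mul_assoc, mul_inv_cancel_right]
          _ = u := by rw [← h1, mul_inv_cancel_right]
      refine mul_inv_eq_iff_eq_mul.1 ?_
      calc g * (c * u * c⁻¹) * g⁻¹ = c * (c⁻¹ * g * c * u * (c⁻¹ * g * c)⁻¹) * c⁻¹ := by group
        _ = c * u * c⁻¹ := by rw [h1']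
    exact mem_centralizer_iff.2 fun w hw =>
      (four_fixed hW4 hWsq hu hv hu1 (fun h => hu1 (conj_eq_one_iff.1 h)) hne.symm hgu hgv w hw).symm
  obtain ⟨u, hu, hu1, huQ⟩ := exists_fixed_of_two F.Q_two hW2 hW1 (F.Q_le.trans hYW)
  have hQW : Q ≤ centralizer (W : Set G) := by
    intro q hq
    refine mem_centralizer_iff.2 fun w hw => ?_
    have hq' : c⁻¹ * q * c ∈ Q := by simpa using F.Q_normal c⁻¹ (inv_mem (F.Y_le (hK.le hcK))) q hq
    have hv : c * u * c⁻¹ ∈ W := (mem_normalizer_iff.1 hcW u).1 hu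
    have hne : c * u * c⁻¹ ≠ u := fun h => hcc (mem_centralizer_iff.2 fun w hw =>
      (four_odd_fixed hW4 hWsq hcW hco hu hu1 (mul_inv_eq_iff_eq_mul.1 h) w hw).symm)
    refine (four_fixed hW4 hWsq hu hv hu1 (fun h => hu1 (conj_eq_one_iff.1 h)) hne.symm (huQ q hq) ?_ w hw).symm
    calc q * (c * u * c⁻¹) = c * ((c⁻¹ * q * c) * u) * c⁻¹ := by group
      _ = c * (u * (c⁻¹ * q * c)) * c⁻¹ := by rw [huQ _ hq']
      _ = c * u * c⁻¹ * q := by group
  obtain ⟨fj, hfj, hfi, hfk⟩ := F.flip i'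
  obtain ⟨u', hu', hu'1, huJ⟩ := exists_fixed_of_two F.J_two hW2 hW1 (F.J_le.trans hYW)
  have hjW : (fj : G) ∈ centralizer (W : Set G) := by
    refine key _ (hYW fj.2) ?_ u' hu' hu'1 (huJ _ hfj)
    have h := hWc (hK.fixes hi hfj (hfk i hne) (y := ⟨c, hK.le hcK⟩) hcK)
    rw [mem_centralizer_iff] at h ⊢
    intro w hw
    have hw' : c * w * c⁻¹ ∈ W := (mem_normalizer_iff.1 hcW w).1 hw
    have h' := h _ hw'
    simp only [Subgroup.coe_mul, InvMemClass.coe_inv] at h'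
    calc w * (c⁻¹ * fj * c * (fj : G)⁻¹) = c⁻¹ * ((c * w * c⁻¹) * ((fj : G) * c * (fj : G)⁻¹ * c⁻¹)) * c := by group
      _ = c⁻¹ * (((fj : G) * c * (fj : G)⁻¹ * c⁻¹) * (c * w * c⁻¹)) * c := by rw [h']
      _ = c⁻¹ * fj * c * (fj : G)⁻¹ * w := by group
  conv_lhs => rw [← hK'.gen]
  rw [closure_le]
  rintro x ⟨hx, hxo⟩
  have hxW : x ∈ normalizer (W : Set G) := hYW (hK'.le hx)
  have hd : (fj : G) * x * (fj : G)⁻¹ * x ∈ centralizer (W : Set G) :=
    hQW (hK'.core_ker (hK'.inverts hi' hfj hfi (y := ⟨x, hK'.le hx⟩) hx)).2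
  rw [SetLike.mem_coe, mem_centralizer_iff]
  intro w hw
  obtain ⟨m, hm⟩ := exists_pow_eq_self_of_coprime (x := x) (n := 2) (Nat.coprime_two_left.2 hxo)
  have h2 : Commute (x ^ 2) w := by
    have hxw : x * w * x⁻¹ ∈ W := (mem_normalizer_iff.1 hxW w).1 hw
    have hxxw : x * (x * w * x⁻¹) * x⁻¹ ∈ W := (mem_normalizer_iff.1 hxW _).1 hxw
    have e1 := mem_centralizer_iff.1 hd w hw
    have e2 := mem_centralizer_iff.1 hjW _ hxw
    have e3 : (fj : G)⁻¹ * w * fj = w := by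
      rw [mul_assoc, mem_centralizer_iff.1 hjW w hw, inv_mul_cancel_left]
    have e5 : (fj : G) * x * (fj : G)⁻¹ * (x * w * x⁻¹) * fj * x⁻¹ * (fj : G)⁻¹ = w := by
      calc (fj : G) * x * (fj : G)⁻¹ * (x * w * x⁻¹) * fj * x⁻¹ * (fj : G)⁻¹
          = ((fj : G) * x * (fj : G)⁻¹ * x) * w * ((fj : G) * x * (fj : G)⁻¹ * x)⁻¹ := by group
        _ = w := by rw [← e1, mul_inv_cancel_right]
    have e6 : (fj : G)⁻¹ * (x * w * x⁻¹) * fj = x * w * x⁻¹ := by
      rw [mul_assoc, e2, inv_mul_cancel_left]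
    have e7 : x * (x * w * x⁻¹) * x⁻¹ = w := by
      calc x * (x * w * x⁻¹) * x⁻¹ = x * ((fj : G)⁻¹ * (x * w * x⁻¹) * fj) * x⁻¹ := by rw [e6]
        _ = (fj : G)⁻¹ * ((fj : G) * x * (fj : G)⁻¹ * (x * w * x⁻¹) * fj * x⁻¹ * (fj : G)⁻¹) * fj := by group
        _ = w := by rw [e5, e3]
    refine mul_inv_eq_iff_eq_mul.1 ?_
    rw [pow_two]
    calc x * x * w * (x * x)⁻¹ = x * (x * w * x⁻¹) * x⁻¹ := by group
      _ = w := e7
  exact ((hm ▸ h2.pow_left m : Commute x w)).eq.symm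

end Comp

end CfsgLib.LocalEvenB.JOver
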