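import Cfsg.Agent.Lib.LocalEvenB.JOver.Path

/-!
# Four-groups of two components with different overgroups do not commute
-/

set_option autoImplicit false
set_option linter.all false

namespace CfsgLib.LocalEvenB.JOver

open Subgroup Cfsg
open scoped commutatorElement Pointwise

variable {G : Type*} [Group G] [Finite G]

/-- The point of a vertex. -/
def IsPoint (T K : Subgroup G) (z : G) : Prop := z ∈ jCenter T ∧ z ∈ wOf K ∧ z ≠ 1

theorem isPoint_conj {T K : Subgroup G} {z g : G} (h : IsPoint T K z)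
    (hg : g ∈ normalizer (thompsonSubgroupOf 2 T : Set G)) :
    IsPoint T (K.map (MulAut.conj g).toMonoidHom) (g * z * g⁻¹) := by
  refine ⟨(mem_normalizer_iff.1 (jCenter_fixed_normal hg) z).1 h.1, ?_, fun h1 => h.2.2 (conj_eq_one_iff.1 h1)⟩
  rw [← wOf_map]
  exact ⟨z, h.2.1, rfl⟩

omit [Finite G] in
theorem mem_of_two_points {A B : Subgroup G} (hA : Nat.card A = 4) (hAsq : ∀ w ∈ A, w * w = 1) {u v : G}
    (huA : u ∈ A) (hvA : v ∈ A) (huB : u ∈ B) (hvB : v ∈ B) (hu : u ≠ 1) (hv : v ≠ 1) (huv : u ≠ v) : A ≤ B := by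
  intro w hw
  rcases four_cases hA huA hvA hu hv huv (hAsq u huA) hw with h | h | h | h <;> rw [h]
  · exact one_mem _
  · exact huB
  · exact hvB
  · exact mul_mem huB hvB

namespace Vtx

variable {T K L : Subgroup G} (v : Vtx T K L)
include v

theorem isPoint_unique {z z' : G} (h : IsPoint T K z) (h' : IsPoint T K z') : z' = z := by
  obtain ⟨z₀, -, -, -, huniq, -, -⟩ := v.exists_point
  rw [(huniq z h.2.1 h.1).resolve_left h.2.2, (huniq z' h'.2.1 h'.1).resolve_left h'.2.2]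

theorem exists_isPoint : ∃ z, IsPoint T K z := by
  obtain ⟨z, h1, h2, h3, -⟩ := v.exists_point
  exact ⟨z, h3, h1, h2⟩

theorem point_fixed {z : G} (hz : IsPoint T K z) {t : G} (ht : t ∈ T) : t * z = z * t := by
  obtain ⟨z₀, -, -, -, huniq, hfix, -⟩ := v.exists_point
  rw [(huniq z hz.2.1 hz.1).resolve_left hz.2.2]
  exact hfix t ht

theorem W_card : Nat.card ↥(wOf K) = 4 := v.jc.2.2.2.2.1

theorem W_sq : ∀ w ∈ wOf K, w * w = 1 := v.jc.2.2.2.2.2

theorem comm_point {z : G} (hz : IsPoint T K z) {t w : G} (ht : t ∈ T) (hw : w ∈ wOf K) :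
    t * w * t⁻¹ * w⁻¹ = 1 ∨ t * w * t⁻¹ * w⁻¹ = z := by
  obtain ⟨z', hzW, hz1, hz'J, huniq, hfix, hmove⟩ := v.exists_point
  have hzz : z = z' := (huniq z hz.2.1 hz.1).resolve_left hz.2.2
  subst hzz
  by_cases htc : t ∈ centralizer (wOf K : Set G)
  · exact Or.inl (by rw [← mem_centralizer_iff.1 htc w hw]; group)
  have htw : t * w * t⁻¹ ∈ wOf K := (mem_normalizer_iff.1 (v.T_le_normalizer_W ht) w).1 hw
  by_cases hw1 : w = 1
  · left; rw [hw1]; group
  by_cases hwz : w = z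
  · left; rw [hwz, hfix t ht]; group
  rcases four_cases v.W_card hzW hw hz1 hw1 (Ne.symm hwz) (v.W_sq z hzW) htw with h | h | h | h
  · exact absurd (conj_eq_one_iff.1 h) hw1
  · refine absurd ((MulAut.conj t).injective ?_) hwz
    show t * w * t⁻¹ = t * z * t⁻¹
    rw [h, hfix t ht, mul_inv_cancel_right]
  · left; rw [h, mul_inv_cancel]
  · right; rw [h, mul_inv_cancel_right]

theorem K_eq_sup {x : G} (hx : x ∈ K) (hxc : x ∉ centralizer (wOf K : Set G)) :
    zpowers x ⊔ pCoreOf 2 K = K := by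
  obtain ⟨S, hd⟩ := exists_jData v.T_two v.jc
  have hle : pCoreOf 2 K ≤ zpowers x ⊔ pCoreOf 2 K := le_sup_right
  have hK : zpowers x ⊔ pCoreOf 2 K ≤ K := sup_le (zpowers_le.2 hx) (map_subtype_le _)
  have h1 := relIndex_mul_relIndex _ _ K hle hK
  rw [v.jc.2.2.1] at h1
  rcases (Nat.dvd_prime Nat.prime_three).1 (Dvd.intro_left _ h1) with h | h
  · exact le_antisymm hK (relIndex_eq_one.1 h)
  · rw [h] at h1
    have h2 : (pCoreOf 2 K).relIndex (zpowers x ⊔ pCoreOf 2 K) = 1 := by omega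
    exact absurd (hd.Q_centralizes_W (relIndex_eq_one.1 h2 (mem_sup_left (mem_zpowers x)))) hxc

theorem core_le_T : pCoreOf 2 K ≤ T := v.core_le.trans inf_le_left

theorem T_sq_centralizes {t : G} (ht : t ∈ T) : t * t ∈ centralizer (wOf K : Set G) := by
  by_cases htc : t ∈ centralizer (wOf K : Set G)
  · exact mul_mem htc htc
  · exact v.mul_centralizes ht ht htc htc

theorem not_mem_jFix_point {z : G} (hz : IsPoint T K z) : z ∉ jFix T K := fun h =>
  hz.2.2 (mem_bot.1 ((jFix_inf_wOf v.T_two v.jc) ▸ mem_inf.2 ⟨h, hz.2.1⟩))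

theorem inv_conj {x q : G} (hx : x ∈ K) (hq : q ∈ wKer T K) : x⁻¹ * q * x ∈ wKer T K :=
  (mem_normalizer_iff''.1 (v.K_le_normalizer_wKer hx) q).1 hq

theorem conj_ker {x q : G} (hx : x ∈ K) (hq : q ∈ wKer T K) : x * q * x⁻¹ ∈ wKer T K :=
  (mem_normalizer_iff.1 (v.K_le_normalizer_wKer hx) q).1 hq

end Vtx

variable {T A B LA LB : Subgroup G}

omit [Finite G] in
theorem vW_one (K : Bool → Subgroup G) (i : Bool) : vW K (i, 1) = wOf (K i) := by
  unfold vW
  ext x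
  simp [CfsgLib.LocalEvenB.mem_map_conj]

theorem W_le_T_of_vtx (va : Vtx T A LA) : wOf A ≤ T := by
  refine (wOf_le_core va.set va.jc va.le).trans ?_
  obtain ⟨h1, h2, h3⟩ := va.set.syl
  intro q hq
  obtain ⟨q', hq', rfl⟩ := hq
  exact CfsgLib.Core.pCore_le_sylow ((h2.comap_subtype (K := LA)).toSylow
    (fun hd => Nat.not_even_iff_odd.2 h3 (even_iff_two_dvd.2 hd))) hq'

theorem W_self_comm (va : Vtx T A LA) : wOf A ≤ centralizer (wOf A : Set G) := by
  obtain ⟨S, hd⟩ := exists_jData va.T_two va.jc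
  exact le_centralizer_iff_isMulCommutative.2
    (CfsgLib.Techniques.abelian_mono (JData.omegaCenter_elementary _).1 hd.W_le_omega)

theorem pair_core_bot (va : Vtx T A LA) (vb : Vtx T B LB) (hne : LA ≠ LB) : pCoreOf 2 (A ⊔ B ⊔ T) = ⊥ :=
  (⟨fun i => by cases i <;> assumption, hne⟩ :
    VtxPair T (fun i => bif i then A else B) (fun i => bif i then LA else LB)).core_bot

theorem exists_ker_moving (va : Vtx T A LA) (vb : Vtx T B LB) (hne : LA ≠ LB) :
    ∃ q ∈ wKer T A, q ∉ centralizer (wOf B : Set G) := by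
  by_contra h0
  push Not at h0
  have heq : wKer T A = wKer T B := by
    refine eq_of_le_of_card_ge (fun q hq => mem_inf.2 ⟨(mem_inf.1 hq).1, h0 q hq⟩) ?_
    have h1 := va.card_T
    have h2 := vb.card_T
    omega
  have hn : A ⊔ B ⊔ T ≤ normalizer (wKer T A : Set G) :=
    sup_le (sup_le va.K_le_normalizer_wKer (heq ▸ vb.K_le_normalizer_wKer)) va.T_le_normalizer_wKer
  have hle : wKer T A ≤ pCoreOf 2 (A ⊔ B ⊔ T) :=
    CfsgLib.LocalEvenB.le_pCoreOf (inf_le_left.trans le_sup_right) (va.T_two.to_le inf_le_left) hn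
  rw [pair_core_bot va vb hne, le_bot_iff] at hle
  obtain ⟨z, hz⟩ := va.exists_isPoint
  exact hz.2.2 (mem_bot.1 (hle ▸ mem_inf.2 ⟨W_le_T_of_vtx va hz.2.1, W_self_comm va hz.2.1⟩))

/-- A conjugate four-group absorbed by `W_A`. -/
theorem absorb (va : Vtx T A LA) (vb : Vtx T B LB) {x u : G} (hx : x ∈ A) (hxo : Odd (orderOf x))
    (hu : u ∈ T) (huc : u ∉ centralizer (wOf A : Set G))
    (h : ∀ w ∈ wOf B, u * (x * w * x⁻¹) * u⁻¹ * (x * w * x⁻¹)⁻¹ ∈ wOf A) :
    wOf B ≤ wOf A ⊔ (wOf B).map (MulAut.conj (x * x)).toMonoidHom := by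
  intro w hw
  obtain ⟨q, hq, hqe⟩ : ∃ q ∈ wKer T A, u * x * u⁻¹ = q * x⁻¹ :=
    ⟨_, va.inverts hu huc hx hxo, by group⟩
  have hq' : x⁻¹ * q * x ∈ T := (mem_inf.1 (va.inv_conj hx hq)).1
  set r := x * q * x⁻¹ with hr
  have hrT : r ∈ T := (mem_inf.1 (va.conj_ker hx hq)).1
  -- choose the preimage
  set w₁ := u⁻¹ * (r⁻¹ * w * r) * u with hw₁
  have hr' : r⁻¹ * w * r ∈ wOf B := (mem_normalizer_iff''.1 (vb.T_le_normalizer_W hrT) w).1 hw
  have hw₁W : w₁ ∈ wOf B := (mem_normalizer_iff''.1 (vb.T_le_normalizer_W hu) _).1 hr'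
  have e1 : u * (x * w₁ * x⁻¹) * u⁻¹ = x⁻¹ * w * x := by
    calc u * (x * w₁ * x⁻¹) * u⁻¹ = (u * x * u⁻¹) * (u * w₁ * u⁻¹) * (u * x * u⁻¹)⁻¹ := by group
      _ = (q * x⁻¹) * (r⁻¹ * w * r) * (q * x⁻¹)⁻¹ := by rw [hqe, hw₁]; group
      _ = x⁻¹ * w * x := by rw [hr]; group
  have h1 := h w₁ hw₁W
  rw [e1] at h1
  have h2 : x * (x⁻¹ * w * x * (x * w₁ * x⁻¹)⁻¹) * x⁻¹ ∈ wOf A :=
    (mem_normalizer_iff.1 (va.K_le_normalizer_W hx) _).1 h1
  have e2 : w = (x * (x⁻¹ * w * x * (x * w₁ * x⁻¹)⁻¹) * x⁻¹) * ((x * x) * w₁ * (x * x)⁻¹) := by group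
  rw [e2]
  exact mul_mem (mem_sup_left h2) (mem_sup_right ⟨w₁, hw₁W, rfl⟩)

/-- After absorption the point of `B` is fixed by `A`. -/
theorem point_mem_jFix_of_absorb (va : Vtx T A LA) (vb : Vtx T B LB) (hne : LA ≠ LB)
    (hcomm : wOf A ≤ centralizer (wOf B : Set G)) {x : G} (hx : x ∈ A) (hxo : Odd (orderOf x))
    (hxc : x ∉ centralizer (wOf A : Set G))
    (h : wOf B ≤ wOf A ⊔ (wOf B).map (MulAut.conj (x * x)).toMonoidHom) {zb : G} (hzb : IsPoint T B zb) :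
    zb ∈ jFix T A := by
  obtain ⟨q, hq, hqc⟩ := exists_ker_moving va vb hne
  obtain ⟨w, hw, hqw⟩ : ∃ w ∈ wOf B, q * w * q⁻¹ * w⁻¹ ≠ 1 := by
    by_contra h0
    push Not at h0
    exact hqc (mem_centralizer_iff.2 fun w hw => (mul_inv_eq_iff_eq_mul.1 (mul_inv_eq_one.1 (h0 w hw))).symm)
  have hqwz : q * w * q⁻¹ * w⁻¹ = zb :=
    (vb.comm_point hzb (mem_inf.1 hq).1 hw).resolve_left hqw
  set y := x * x with hy
  have hyA : y ∈ A := mul_mem hx hx
  have hYc : (wOf B).map (MulAut.conj y).toMonoidHom ≤ normalizer (wOf A : Set G) := by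
    rintro _ ⟨b, hb, rfl⟩
    refine centralizer_le_normalizer _ (mem_centralizer_iff.2 fun a ha => ?_)
    have ha' : y⁻¹ * a * y ∈ wOf A := (mem_normalizer_iff''.1 (va.K_le_normalizer_W hyA) a).1 ha
    have hc := mem_centralizer_iff.1 (hcomm ha') b hb
    show a * (y * b * y⁻¹) = y * b * y⁻¹ * a
    calc a * (y * b * y⁻¹) = y * ((y⁻¹ * a * y) * b) * y⁻¹ := by group
      _ = y * (b * (y⁻¹ * a * y)) * y⁻¹ := by rw [hc]
      _ = y * b * y⁻¹ * a := by group
  have hw' : w ∈ (wOf A : Set G) * ((wOf B).map (MulAut.conj y).toMonoidHom : Set G) := by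
    rw [← coe_mul_of_right_le_normalizer_left (wOf A) _ hYc]
    exact h hw
  obtain ⟨a, ha, _, ⟨b, hb, rfl⟩, hab⟩ := hw'
  have hqa : q * a * q⁻¹ = a := by
    rw [← mem_centralizer_iff.1 (mem_inf.1 hq).2 a ha, mul_inv_cancel_right]
  set q' := y⁻¹ * q * y with hq'
  have hq'T : q' ∈ T := (mem_inf.1 (va.inv_conj hyA hq)).1
  have hbmem : q' * b * q'⁻¹ * b⁻¹ ≠ 1 → q' * b * q'⁻¹ * b⁻¹ = zb := fun hne1 =>
    (vb.comm_point hzb hq'T hb).resolve_left hne1
  have e1 : q * w * q⁻¹ * w⁻¹ = a * (y * (q' * b * q'⁻¹ * b⁻¹) * y⁻¹) * a⁻¹ := by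
    rw [← hab]
    calc q * (a * (y * b * y⁻¹)) * q⁻¹ * (a * (y * b * y⁻¹))⁻¹
        = (q * a * q⁻¹) * (y * (q' * b * q'⁻¹ * b⁻¹) * y⁻¹) * a⁻¹ := by rw [hq']; group
      _ = _ := by rw [hqa]
  by_cases hb1 : q' * b * q'⁻¹ * b⁻¹ = 1
  · rw [hb1, hqwz] at e1
    exact absurd (by rw [e1]; group) hzb.2.2
  rw [hbmem hb1, hqwz] at e1
  have e2 : y * zb * y⁻¹ = a⁻¹ * zb * a := by
    conv_rhs => rw [e1]
    group
  have hazb : a⁻¹ * zb * a = zb := by
    rw [mul_assoc, mem_centralizer_iff.1 (hcomm ha) zb hzb.2.1, inv_mul_cancel_left]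
  rw [hazb] at e2
  obtain ⟨k, hk⟩ := exists_pow_eq_self_of_coprime (x := x) (n := 2) (Nat.coprime_two_left.2 hxo)
  have hxz : Commute x zb := by
    have h2 : Commute (x ^ 2) zb := by
      rw [pow_two]
      exact mul_inv_eq_iff_eq_mul.1 e2
    exact hk ▸ h2.pow_left k
  refine mem_inf.2 ⟨hzb.1, ?_⟩
  have hle : A ≤ centralizer ({zb} : Set G) := by
    rw [← va.K_eq_sup hx hxc]
    exact sup_le (zpowers_le.2 (mem_centralizer_singleton_iff.2 hxz.eq))
      (fun t ht => mem_centralizer_singleton_iff.2 (vb.point_fixed hzb (va.core_le_T ht)))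
  exact mem_centralizer_iff.2 fun a ha => mem_centralizer_singleton_iff.1 (hle ha)

/-- Two components with the same point have noncommuting four-groups. -/
theorem not_commute_of_common {K L : Bool → Subgroup G} (P : VtxPair T K L) {z : G}
    (hz : ∀ i, IsPoint T (K i) z) : ¬ wOf (K true) ≤ centralizer (wOf (K false) : Set G) := by
  classical
  intro hcomm
  have hcomm' : ∀ i, wOf (K i) ≤ centralizer (wOf (K (!i)) : Set G) := fun i => by
    cases i
    · exact le_centralizer_iff.1 hcomm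
    · exact hcomm
  have hedge : ∀ (i : Bool) (e : G), vW K (!i, e) ≤ centralizer (vW K (i, e) : Set G) := by
    rintro i e _ ⟨u, hu, rfl⟩
    refine mem_centralizer_iff.2 ?_
    rintro _ ⟨w, hw, rfl⟩
    rw [← map_mul, ← map_mul]
    congr 1
    have h := hcomm' (!i) hu
    rw [Bool.not_not] at h
    exact mem_centralizer_iff.1 h w hw
  obtain ⟨n₀, a₀, c₀, hp₀, hnc₀⟩ := P.exists_noncommuting
  have hex : ∃ n, ∃ a c, VPath T K n a c ∧ ¬ vW K a ≤ centralizer (vW K c : Set G) := ⟨n₀, a₀, c₀, hp₀, hnc₀⟩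
  obtain ⟨a, c, hp, hnc⟩ := Nat.find_spec hex
  have hmin : ∀ n, n < Nat.find hex → ∀ a c, VPath T K n a c → vW K a ≤ centralizer (vW K c : Set G) := by
    intro n hn a c h
    by_contra h'
    exact Nat.find_min hex hn ⟨a, c, h, h'⟩
  obtain ⟨b, hb⟩ : ∃ b, Nat.find hex = b + 1 := by
    rcases Nat.eq_zero_or_eq_succ_pred (Nat.find hex) with h | h
    · exfalso
      rw [h] at hp
      cases hp
      refine hnc ?_
      rintro _ ⟨u, hu, rfl⟩
      refine mem_centralizer_iff.2 ?_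
      rintro _ ⟨w, hw, rfl⟩
      rw [← map_mul, ← map_mul]
      exact congrArg _ (mem_centralizer_iff.1 (W_self_comm (P.v a.1) hu) w hw)
    · exact ⟨_, h⟩
  rw [hb] at hp hmin
  obtain ⟨m, e, hpm, hm, hmQ, hc, -, hae⟩ := P.critical hmin hp
  obtain ⟨m', e', -, -, -, ha, ⟨p, hpP, hpe⟩, hce⟩ := P.critical hmin hp.symm
  obtain ⟨hpt, hz0a, hval⟩ := P.commutator_point hc ha hae hce hnc (za := z) (zc := z)
    (hz a.1).2.1 (hz a.1).2.2 (hz a.1).1 (hz c.1).2.1 (hz c.1).2.2 (hz c.1).1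
  have hz0m : e' * z * e'⁻¹ ∈ vW K m := by
    rw [hm, hpt]
    exact ⟨z, (hz _).2.1, rfl⟩
  -- shift backwards
  obtain ⟨x, hxK, hxo, hxc⟩ := (P.v a.1).exists_odd
  have hxP : x ∈ vP T K a.1 := mem_sup_left hxK
  set a' : Bool × G := (!a.1, e' * x) with ha'
  have hadj : vAdj T K a' a := by
    refine ⟨by simp [ha'], 1, one_mem _, p * x, mul_mem hpP hxP, ?_⟩
    show e' * x * 1 = a.2 * (p * x)
    rw [hpe]; group
  have hp' : VPath T K (b + 1) a' m := VPath.head hadj hpm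
  obtain ⟨m₂, e₂, -, -, -, hm₂, ⟨p₂, hp₂, hpe₂⟩, ha'e⟩ := P.critical hmin hp'
  have hma' : vW K m ≤ T.map (MulAut.conj (e' * x)).toMonoidHom := by
    have h1 : vW K m ≤ vQ T K a := P.le_vQ_of_lt hmin (Nat.lt_succ_self b) hpm.symm
    have h2 : vQ T K a = vQ T K (a.1, e' * x) := by
      rw [hpe, mul_assoc, P.vQ_mul (mul_mem hpP hxP)]
    exact h1.trans (h2.le.trans (P.vQ_le_edge _ _))
  have ha'W : vW K a' = vW K (a'.1, e' * x) := rfl
  by_cases hnc' : vW K a' ≤ centralizer (vW K m : Set G)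
  · -- no shift: absorption
    have ha'T : vW K a' ≤ T.map (MulAut.conj e).toMonoidHom := by
      intro w hw
      have h2 : vQ T K m = vQ T K (m.1, e₂) := by rw [hpe₂, P.vQ_mul hp₂]
      have : w ∈ vQ T K (m.1, e₂) := P.mem_vQ_of_edge (ha'e hw) (hm₂ ▸ hnc' hw)
      rw [← h2, hmQ] at this
      exact P.vQ_le_edge _ _ this
    obtain ⟨u, hu, huc⟩ := SetLike.not_le_iff_exists.1 (fun h => hnc (le_centralizer_iff.1 h))
    set u₀ := e'⁻¹ * u * e' with hu₀
    have hu₀T : u₀ ∈ T := mem_map_conj_iff'.1 (hce hu)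
    have hu₀c : u₀ ∉ centralizer (wOf (K a.1) : Set G) := by
      intro hcen
      refine huc ?_
      rw [ha]
      refine mem_centralizer_iff.2 ?_
      rintro _ ⟨w, hw, rfl⟩
      show e' * w * e'⁻¹ * u = u * (e' * w * e'⁻¹)
      calc e' * w * e'⁻¹ * u = e' * (w * u₀) * e'⁻¹ := by rw [hu₀]; group
        _ = e' * (u₀ * w) * e'⁻¹ := by rw [mem_centralizer_iff.1 hcen w hw]
        _ = u * (e' * w * e'⁻¹) := by rw [hu₀]; group
    have habs : wOf (K (!a.1)) ≤ wOf (K a.1) ⊔ (wOf (K (!a.1))).map (MulAut.conj (x * x)).toMonoidHom := by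
      refine absorb (P.v a.1) (P.v (!a.1)) hxK hxo hu₀T hu₀c fun w hw => ?_
      -- the commutator is the common point
      set w' := (e' * x) * w * (e' * x)⁻¹ with hw'
      have hw'm : w' ∈ vW K a' := ⟨w, hw, rfl⟩
      have hw'T := ha'T hw'm
      have huW : u ∈ vW K (c.1, e) := hc ▸ hu
      have h1 : e⁻¹ * w' * e ∈ T := mem_map_conj_iff'.1 hw'T
      have h2 : e⁻¹ * u * e ∈ wOf (K c.1) := mem_map_conj_iff'.1 huW
      have h3 := (P.v c.1).comm_point (hz c.1) h1 h2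
      have e3 : u₀ * (x * w * x⁻¹) * u₀⁻¹ * (x * w * x⁻¹)⁻¹ =
          e'⁻¹ * e * ((e⁻¹ * w' * e) * (e⁻¹ * u * e) * (e⁻¹ * w' * e)⁻¹ * (e⁻¹ * u * e)⁻¹)⁻¹ * e⁻¹ * e' := by
        rw [hu₀, hw']; group
      rcases h3 with h3 | h3
      · rw [e3, h3]; simp
      · rw [e3, h3]
        have hzi : z⁻¹ = z := inv_eq_of_mul_eq_one_left ((P.v a.1).W_sq z (hz a.1).2.1)
        rw [hzi, show e'⁻¹ * e * z * e⁻¹ * e' = e'⁻¹ * (e * z * e⁻¹) * e' by group, ← hpt,
          show e'⁻¹ * (e' * z * e'⁻¹) * e' = z by group]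
        exact (hz a.1).2.1
    exact (P.v a.1).not_mem_jFix_point (hz a.1)
      (point_mem_jFix_of_absorb (P.v a.1) (P.v (!a.1)) (P.L_ne a.1) (hcomm' a.1) hxK hxo hxc habs (hz (!a.1)))
  · -- shift: the four-groups coincide
    obtain ⟨-, -, hval'⟩ := P.commutator_point hm₂ ha'W ha'e hma' hnc' (za := z) (zc := z)
      (hz a'.1).2.1 (hz a'.1).2.2 (hz a'.1).1 (hz m.1).2.1 (hz m.1).2.2 (hz m.1).1
    obtain ⟨u, hu, hunc⟩ := SetLike.not_le_iff_exists.1 hnc'
    obtain ⟨w, hw, huw⟩ : ∃ w ∈ vW K m, u * w * u⁻¹ * w⁻¹ ≠ 1 := by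
      by_contra h0
      push Not at h0
      exact hunc (mem_centralizer_iff.2 fun w hw => (mul_inv_eq_iff_eq_mul.1 (mul_inv_eq_one.1 (h0 w hw))).symm)
    have hp2 : (e' * x) * z * (e' * x)⁻¹ ∈ vW K m := by
      rw [← (hval' u hu w hw).resolve_left huw]
      refine mul_mem ?_ (inv_mem hw)
      have h1 : e₂⁻¹ * u * e₂ ∈ T := mem_map_conj_iff'.1 (ha'e hu)
      rw [hm₂]
      show u * w * u⁻¹ ∈ (wOf (K m.1)).map (MulAut.conj e₂).toMonoidHom
      rw [mem_map_conj_iff']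
      have h2 : e₂⁻¹ * w * e₂ ∈ wOf (K m.1) := by
        rw [hm₂] at hw
        exact mem_map_conj_iff'.1 hw
      convert (mem_normalizer_iff.1 ((P.v m.1).T_le_normalizer_W h1) _).1 h2 using 1
      group
    have hp2a : (e' * x) * z * (e' * x)⁻¹ ∈ vW K a := by
      rw [ha]
      exact ⟨x * z * x⁻¹, (mem_normalizer_iff.1 ((P.v a.1).K_le_normalizer_W hxK) z).1 (hz a.1).2.1,
        by show e' * (x * z * x⁻¹) * e'⁻¹ = _; group⟩
    have hne : e' * z * e'⁻¹ ≠ (e' * x) * z * (e' * x)⁻¹ := by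
      intro h
      refine hxc (mem_centralizer_iff.2 fun w hw => (four_odd_fixed (P.v a.1).W_card (P.v a.1).W_sq
        ((P.v a.1).K_le_normalizer_W hxK) hxo (hz a.1).2.1 (hz a.1).2.2 ?_ w hw).symm)
      refine mul_inv_eq_iff_eq_mul.1 ((MulAut.conj e').injective ?_)
      show e' * (x * z * x⁻¹) * e'⁻¹ = e' * z * e'⁻¹
      rw [h]; group
    have hle : vW K a ≤ vW K m := by
      refine mem_of_two_points ?_ ?_ hz0a hp2a hz0m hp2 (fun h => (hz a.1).2.2 (conj_eq_one_iff.1 h))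
        (fun h => (hz a.1).2.2 (conj_eq_one_iff.1 h)) hne
      · rw [ha]
        exact (card_map_of_injective (MulAut.conj e').injective).trans (P.v a.1).W_card
      · intro w hw
        rw [ha] at hw
        obtain ⟨w', hw', rfl⟩ := hw
        show MulAut.conj e' w' * MulAut.conj e' w' = 1
        rw [← map_mul, (P.v a.1).W_sq w' hw', map_one]
    apply hnc
    refine hle.trans ?_
    rw [hm, hc]
    exact hedge c.1 e

/-- A commutator square. -/
theorem square_point (va : Vtx T A LA) (vb : Vtx T B LB) {z : G} (hz : IsPoint T A z) (hzB : z ∈ jFix T B)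
    (hcomm : wOf A ≤ centralizer (wOf B : Set G)) {x : G} (hx : x ∈ B) (hxo : Odd (orderOf x))
    (hnc : ¬ wOf A ≤ centralizer ((wOf A).map (MulAut.conj x).toMonoidHom : Set G))
    {a b : G} (ha : a ∈ (wOf A).map (MulAut.conj x).toMonoidHom) (hac : a ∉ centralizer (wOf A : Set G))
    (hb : b ∈ T) (hbc : b ∉ centralizer (wOf B : Set G)) :
    a * (b * a * b⁻¹) * (a * (b * a * b⁻¹)) = z ∧ a ∈ wKer T B ∧ b * a * b⁻¹ ∈ wKer T B ∧
      b * a * b⁻¹ ∉ centralizer (wOf A : Set G) := by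
  obtain ⟨w, hw, rfl⟩ := ha
  simp only [MulEquiv.coe_toMonoidHom, MulAut.conj_apply] at hac ⊢
  set a := x * w * x⁻¹ with ha
  have hWAQ : wOf A ≤ wKer T B := le_inf (W_le_T_of_vtx va) hcomm
  have haQ : a ∈ wKer T B := vb.conj_ker hx (hWAQ hw)
  have ha'Q : b * a * b⁻¹ ∈ wKer T B := (mem_normalizer_iff.1 (vb.T_le_normalizer_wKer hb) a).1 haQ
  have hw1 : w ≠ 1 := fun h => hac (by rw [ha, h, mul_one, mul_inv_cancel]; exact one_mem _)
  have hzx : x * z * x⁻¹ = z := by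
    rw [mem_centralizer_iff.1 (mem_inf.1 hzB).2 x hx, mul_inv_cancel_right]
  have hwz : w ≠ z := fun h => hac (by
    show x * w * x⁻¹ ∈ _
    rw [h, hzx]; exact W_self_comm va hz.2.1)
  have hba : b⁻¹ * z * b = z := by rw [mul_assoc, ← va.point_fixed hz hb, inv_mul_cancel_left]
  have hbz : b * z * b⁻¹ = z := by rw [va.point_fixed hz hb, mul_inv_cancel_right]
  have ha2 : a * a = 1 := by rw [ha, show x * w * x⁻¹ * (x * w * x⁻¹) = x * (w * w) * x⁻¹ by group, va.W_sq w hw]; group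
  have hc : b * a * b⁻¹ ∉ centralizer (wOf A : Set G) := by
    intro h
    refine hac (mem_centralizer_iff.2 fun v hv => ?_)
    have hv' : b * v * b⁻¹ ∈ wOf A := (mem_normalizer_iff.1 (va.T_le_normalizer_W hb) v).1 hv
    have h' := mem_centralizer_iff.1 h _ hv'
    exact (MulAut.conj b).injective (show b * (v * a) * b⁻¹ = b * (a * v) * b⁻¹ by
      rw [show b * (v * a) * b⁻¹ = (b * v * b⁻¹) * (b * a * b⁻¹) by group, h']; group)
  refine ⟨?_, haQ, ha'Q, hc⟩
  -- write the conjugate as a conjugate by the inverse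
  obtain ⟨q, hq, hqe⟩ : ∃ q ∈ wKer T B, b * x * b⁻¹ = q * x⁻¹ := ⟨_, vb.inverts hb hbc hx hxo, by group⟩
  set r := x * q * x⁻¹ with hr
  have hrT : r ∈ T := (mem_inf.1 (vb.conj_ker hx hq)).1
  set w₁ := r * (b * w * b⁻¹) * r⁻¹ with hw₁
  have hw₁W : w₁ ∈ wOf A :=
    (mem_normalizer_iff.1 (va.T_le_normalizer_W hrT) _).1 ((mem_normalizer_iff.1 (va.T_le_normalizer_W hb) w).1 hw)
  have he : b * a * b⁻¹ = x⁻¹ * w₁ * x := by
    calc b * a * b⁻¹ = (b * x * b⁻¹) * (b * w * b⁻¹) * (b * x * b⁻¹)⁻¹ := by rw [ha]; group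
      _ = x⁻¹ * w₁ * x := by rw [hqe, hw₁, hr]; group
  have ha'2 : b * a * b⁻¹ * (b * a * b⁻¹) = 1 := by
    rw [show b * a * b⁻¹ * (b * a * b⁻¹) = b * (a * a) * b⁻¹ by group, ha2]; group
  set t := x⁻¹ * (b * a * b⁻¹) * x with ht
  have htT : t ∈ T := (mem_inf.1 (vb.inv_conj hx ha'Q)).1
  have hd := va.comm_point hz htT hw
  have e1 : a * (b * a * b⁻¹) * (a * (b * a * b⁻¹)) = x * (t * w * t⁻¹ * w⁻¹)⁻¹ * x⁻¹ := by
    have h1 : a⁻¹ = a := inv_eq_of_mul_eq_one_left ha2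
    have h2 : (b * a * b⁻¹)⁻¹ = b * a * b⁻¹ := inv_eq_of_mul_eq_one_left ha'2
    calc a * (b * a * b⁻¹) * (a * (b * a * b⁻¹))
        = a * (b * a * b⁻¹) * a⁻¹ * (b * a * b⁻¹)⁻¹ := by rw [h1, h2]; group
      _ = x * (t * w * t⁻¹ * w⁻¹)⁻¹ * x⁻¹ := by rw [ht, ha]; group
  rcases hd with hd | hd
  · exfalso
    -- then three conjugates of `W_A` commute
    apply hnc
    have htw : t * w = w * t := mul_inv_eq_iff_eq_mul.1 (mul_inv_eq_one.1 hd)
    have hsqz : Commute t z := va.point_fixed hz htT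
    have htc : t ∈ centralizer (wOf A : Set G) := mem_centralizer_iff.2 fun v hv =>
      (four_fixed va.W_card va.W_sq hz.2.1 hw hz.2.2 hw1 hwz.symm hsqz.eq htw v hv).symm
    have hxo2 : x⁻¹ * x⁻¹ = x * (x ^ 3)⁻¹ := by group
    have hx3 : x ^ 3 ∈ T := vb.core_le_T (vb.pow_three_mem hx)
    set t' := (x ^ 3)⁻¹ * w₁ * x ^ 3 with ht'
    have ht'W : t' ∈ wOf A := (mem_normalizer_iff''.1 (va.T_le_normalizer_W hx3) w₁).1 hw₁W
    have het : t = x * t' * x⁻¹ := by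
      rw [ht, he, ht']
      simp only [pow_succ, pow_zero, one_mul]
      group
    have hzx' : x⁻¹ * z * x = z := by
      conv_lhs => rw [← hzx]
      group
    have ht'1 : t' ≠ 1 := by
      intro h
      have : b * a * b⁻¹ = 1 := by
        rw [show b * a * b⁻¹ = x * t * x⁻¹ by rw [ht]; group, het, h]; group
      exact hc (this ▸ one_mem _)
    have ht'z : t' ≠ z := by
      intro h
      have : b * a * b⁻¹ = z := by
        rw [show b * a * b⁻¹ = x * t * x⁻¹ by rw [ht]; group, het, h, hzx, hzx]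
      exact hc (this ▸ W_self_comm va hz.2.1)
    refine le_centralizer_iff.1 ?_
    rintro _ ⟨v, hv, rfl⟩
    show x * v * x⁻¹ ∈ _
    rcases four_cases va.W_card hz.2.1 ht'W hz.2.2 ht'1 ht'z.symm (va.W_sq z hz.2.1) hv with h | h | h | h
    · rw [h, mul_one, mul_inv_cancel]; exact one_mem _
    · rw [h, hzx]; exact W_self_comm va hz.2.1
    · rw [h, ← het]; exact htc
    · rw [h, show x * (z * t') * x⁻¹ = (x * z * x⁻¹) * (x * t' * x⁻¹) by group, hzx, ← het]
      exact mul_mem (W_self_comm va hz.2.1) htc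
  · rw [e1, hd, inv_eq_of_mul_eq_one_left (va.W_sq z hz.2.1), hzx]

/-- No conjugate of `W_A` under `B` fails to commute with it when the point of `A` is fixed by `B`. -/
theorem crossing_false (va : Vtx T A LA) (vb : Vtx T B LB) (hne : LA ≠ LB) {za : G} (hza : IsPoint T A za)
    (hzaB : za ∈ jFix T B) (hcomm : wOf A ≤ centralizer (wOf B : Set G)) {x : G} (hx : x ∈ B)
    (hxo : Odd (orderOf x))
    (hnc : ¬ wOf A ≤ centralizer ((wOf A).map (MulAut.conj x).toMonoidHom : Set G)) : False := by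
  obtain ⟨zb, hzb⟩ := vb.exists_isPoint
  have hWAQ : wOf A ≤ wKer T B := le_inf (W_le_T_of_vtx va) hcomm
  have hWBQ : wOf B ≤ wKer T A := le_inf (W_le_T_of_vtx vb) (le_centralizer_iff.1 hcomm)
  have hzx : x * za * x⁻¹ = za := by
    rw [mem_centralizer_iff.1 (mem_inf.1 hzaB).2 x hx, mul_inv_cancel_right]
  obtain ⟨a, haW, hac⟩ := SetLike.not_le_iff_exists.1 (fun h => hnc (le_centralizer_iff.1 h))
  obtain ⟨b, hb, hbc⟩ := vb.exists_not_centralizing
  obtain ⟨hc2, haQ, ha'Q, ha'c⟩ := square_point va vb hza hzaB hcomm hx hxo hnc haW hac hb hbc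
  have haT : a ∈ T := (mem_inf.1 haQ).1
  obtain ⟨y, hy, hyo, hyc⟩ := va.exists_odd
  have hWb' : (wOf B).map (MulAut.conj y).toMonoidHom ≤ wKer T A := by
    rintro _ ⟨w, hw, rfl⟩
    exact va.conj_ker hy (hWBQ hw)
  by_cases hcc : (wOf B).map (MulAut.conj y).toMonoidHom ≤ centralizer (wOf B : Set G)
  · -- absorption
    have habs : wOf B ≤ wOf A ⊔ (wOf B).map (MulAut.conj (y * y)).toMonoidHom := by
      refine absorb va vb hy hyo haT hac fun w hw => ?_
      set v := y * w * y⁻¹ with hv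
      have hvm : v ∈ (wOf B).map (MulAut.conj y).toMonoidHom := ⟨w, hw, rfl⟩
      have hvQA := hWb' hvm
      have hvQB : v ∈ wKer T B := mem_inf.2 ⟨(mem_inf.1 hvQA).1, hcc hvm⟩
      obtain ⟨a₀, ha₀, rfl⟩ := haW
      have hv' : x⁻¹ * v * x ∈ T := (mem_inf.1 (vb.inv_conj hx hvQB)).1
      have hcp := va.comm_point hza hv' ha₀
      have e1 : MulAut.conj x a₀ * v * (MulAut.conj x a₀)⁻¹ * v⁻¹ =
          x * ((x⁻¹ * v * x) * a₀ * (x⁻¹ * v * x)⁻¹ * a₀⁻¹)⁻¹ * x⁻¹ := by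
        show x * a₀ * x⁻¹ * v * (x * a₀ * x⁻¹)⁻¹ * v⁻¹ = _
        group
      show MulAut.conj x a₀ * v * (MulAut.conj x a₀)⁻¹ * v⁻¹ ∈ wOf A
      rw [e1]
      rcases hcp with h | h
      · rw [h]; simp
      · rw [h, inv_eq_of_mul_eq_one_left (va.W_sq za hza.2.1), hzx]
        exact hza.2.1
    have hzbA := point_mem_jFix_of_absorb va vb hne hcomm hy hyo hyc habs hzb
    -- a conjugate of the element of order four
    set c := a * (b * a * b⁻¹) with hc
    have hcA : c ∈ centralizer (wOf A : Set G) :=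
      va.mul_centralizes haT (mem_inf.1 ha'Q).1 hac ha'c
    have hcQA : c ∈ wKer T A := mem_inf.2 ⟨mul_mem haT (mem_inf.1 ha'Q).1, hcA⟩
    have hcB : c ∈ centralizer (wOf B : Set G) := mul_mem (mem_inf.1 haQ).2 (mem_inf.1 ha'Q).2
    set c' := (y * y) * c * (y * y)⁻¹ with hc'
    have hc'QA : c' ∈ wKer T A := va.conj_ker (mul_mem hy hy) hcQA
    have hc'B : c' ∈ centralizer (wOf B : Set G) := by
      have hle : wOf A ⊔ (wOf B).map (MulAut.conj (y * y)).toMonoidHom ≤ centralizer ({c'} : Set G) := by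
        refine sup_le (fun w hw => mem_centralizer_singleton_iff.2
          (mem_centralizer_iff.1 (mem_inf.1 hc'QA).2 w hw)) ?_
        rintro _ ⟨w, hw, rfl⟩
        rw [mem_centralizer_singleton_iff]
        show (y * y) * w * (y * y)⁻¹ * c' = c' * ((y * y) * w * (y * y)⁻¹)
        calc (y * y) * w * (y * y)⁻¹ * c' = (y * y) * (w * c) * (y * y)⁻¹ := by rw [hc']; group
          _ = (y * y) * (c * w) * (y * y)⁻¹ := by rw [mem_centralizer_iff.1 hcB w hw]
          _ = _ := by rw [hc']; group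
      exact mem_centralizer_iff.2 fun w hw => mem_centralizer_singleton_iff.1 (hle (habs hw))
    have hc'QB : c' ∈ wKer T B := mem_inf.2 ⟨(mem_inf.1 hc'QA).1, hc'B⟩
    set t := x⁻¹ * c' * x with ht
    have htT : t ∈ T := (mem_inf.1 (vb.inv_conj hx hc'QB)).1
    have hsq := va.T_sq_centralizes htT
    set v₂ := (y * y) * za * (y * y)⁻¹ with hv₂
    have hv₂e : c' * c' = v₂ := by
      rw [hc', hv₂, show y * y * c * (y * y)⁻¹ * (y * y * c * (y * y)⁻¹) = y * y * (c * c) * (y * y)⁻¹ by group,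
        hc, hc2]
    have hv₂W : v₂ ∈ wOf A := (mem_normalizer_iff.1 (va.K_le_normalizer_W (mul_mem hy hy)) za).1 hza.2.1
    have hv₂z : v₂ ≠ za := by
      intro h
      refine hyc (mem_centralizer_iff.2 fun w hw => (four_odd_fixed va.W_card va.W_sq (va.K_le_normalizer_W hy) hyo
        hza.2.1 hza.2.2 ?_ w hw).symm)
      obtain ⟨k, hk⟩ := exists_pow_eq_self_of_coprime (x := y) (n := 2) (Nat.coprime_two_left.2 hyo)
      have h2 : Commute (y ^ 2) za := by rw [pow_two]; exact mul_inv_eq_iff_eq_mul.1 h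
      exact (hk ▸ h2.pow_left k : Commute y za).eq
    have hxv₂ : ∀ w ∈ wOf A, (x * w * x⁻¹) * v₂ = v₂ * (x * w * x⁻¹) := by
      intro w hw
      calc (x * w * x⁻¹) * v₂ = x * (w * (t * t)) * x⁻¹ := by rw [← hv₂e, ht]; group
        _ = x * ((t * t) * w) * x⁻¹ := by rw [mem_centralizer_iff.1 hsq w hw]
        _ = v₂ * (x * w * x⁻¹) := by rw [← hv₂e, ht]; group
    apply hnc
    intro u hu
    refine mem_centralizer_iff.2 ?_
    rintro _ ⟨w, hw, rfl⟩
    show x * w * x⁻¹ * u = u * (x * w * x⁻¹)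
    have hvz : (x * w * x⁻¹) * za = za * (x * w * x⁻¹) := by
      calc (x * w * x⁻¹) * za = (x * w * x⁻¹) * (x * za * x⁻¹) := by rw [hzx]
        _ = x * (w * za) * x⁻¹ := by group
        _ = x * (za * w) * x⁻¹ := by rw [CfsgLib.PLocal.comm_of_mem (le_centralizer_iff_isMulCommutative.1 (W_self_comm va)) hw hza.2.1]
        _ = (x * za * x⁻¹) * (x * w * x⁻¹) := by group
        _ = za * (x * w * x⁻¹) := by rw [hzx]
    exact four_fixed va.W_card va.W_sq hza.2.1 hv₂W hza.2.2 (fun h => hza.2.2 (conj_eq_one_iff.1 h)) hv₂z.symm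
      hvz (hxv₂ w hw) u hu
  · -- both sides nonabelian
    obtain ⟨b₁, hb₁W, hb₁c⟩ := SetLike.not_le_iff_exists.1 hcc
    have hb₁T : b₁ ∈ T := (mem_inf.1 (hWb' hb₁W)).1
    have hzb' : zb ∈ jFix T A := by
      obtain ⟨w₀, hw₀, rfl⟩ := hb₁W
      obtain ⟨w, hw, hne1⟩ : ∃ w ∈ wOf B,
          MulAut.conj y w₀ * w * (MulAut.conj y w₀)⁻¹ * w⁻¹ ≠ 1 := by
        by_contra h0
        push Not at h0
        exact hb₁c (mem_centralizer_iff.2 fun w hw => (mul_inv_eq_iff_eq_mul.1 (mul_inv_eq_one.1 (h0 w hw))).symm)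
      have h1 : y * w₀ * y⁻¹ * w * (y * w₀ * y⁻¹)⁻¹ * w⁻¹ = zb :=
        (vb.comm_point hzb hb₁T hw).resolve_left hne1
      set t := y⁻¹ * w * y with ht
      have htT : t ∈ T := (mem_inf.1 (va.inv_conj hy (hWBQ hw))).1
      have h2 : t * w₀ * t⁻¹ * w₀⁻¹ = zb ∨ t * w₀ * t⁻¹ * w₀⁻¹ = 1 := (vb.comm_point hzb htT hw₀).symm
      have e1 : y * w₀ * y⁻¹ * w * (y * w₀ * y⁻¹)⁻¹ * w⁻¹ = y * (t * w₀ * t⁻¹ * w₀⁻¹)⁻¹ * y⁻¹ := by
        rw [ht]; group
      rcases h2 with h2 | h2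
      · rw [h1, h2, inv_eq_of_mul_eq_one_left (vb.W_sq zb hzb.2.1)] at e1
        refine mem_inf.2 ⟨hzb.1, ?_⟩
        have hle : A ≤ centralizer ({zb} : Set G) := by
          rw [← va.K_eq_sup hy hyc]
          exact sup_le (zpowers_le.2 (mem_centralizer_singleton_iff.2 (mul_inv_eq_iff_eq_mul.1 e1.symm)))
            (fun t ht => mem_centralizer_singleton_iff.2 (vb.point_fixed hzb (va.core_le_T ht)))
        exact mem_centralizer_iff.2 fun a ha => mem_centralizer_singleton_iff.1 (hle ha)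
      · rw [h1, h2] at e1
        exact absurd (by rw [e1]; group) hzb.2.2
    obtain ⟨hd2, -, -, -⟩ := square_point vb va hzb hzb' (le_centralizer_iff.1 hcomm) hy hyo
      (fun h => hcc (le_centralizer_iff.1 h)) hb₁W hb₁c haT hac
    obtain ⟨hc2', -, -, -⟩ := square_point va vb hza hzaB hcomm hx hxo hnc haW hac hb₁T hb₁c
    have ha2 : a * a = 1 := by
      obtain ⟨w, hw, rfl⟩ := haW
      rw [← map_mul]
      exact (congrArg _ (va.W_sq w hw)).trans (map_one _)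
    have hb2 : b₁ * b₁ = 1 := by
      obtain ⟨w, hw, rfl⟩ := hb₁W
      rw [← map_mul]
      exact (congrArg _ (vb.W_sq w hw)).trans (map_one _)
    have haza : a⁻¹ * za * a = za := by rw [mul_assoc, ← va.point_fixed hza haT, inv_mul_cancel_left]
    have he : za = zb := by
      have hai : a⁻¹ = a := inv_eq_of_mul_eq_one_left ha2
      have hbi : b₁⁻¹ = b₁ := inv_eq_of_mul_eq_one_left hb2
      rw [← haza, ← hc2', ← hd2, hai, hbi]
      simp only [← mul_assoc, ha2, one_mul]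
    exact vb.not_mem_jFix_point hzb (he ▸ hzaB)

end CfsgLib.LocalEvenB.JOver
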