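import Cfsg.Agent.Lib.LocalEvenB.JOver.CompProps

/-!
# Components inside overgroups
-/

set_option autoImplicit false
set_option linter.all false

namespace CfsgLib.LocalEvenB.JOver

open Subgroup Cfsg
open scoped commutatorElement

variable {G : Type*} [Group G] [Finite G]

theorem le_normalizer_pCoreOf_self (L : Subgroup G) : L ≤ normalizer (pCoreOf 2 L : Set G) := by
  intro l hl
  rw [← CfsgLib.LocalEvenB.map_conj_eq_self_iff_mem_normalizer, pCoreOf_map_inj _ (MulAut.conj l).injective,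
    CfsgLib.LocalEvenB.map_conj_eq_self_iff_mem_normalizer.2 (le_normalizer hl)]

theorem pCoreOf_two (L : Subgroup G) : IsPGroup 2 (pCoreOf 2 L) :=
  (CfsgLib.Core.isPGroup_pCore 2 ↥L).map _

theorem setting_of_mem_jOvergroups
    (hN : ∀ N : Subgroup G, Cfsg.IsTwoLocal N → Group.IsSolvable ↥N)
    (hZ : ∀ S : Sylow 2 G, centralizer (omegaCenterOf (S : Subgroup G) : Set G) ≤ normalizer ((S : Subgroup G) : Set G))
    {T L : Subgroup G} (hT1 : T ≠ ⊥) (h : L ∈ jOvergroups T) : Setting L T := by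
  obtain ⟨h1, h2, h3⟩ := h
  refine ⟨h1, h2, h3, ?_, hZ⟩
  have hne : pCoreOf 2 L ≠ ⊥ := by
    intro h0
    rw [h0] at h3
    exact hT1 (eq_bot_iff.2 fun t ht => h3 (mem_centralizer_iff.2 fun x hx => by
      rw [mem_bot.1 hx, one_mul, mul_one]))
  haveI := hN _ ⟨_, pCoreOf_two L, hne, rfl⟩
  exact solvable_of_solvable_injective (Subgroup.inclusion_injective (le_normalizer_pCoreOf_self L))

/-- A 2-local subgroup is self-centralizing at its 2-core. -/
theorem self_of_isTwoLocal (hL : Cfsg.IsCharacteristicTwoType G) {N : Subgroup G} (h : Cfsg.IsTwoLocal N) :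
    centralizer (pCoreOf 2 N : Set G) ≤ pCoreOf 2 N := by
  obtain ⟨P, hP, hP1, rfl⟩ := h
  have hself := hL.2 P hP hP1
  have hPQ : P ≤ pCoreOf 2 (normalizer (P : Set G)) := by
    intro x hx
    refine ⟨⟨x, le_normalizer hx⟩, ?_, rfl⟩
    haveI : (P.comap (normalizer (P : Set G)).subtype).Normal := normal_in_normalizer
    exact CfsgLib.Core.le_pCore (p := 2) (hP.comap_subtype (K := normalizer (P : Set G))) (mem_comap.2 hx)
  intro x hx
  have hxN : x ∈ normalizer (P : Set G) := centralizer_le_normalizer _ (centralizer_le hPQ hx)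
  refine ⟨⟨x, hxN⟩, hself (mem_centralizer_iff.2 fun q hq => Subtype.ext ?_), rfl⟩
  exact mem_centralizer_iff.1 hx _ ⟨q, hq, rfl⟩

theorem exists_comp {L T : Subgroup G} (h : Setting L T) {K : Subgroup G} (hK : IsJComponent T K) (hKL : K ≤ L) :
    ∃ F : Frame L (thompsonSubgroupOf 2 T) (pCoreOf 2 L), Comp F K := by
  obtain ⟨F⟩ := nonempty_frame h
  exact ⟨F, comp_of_comm F hKL hK.1 hK.2.1 hK.2.2.1⟩

/-- Conjugates with the same four-group are equal. -/
theorem map_conj_eq {L T : Subgroup G} {J Q : Subgroup G} {F : Frame L J Q} {K : Subgroup G} (hK : Comp F K)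
    (hT : IsPGroup 2 T) (hKJ : IsJComponent T K) {l : G} (hl : l ∈ L) {z : G} (hz : z ∈ wOf K) (hz1 : z ≠ 1)
    (hzl : l * z * l⁻¹ = z) : K.map (MulAut.conj l).toMonoidHom = K := by
  obtain ⟨S, hd⟩ := exists_jData hT hKJ
  obtain ⟨c, hcK, hco, hcc⟩ := hd.exists_odd_not_centralizing
  obtain ⟨i, hi⟩ := hK.exists_index
  obtain ⟨i', hi'⟩ := (hK.conj hl).exists_index
  by_cases hne : i = i'
  · subst hne
    exact hK.eq_of_same_index (hK.conj hl) hi hi'
  exfalso
  have hc' := hK.centralizes (hK.conj hl) hi hi' hne hd.wcard hd.wsq hd.Q_centralizes_W hcK hco hcc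
    (mem_map_of_mem _ hcK)
  have h1 : l * c * l⁻¹ * z = z * (l * c * l⁻¹) := (mem_centralizer_iff.1 hc' z hz).symm
  have h2 : c * z = z * c := by
    refine (MulAut.conj l).injective ?_
    show l * (c * z) * l⁻¹ = l * (z * c) * l⁻¹
    rw [show l * (c * z) * l⁻¹ = (l * c * l⁻¹) * (l * z * l⁻¹) by group,
      show l * (z * c) * l⁻¹ = (l * z * l⁻¹) * (l * c * l⁻¹) by group, hzl, h1]
  exact hcc (mem_centralizer_iff.2 fun w hw =>
    (four_odd_fixed hd.wcard hd.wsq (hd.le_normalizer_W (mem_sup_left hcK)) hco hz hz1 h2 w hw).symm)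

/-- An element normalising the four-group of a factor normalises the factor. -/
theorem map_conj_eq_of_wOf {L T : Subgroup G} {J Q : Subgroup G} {F : Frame L J Q} {K : Subgroup G} (hK : Comp F K)
    (hT : IsPGroup 2 T) (hKJ : IsJComponent T K) {l : G} (hl : l ∈ L) (hW : l ∈ normalizer (wOf K : Set G)) :
    K.map (MulAut.conj l).toMonoidHom = K := by
  obtain ⟨S, hd⟩ := exists_jData hT hKJ
  obtain ⟨c, hcK, hco, hcc⟩ := hd.exists_odd_not_centralizing
  obtain ⟨i, hi⟩ := hK.exists_index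
  obtain ⟨i', hi'⟩ := (hK.conj hl).exists_index
  by_cases hne : i = i'
  · subst hne
    exact hK.eq_of_same_index (hK.conj hl) hi hi'
  exfalso
  have hc' := hK.centralizes (hK.conj hl) hi hi' hne hd.wcard hd.wsq hd.Q_centralizes_W hcK hco hcc
    (mem_map_of_mem _ hcK)
  refine hcc (mem_centralizer_iff.2 fun w hw => ?_)
  have h1 : l * w * l⁻¹ * (l * c * l⁻¹) = l * c * l⁻¹ * (l * w * l⁻¹) :=
    mem_centralizer_iff.1 hc' _ ((mem_normalizer_iff.1 hW w).1 hw)
  exact (MulAut.conj l).injective (show l * (w * c) * l⁻¹ = l * (c * w) * l⁻¹ by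
    rw [show l * (w * c) * l⁻¹ = (l * w * l⁻¹) * (l * c * l⁻¹) by group, h1]; group)

omit [Finite G] in
theorem isSylowTwoIn_map (e : G ≃* G) {S H : Subgroup G} (h : IsSylowTwoIn S H) :
    IsSylowTwoIn (S.map e.toMonoidHom) (H.map e.toMonoidHom) :=
  ⟨map_mono h.1, h.2.1.map _, by
    rw [relIndex_map_map_of_injective _ _ e.injective]; exact h.2.2⟩

/-- Moving a component by an element of its normalizer. -/
theorem isJComponent_conj {T T' K : Subgroup G} (hK : IsJComponent T K) {n : G} (hn : n ∈ normalizer (K : Set G))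
    (hJ : thompsonSubgroupOf 2 T' = (thompsonSubgroupOf 2 T).map (MulAut.conj n).toMonoidHom) :
    IsJComponent T' K := by
  obtain ⟨h1, h2, h3, h4, h5, h6⟩ := hK
  have hKn := CfsgLib.LocalEvenB.map_conj_eq_self_iff_mem_normalizer.2 hn
  refine ⟨h1, ?_, h3, ?_, h5, h6⟩
  · rw [hJ]
    conv_lhs => rw [← hKn]
    rw [← map_commutator, h2, hKn]
  · intro S hS hJS
    have hback : ∀ X : Subgroup G,
        (X.map (MulAut.conj n⁻¹).toMonoidHom).map (MulAut.conj n).toMonoidHom = X := fun X => by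
      rw [CfsgLib.LocalEvenB.map_conj_map_conj, mul_inv_cancel]
      ext x; simp [CfsgLib.LocalEvenB.mem_map_conj]
    have hfwd : ∀ X : Subgroup G,
        (X.map (MulAut.conj n).toMonoidHom).map (MulAut.conj n⁻¹).toMonoidHom = X := fun X => by
      rw [CfsgLib.LocalEvenB.map_conj_map_conj, inv_mul_cancel]
      ext x; simp [CfsgLib.LocalEvenB.mem_map_conj]
    have hs := isSylowTwoIn_map (MulAut.conj n⁻¹) hS
    have hKn' : K.map (MulAut.conj n⁻¹).toMonoidHom = K := by conv_lhs => rw [← hKn, hfwd]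
    rw [hJ, Subgroup.map_sup, hfwd, hKn'] at hs
    have := h4 _ hs (by
      have h7 := map_mono (f := (MulAut.conj n⁻¹).toMonoidHom) hJS
      rwa [hJ, hfwd] at h7)
    rw [thompson_map_conj] at this
    rw [hJ, ← this, hback]

theorem exists_sylowTwoIn_ge {P N : Subgroup G} (hP : IsPGroup 2 P) (hPN : P ≤ N) :
    ∃ S, IsSylowTwoIn S N ∧ P ≤ S := by
  haveI : Fact (Nat.Prime 2) := ⟨Nat.prime_two⟩
  obtain ⟨R, hR⟩ := (hP.comap_subtype (K := N)).exists_le_sylow
  refine ⟨(R : Subgroup ↥N).map N.subtype, ⟨map_subtype_le _, R.2.map _, ?_⟩,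
    fun x hx => ⟨⟨x, hPN hx⟩, hR (mem_subgroupOf.2 hx), rfl⟩⟩
  rw [relIndex, subgroupOf, comap_map_eq_self_of_injective (subtype_injective _), Nat.odd_iff]
  have := R.not_dvd_index
  omega

theorem sylowTwoIn_conj {S S' N : Subgroup G} (h : IsSylowTwoIn S N) (h' : IsSylowTwoIn S' N) :
    ∃ n ∈ N, S.map (MulAut.conj n).toMonoidHom = S' := by
  haveI : Fact (Nat.Prime 2) := ⟨Nat.prime_two⟩
  let P : Sylow 2 ↥N := (h.2.1.comap_subtype).toSylow
    (fun hd => Nat.not_even_iff_odd.2 h.2.2 (even_iff_two_dvd.2 hd))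
  let P' : Sylow 2 ↥N := (h'.2.1.comap_subtype).toSylow
    (fun hd => Nat.not_even_iff_odd.2 h'.2.2 (even_iff_two_dvd.2 hd))
  obtain ⟨n, hn⟩ := MulAction.exists_smul_eq ↥N P P'
  refine ⟨n, n.2, ?_⟩
  have e : ((n • P : Sylow 2 ↥N) : Subgroup ↥N) = S'.subgroupOf N := by rw [hn]; rfl
  rw [Sylow.coe_subgroup_smul] at e
  have e' := congrArg (fun X : Subgroup ↥N => X.map N.subtype) e
  simp only [subgroupOf_map_subtype, inf_eq_left.2 h'.1] at e'
  rw [← e']
  ext x
  constructor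
  · rintro ⟨y, hy, rfl⟩
    exact ⟨n * ⟨y, h.1 hy⟩ * n⁻¹, smul_mem_pointwise_smul (⟨y, h.1 hy⟩ : ↥N) (MulAut.conj n)
      (P : Subgroup ↥N) (mem_subgroupOf.2 hy), rfl⟩
  · rintro ⟨y, hy, rfl⟩
    obtain ⟨z, hz, rfl⟩ := hy
    exact ⟨z, hz, rfl⟩

theorem maxElemAbelianOrder_map_conj (g : G) (T : Subgroup G) :
    maxElemAbelianOrder (T.map (MulAut.conj g).toMonoidHom) = maxElemAbelianOrder T := by
  obtain ⟨A, hA⟩ := exists_isBig T
  have hA' : IsBig (T.map (MulAut.conj g).toMonoidHom) (A.map (MulAut.conj g).toMonoidHom) := by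
    refine ⟨map_mono hA.le, CfsgLib.PLocal.elementary_map _ hA.elem, fun B hB hBe => ?_⟩
    have hB' : B.map (MulAut.conj g).symm.toMonoidHom ≤ T := by
      rintro _ ⟨b, hb, rfl⟩
      obtain ⟨t, ht, rfl⟩ := hB hb
      simpa [mul_assoc] using ht
    have := hA.max _ hB' (CfsgLib.PLocal.elementary_map _ hBe)
    rwa [CfsgLib.PLocal.card_map_of_injective _ (MulEquiv.injective _),
      ← CfsgLib.PLocal.card_map_of_injective (MulAut.conj g).toMonoidHom (MulEquiv.injective _) A] at this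
  rw [maxElemAbelianOrder_eq hA', maxElemAbelianOrder_eq hA,
    CfsgLib.PLocal.card_map_of_injective _ (MulAut.conj g).injective]

/-- The normalizer of the four-group of a component in the zero family. -/
theorem zero_normalizer (hL : Cfsg.IsCharacteristicTwoType G)
    (hN : ∀ N : Subgroup G, Cfsg.IsTwoLocal N → Group.IsSolvable ↥N)
    (hZ : ∀ S : Sylow 2 G, centralizer (omegaCenterOf (S : Subgroup G) : Set G) ≤ normalizer ((S : Subgroup G) : Set G))
    {T K : Subgroup G} (hT : IsPGroup 2 T) (hK : K ∈ jComponentsZero T) :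
    normalizer (K : Set G) = normalizer (wOf K : Set G) ∧
      ∀ g : G, thompsonSubgroupOf 2 (T.map (MulAut.conj g).toMonoidHom) ≤ normalizer (wOf K : Set G) →
        IsJComponent (T.map (MulAut.conj g).toMonoidHom) K := by
  obtain ⟨hKJ, hzero⟩ := hK
  obtain ⟨S, hd⟩ := exists_jData hT hKJ
  set J := thompsonSubgroupOf 2 T with hJdef
  set L := normalizer (wOf K : Set G) with hLdef
  have hKL : K ≤ L := le_sup_left.trans hd.le_normalizer_W
  have hJL : J ≤ L := le_sup_right.trans hd.le_normalizer_W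
  have hW2 : IsPGroup 2 (wOf K) := IsPGroup.of_card (n := 2) (by rw [hd.wcard]; rfl)
  have hloc : IsTwoLocal L := ⟨_, hW2, hd.W_ne_bot, rfl⟩
  obtain ⟨T₀, hT₀, hJT₀⟩ := exists_sylowTwoIn_ge (hT.to_le (thompsonSubgroupOf_le T)) hJL
  have hJ₀ : thompsonSubgroupOf 2 T₀ = J := hzero T₀ hJT₀ hT₀
  have hset : Setting L T₀ := by
    refine ⟨hT₀, fun hle => ?_, self_of_isTwoLocal hL hloc, hN L hloc, hZ⟩
    rw [hJ₀] at hle
    have hKQ : K ≤ pCoreOf 2 L := by
      refine hKJ.2.1.ge.trans (commutator_le.2 fun k hk j hj => ?_)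
      rw [commutatorElement_def]
      exact mul_mem ((mem_normalizer_iff.1 (le_normalizer_pCoreOf_self L (hKL hk)) j).1 (hle hj)) (inv_mem (hle hj))
    have htop : Cfsg.pCore 2 ↥K = ⊤ :=
      top_unique (CfsgLib.Core.le_pCore (p := 2) (((pCoreOf_two L).to_le hKQ).of_equiv topEquiv.symm))
    have hidx := hKJ.2.2.1
    rw [pCoreOf, htop, ← MonoidHom.range_eq_map, K.range_subtype, relIndex_self] at hidx
    omega
  have hF := nonempty_frame hset
  rw [hJ₀] at hF
  obtain ⟨F⟩ := hF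
  have hC : Comp F K := comp_of_comm F hKL hKJ.1 hKJ.2.1 hKJ.2.2.1
  have heq : normalizer (K : Set G) = L := le_antisymm (normalizer_le_normalizer_wOf K) fun n hn =>
    CfsgLib.LocalEvenB.map_conj_eq_self_iff_mem_normalizer.1 (map_conj_eq_of_wOf hC hT hKJ hn hn)
  refine ⟨heq, fun g hg => ?_⟩
  set T' := T.map (MulAut.conj g).toMonoidHom with hT'
  obtain ⟨S₁, hS₁, hJS₁⟩ := exists_sylowTwoIn_ge ((hT.map _).to_le (thompsonSubgroupOf_le T')) hg
  obtain ⟨n, hn, hnS⟩ := sylowTwoIn_conj hT₀ hS₁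
  have hr : maxElemAbelianOrder S₁ ≤ maxElemAbelianOrder T' := by
    rw [← hnS, maxElemAbelianOrder_map_conj, hT', maxElemAbelianOrder_map_conj]
    exact rank_le_of_thompson_le (hJ₀.le.trans (thompsonSubgroupOf_le T))
  have hle : thompsonSubgroupOf 2 T' ≤ thompsonSubgroupOf 2 S₁ := by
    obtain ⟨B, hB⟩ := exists_isBig S₁
    refine thompsonSubgroupOf_le_iff.2 fun A hA => le_thompsonSubgroupOf
      ⟨(le_thompsonSubgroupOf hA).trans hJS₁, hA.elem, fun C h1 h2 => ?_⟩
    rw [maxElemAbelianOrder_eq hB, maxElemAbelianOrder_eq hA] at hr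
    exact (hB.max C h1 h2).trans hr
  have hJ₁ : thompsonSubgroupOf 2 S₁ = J.map (MulAut.conj n).toMonoidHom := by
    rw [← hnS, thompson_map_conj, hJ₀]
  have hJ' : thompsonSubgroupOf 2 T' = J.map (MulAut.conj n).toMonoidHom := by
    refine eq_of_le_of_card_ge (hle.trans hJ₁.le) ?_
    rw [hT', thompson_map_conj, card_map_of_injective (MulAut.conj n).injective,
      card_map_of_injective (MulAut.conj g).injective]
  exact isJComponent_conj hKJ (heq ▸ hn) hJ'

end CfsgLib.LocalEvenB.JOver
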