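import Cfsg.Agent.Lib.LocalEvenB.JOver.Unique

/-!
# The center of the Thompson subgroup and the components over it
-/

set_option autoImplicit false
set_option linter.all false

namespace CfsgLib.LocalEvenB.JOver

open Subgroup Cfsg
open scoped commutatorElement

variable {G : Type*} [Group G]

/-- The standing hypotheses on the group. -/
structure ZNHyp (G : Type*) [Group G] : Prop where
  ch : Cfsg.IsCharacteristicTwoType G
  solv : ∀ N : Subgroup G, Cfsg.IsTwoLocal N → Group.IsSolvable ↥N
  hZ : ∀ S : Sylow 2 G, centralizer (omegaCenterOf (S : Subgroup G) : Set G) ≤ normalizer ((S : Subgroup G) : Set G)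

/-- `Ω₁(Z(J(T)))`. -/
def jCenter (T : Subgroup G) : Subgroup G := omegaCenterOf (thompsonSubgroupOf 2 T)

/-- The part of `Ω₁(Z(J(T)))` centralised by `K`. -/
def jFix (T K : Subgroup G) : Subgroup G := jCenter T ⊓ centralizer (K : Set G)

/-- Every maximal 2-local subgroup over `⟨K, J(T)⟩` equals `L`. -/
def IsUniqueOver (T K L : Subgroup G) : Prop :=
  IsMaximalTwoLocal L ∧ K ⊔ thompsonSubgroupOf 2 T ≤ L ∧
    ∀ X, IsMaximalTwoLocal X → K ⊔ thompsonSubgroupOf 2 T ≤ X → X = L

variable [Finite G]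

theorem wOf_le_self (K : Subgroup G) : wOf K ≤ K := by
  refine commutator_le.2 fun v hv k hk => ?_
  rw [commutatorElement_def]
  have hv' : v ∈ K := map_subtype_le _ (omegaCenterOf_le_self _ hv)
  exact mul_mem (mul_mem (mul_mem hv' hk) (inv_mem hv')) (inv_mem hk)

theorem jCenter_elementary (T : Subgroup G) : IsElementaryAbelian 2 (jCenter T) :=
  JData.omegaCenter_elementary _

theorem jCenter_le (T : Subgroup G) : jCenter T ≤ thompsonSubgroupOf 2 T := omegaCenterOf_le_self _

theorem jCenter_centralizes (T : Subgroup G) :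
    thompsonSubgroupOf 2 T ≤ centralizer (jCenter T : Set G) :=
  fun j hj => mem_centralizer_iff.2 fun z hz => (centralizes_omegaCenterOf hz hj).symm

theorem jCenter_congr {T T' : Subgroup G} (h : thompsonSubgroupOf 2 T' = thompsonSubgroupOf 2 T) :
    jCenter T' = jCenter T := by
  unfold jCenter
  rw [h]

/-- Elements of `T` centralising a big subgroup, of order two, lie in it. -/
theorem mem_of_isBig {T A : Subgroup G} (hA : IsBig T A) {z : G} (hzT : z ∈ T) (hz2 : z ^ 2 = 1)
    (hc : ∀ a ∈ A, a * z = z * a) : z ∈ A := by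
  have hzp : IsElementaryAbelian 2 (zpowers z) :=
    ⟨inferInstance, fun y hy => by
      obtain ⟨k, rfl⟩ := mem_zpowers_iff.1 hy
      rw [← zpow_natCast, zpow_comm, zpow_natCast, hz2, one_zpow]⟩
  have hcm := CfsgLib.Techniques.abelian_sup hA.elem.1 hzp.1
    (show A ≤ centralizer (zpowers z : Set G) from fun a ha => mem_centralizer_iff.2 fun y hy => by
      obtain ⟨k, rfl⟩ := mem_zpowers_iff.1 hy
      exact ((show Commute a z from hc a ha).zpow_right k).eq.symm)
  have hel : IsElementaryAbelian 2 (A ⊔ zpowers z : Subgroup G) := by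
    refine ⟨hcm, fun y hy => ?_⟩
    rw [sup_eq_closure] at hy
    induction hy using closure_induction with
    | mem y hy => exact hy.elim (fun h => hA.elem.2 y h) (fun h => hzp.2 y h)
    | one => exact one_pow _
    | mul y w hy hw ihy ihw =>
      rw [← sup_eq_closure] at hy hw
      rw [Commute.mul_pow (CfsgLib.PLocal.comm_of_mem hcm hy hw), ihy, ihw, one_mul]
    | inv y _ ihy => rw [inv_pow, ihy, inv_one]
  exact (eq_of_le_of_card_ge le_sup_left (hA.max _ (sup_le hA.le (zpowers_le.2 hzT)) hel)).ge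
    (mem_sup_right (mem_zpowers z))

/-- `Ω₁(Z(T)) ≤ Ω₁(Z(J(T)))`. -/
theorem omegaCenterOf_le_jCenter (T : Subgroup G) : omegaCenterOf T ≤ jCenter T := by
  intro z hz
  have hz2 := (JData.omegaCenter_elementary T).2 z hz
  have hzT := omegaCenterOf_le_self T hz
  refine mem_omegaCenterOf ?_ (fun r hr => centralizes_omegaCenterOf hz (thompsonSubgroupOf_le T hr)) hz2
  obtain ⟨A, hA⟩ := exists_isBig T
  exact le_thompsonSubgroupOf hA (mem_of_isBig hA hzT hz2 fun a ha => centralizes_omegaCenterOf hz (hA.le ha))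

theorem jFix_inf_wOf {T K : Subgroup G} (hT : IsPGroup 2 T) (hK : IsJComponent T K) : jFix T K ⊓ wOf K = ⊥ := by
  obtain ⟨S, hd⟩ := exists_jData hT hK
  obtain ⟨c, hc, hco, hcc⟩ := hd.exists_odd_not_centralizing
  rw [eq_bot_iff]
  intro u hu
  by_contra hu1
  refine hcc (mem_centralizer_iff.2 fun w hw =>
    (four_odd_fixed hd.wcard hd.wsq (hd.le_normalizer_W (mem_sup_left hc)) hco (mem_inf.1 hu).2 (mem_bot.not.1 hu1)
      (mem_centralizer_iff.1 (mem_inf.1 (mem_inf.1 hu).1).2 c hc) w hw).symm)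

theorem jCenter_eq_sup {T K : Subgroup G} (hT : IsPGroup 2 T) (hK : IsJComponent T K) :
    jFix T K ⊔ (jCenter T ⊓ wOf K) = jCenter T := by
  obtain ⟨S, hd⟩ := exists_jData hT hK
  obtain ⟨h1, h2⟩ := hd.omega_center_split (jCenter T) rfl
  refine le_antisymm (sup_le inf_le_left inf_le_left) (h2.ge.trans (sup_le_sup_right ?_ _))
  exact inf_le_inf_left _ (inf_le_right.trans (centralizer_le (SetLike.coe_subset_coe.2 le_sup_left)))

theorem card_jCenter_inf_wOf {T K : Subgroup G} (hT : IsPGroup 2 T) (hK : IsJComponent T K) :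
    Nat.card ↥(jCenter T ⊓ wOf K) = 2 := by
  obtain ⟨S, hd⟩ := exists_jData hT hK
  exact (hd.omega_center_split (jCenter T) rfl).1

theorem card_jCenter {T K : Subgroup G} (hT : IsPGroup 2 T) (hK : IsJComponent T K) :
    Nat.card ↥(jCenter T) = 2 * Nat.card ↥(jFix T K) := by
  have h := CfsgLib.PLocal.card_sup_mul_card_inf (jFix T K) (jCenter T ⊓ wOf K)
    (le_trans (fun x hx => le_centralizer_iff_isMulCommutative.2 (jCenter_elementary T).1 hx.1)
      ((centralizer_le (show ((jCenter T ⊓ wOf K : Subgroup G) : Set G) ⊆ (jCenter T : Set G) from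
        fun x hx => hx.1)).trans (centralizer_le_normalizer _)))
  have hb : jFix T K ⊓ (jCenter T ⊓ wOf K) = ⊥ := by
    rw [eq_bot_iff, ← jFix_inf_wOf hT hK]
    exact inf_le_inf_left _ inf_le_right
  rw [jCenter_eq_sup hT hK, hb, card_bot, mul_one, card_jCenter_inf_wOf hT hK] at h
  omega

theorem jFix_centralizes {T K : Subgroup G} : K ⊔ thompsonSubgroupOf 2 T ≤ centralizer (jFix T K : Set G) :=
  sup_le (fun k hk => mem_centralizer_iff.2 fun h hh => ((mem_centralizer_iff.1 (mem_inf.1 hh).2 k hk)).symm)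
    ((jCenter_centralizes T).trans (centralizer_le (fun x hx => hx.1)))

/-- The centralizer of an involution is 2-local. -/
theorem isTwoLocal_centralizer {h : G} (h2 : h ^ 2 = 1) (h1 : h ≠ 1) :
    IsTwoLocal (centralizer ({h} : Set G)) := by
  refine ⟨zpowers h, ?_, zpowers_ne_bot.2 h1, ?_⟩
  · exact IsPGroup.of_card (n := 1) (by
      rw [Nat.card_zpowers, orderOf_eq_prime (p := 2) h2 h1, pow_one])
  · refine le_antisymm (fun g hg => centralizer_le_normalizer _ ?_) fun g hg => ?_
    · rw [mem_centralizer_iff]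
      rintro x hx
      obtain ⟨k, rfl⟩ := mem_zpowers_iff.1 hx
      exact ((show Commute g h from (mem_centralizer_singleton_iff.1 hg)).zpow_right k).eq.symm
    · have := (mem_normalizer_iff.1 hg h).1 (mem_zpowers h)
      rw [mem_centralizer_singleton_iff]
      obtain ⟨k, hk⟩ := mem_zpowers_iff.1 this
      rcases Int.even_or_odd k with ⟨m, hm⟩ | ⟨m, hm⟩
      · rw [hm, ← two_mul, zpow_mul, show h ^ (2 : ℤ) = 1 by exact_mod_cast h2, one_zpow] at hk
        exact absurd (conj_eq_one_iff.1 hk.symm) h1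
      · rw [hm, zpow_add, zpow_mul, show h ^ (2 : ℤ) = 1 by exact_mod_cast h2, one_zpow, one_mul, zpow_one] at hk
        exact mul_inv_eq_iff_eq_mul.1 hk.symm

/-- Centralizers of nontrivial elements fixed by `K` lie in the overgroup. -/
theorem centralizer_jFix_le {T K L : Subgroup G} (hU : IsUniqueOver T K L) {h : G} (hh : h ∈ jFix T K) (h1 : h ≠ 1) :
    centralizer ({h} : Set G) ≤ L := by
  obtain ⟨X, hX, hle⟩ := exists_maximalTwoLocal_ge
    (isTwoLocal_centralizer ((jCenter_elementary T).2 h (mem_inf.1 hh).1) h1)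
  have := hU.2.2 X hX (le_trans (fun g hg => hle (mem_centralizer_singleton_iff.2
    (mem_centralizer_iff.1 (jFix_centralizes hg) h hh).symm)) le_rfl)
  exact this ▸ hle

/-- Components over different maximal subgroups have disjoint fixed parts. -/
theorem jFix_inf_jFix {T K L K' L' : Subgroup G} (hU : IsUniqueOver T K L) (hU' : IsUniqueOver T K' L')
    (hne : L ≠ L') : jFix T K ⊓ jFix T K' = ⊥ := by
  rw [eq_bot_iff]
  intro h hh
  by_contra h1
  obtain ⟨hh, hh'⟩ := mem_inf.1 hh
  obtain ⟨X, hX, hle⟩ := exists_maximalTwoLocal_ge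
    (isTwoLocal_centralizer ((jCenter_elementary T).2 h (mem_inf.1 hh).1) (mem_bot.not.1 h1))
  have e1 := hU.2.2 X hX (fun g hg => hle (mem_centralizer_singleton_iff.2
    (mem_centralizer_iff.1 (jFix_centralizes hg) h hh).symm))
  have e2 := hU'.2.2 X hX (fun g hg => hle (mem_centralizer_singleton_iff.2
    (mem_centralizer_iff.1 (jFix_centralizes hg) h hh').symm))
  exact hne (e1.symm.trans e2)

theorem card_jFix_le_two {T K L K' L' : Subgroup G} (hT : IsPGroup 2 T) (hK : IsJComponent T K)
    (hU : IsUniqueOver T K L) (hU' : IsUniqueOver T K' L') (hne : L ≠ L') : Nat.card ↥(jFix T K') ≤ 2 := by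
  have h := CfsgLib.PLocal.card_sup_mul_card_inf (jFix T K) (jFix T K')
    (le_trans (fun x hx => le_centralizer_iff_isMulCommutative.2 (jCenter_elementary T).1 hx.1)
      ((centralizer_le (show ((jFix T K' : Subgroup G) : Set G) ⊆ (jCenter T : Set G) from
        fun x hx => hx.1)).trans (centralizer_le_normalizer _)))
  rw [jFix_inf_jFix hU hU' hne, card_bot, mul_one] at h
  have h2 := card_le_of_le (sup_le inf_le_left inf_le_left : jFix T K ⊔ jFix T K' ≤ jCenter T)
  rw [← h, card_jCenter hT hK, mul_comm 2] at h2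
  exact Nat.le_of_mul_le_mul_left h2 Nat.card_pos

/-- A component does not centralise the central involutions of a Sylow subgroup over `T`. -/
theorem not_centralizes_omegaCenter (hG : ZNHyp G) {T K : Subgroup G} (hK : IsJComponent T K)
    (S : Sylow 2 G) (hTS : T ≤ (S : Subgroup G)) :
    ¬ K ≤ centralizer (omegaCenterOf (S : Subgroup G) : Set G) := by
  intro hle
  have hKS : K ≤ normalizer ((S : Subgroup G) : Set G) := hle.trans (hG.hZ S)
  set J := thompsonSubgroupOf 2 T with hJ
  have hJS : J ≤ (S : Subgroup G) := (thompsonSubgroupOf_le T).trans hTS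
  set H := K ⊔ J with hH
  have hHS : H ≤ normalizer ((S : Subgroup G) : Set G) := sup_le hKS (hJS.trans le_normalizer)
  have hn : ((S : Subgroup G).subgroupOf H).Normal :=
    ⟨fun x hx y => (mem_normalizer_iff.1 (hHS y.2) ((x : ↥H) : G)).1 hx⟩
  haveI : ((S : Subgroup G).comap H.subtype).Normal := hn
  have hcore : (S : Subgroup G).subgroupOf H ≤ Cfsg.pCore 2 ↥H :=
    CfsgLib.Core.le_pCore (p := 2) (S.isPGroup'.comap_subtype (K := H))
  have hKH : K ≤ H := le_sup_left
  have hJO : J ≤ pCoreOf 2 H := fun j hj => ⟨⟨j, mem_sup_right hj⟩, hcore (mem_subgroupOf.2 (hJS hj)), rfl⟩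
  have hKQ : K ≤ pCoreOf 2 H := by
    refine hK.2.1.ge.trans (commutator_le.2 fun k hk j hj => ?_)
    rw [commutatorElement_def]
    exact mul_mem ((mem_normalizer_iff.1 (le_normalizer_pCoreOf_self H (hKH hk)) j).1 (hJO hj)) (inv_mem (hJO hj))
  have htop : Cfsg.pCore 2 ↥K = ⊤ :=
    top_unique (CfsgLib.Core.le_pCore (p := 2) (((pCoreOf_two H).to_le hKQ).of_equiv topEquiv.symm))
  have hidx := hK.2.2.1
  rw [pCoreOf, htop, ← MonoidHom.range_eq_map, K.range_subtype, relIndex_self] at hidx
  omega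

theorem omegaCenter_sylow_le {T L : Subgroup G} (hs : Setting L T) (S : Sylow 2 G) (hTS : T ≤ (S : Subgroup G)) :
    omegaCenterOf (S : Subgroup G) ≤ omegaCenterOf T := by
  intro z hz
  have hzc : ∀ q ∈ T, q * z = z * q := fun q hq => centralizes_omegaCenterOf hz (hTS hq)
  have hQT : pCoreOf 2 L ≤ T := by
    obtain ⟨h1, h2, h3⟩ := hs.syl
    intro q hq
    obtain ⟨q', hq', rfl⟩ := hq
    exact CfsgLib.Core.pCore_le_sylow ((h2.comap_subtype (K := L)).toSylow
      (fun hd => Nat.not_even_iff_odd.2 h3 (even_iff_two_dvd.2 hd))) hq'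
  exact mem_omegaCenterOf (hQT (hs.self (mem_centralizer_iff.2 fun q hq => hzc q (hQT hq)))) hzc
    ((JData.omegaCenter_elementary _).2 z hz)

end CfsgLib.LocalEvenB.JOver
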