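import Cfsg.Agent.Lib.LocalEvenB.JOver.Frame

/-!
# The factors of a frame
-/

set_option autoImplicit false
set_option linter.all false

namespace CfsgLib.LocalEvenB.JOver

open Subgroup Cfsg
open scoped commutatorElement

theorem perm3_even_pow : ∀ σ : Equiv.Perm (Fin 3), Equiv.Perm.sign σ = 1 → σ ^ 3 = 1 := by decide

theorem perm3_even_comm : ∀ σ τ : Equiv.Perm (Fin 3), Equiv.Perm.sign σ = 1 → Equiv.Perm.sign τ = 1 →
    σ * τ * σ⁻¹ = τ := by decide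

theorem perm3_odd_inv : ∀ σ τ : Equiv.Perm (Fin 3), Equiv.Perm.sign σ = -1 → Equiv.Perm.sign τ = 1 →
    σ * τ * σ⁻¹ = τ⁻¹ := by decide

theorem perm3_pow_cases : ∀ v τ : Equiv.Perm (Fin 3), Equiv.Perm.sign v = 1 → Equiv.Perm.sign τ = 1 → v ≠ 1 →
    τ = 1 ∨ τ = v ∨ τ = v * v := by decide

theorem perm3_no_exp : ∀ v u : Equiv.Perm (Fin 3), Equiv.Perm.sign v = 1 → Equiv.Perm.sign u = 1 → v ≠ 1 → u ≠ 1 →
    ¬ (v⁻¹ = 1 ∧ u = 1) ∧ ¬ (v⁻¹ = v ∧ u = u) ∧ ¬ (v⁻¹ = v * v ∧ u = u * u) := by decide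

variable {G : Type*} [Group G]

/-- Odd elements of a product with a normalizing 2-group. -/
theorem mem_of_odd_mem_sup {X Q : Subgroup G} (hQ : IsPGroup 2 Q) (hn : Q ≤ normalizer (X : Set G)) {x : G}
    (hx : x ∈ X ⊔ Q) (ho : Odd (orderOf x)) : x ∈ X := by
  have hle : X ⊔ Q ≤ normalizer (X : Set G) := sup_le le_normalizer hn
  let N : Subgroup G := normalizer (X : Set G)
  haveI : (X.subgroupOf N).Normal := normal_in_normalizer
  let π := QuotientGroup.mk' (X.subgroupOf N)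
  have h2 : IsPGroup 2 ((Q.subgroupOf N).map π) := (hQ.comap_subtype).map π
  have hmem : π ⟨x, hle hx⟩ ∈ (Q.subgroupOf N).map π := by
    have : X ⊔ Q ≤ (((Q.subgroupOf N).map π).comap π).map N.subtype := by
      refine sup_le (fun y hy => ⟨⟨y, le_normalizer hy⟩, ?_, rfl⟩) fun y hy => ⟨⟨y, hn hy⟩, ⟨⟨y, hn hy⟩, hy, rfl⟩, rfl⟩
      rw [SetLike.mem_coe, mem_comap, show π ⟨y, le_normalizer hy⟩ = 1 from (QuotientGroup.eq_one_iff _).2 hy]
      exact one_mem _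
    obtain ⟨y, hy, he⟩ := this hx
    exact (Subtype.ext he : y = ⟨x, hle hx⟩) ▸ hy
  obtain ⟨k, hk⟩ := h2 ⟨_, hmem⟩
  have h1 : orderOf (π ⟨x, hle hx⟩) ∣ 2 ^ k := orderOf_dvd_of_pow_eq_one (congrArg Subtype.val hk)
  have h3 : orderOf (π ⟨x, hle hx⟩) ∣ orderOf x := (Subgroup.orderOf_mk x (hle hx)) ▸ orderOf_map_dvd π _
  have h4 := Nat.eq_one_of_dvd_coprimes ((Nat.coprime_two_left.2 ho).pow_left k) h1 h3
  exact (QuotientGroup.eq_one_iff (⟨x, hle hx⟩ : ↥N)).1 (orderOf_eq_one_iff.1 h4)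

variable [Finite G] {L J Q : Subgroup G} (F : Frame L J Q)

/-- The subgroup behaves like a factor. -/
structure Comp (K : Subgroup G) : Prop where
  le : K ≤ F.Y
  gen : closure {g : G | g ∈ K ∧ Odd (orderOf g)} = K
  index : (pCoreOf 2 K).relIndex K = 3
  J_norm : J ≤ normalizer (K : Set G)
  Q_norm : Q ≤ normalizer (K : Set G)
  notker : ∃ x : ↥F.Y, (x : G) ∈ K ∧ F.φ x ≠ 1

/-- `K` is the factor with number `i`. -/
def AtIndex (K : Subgroup G) (i : Fin F.n) : Prop :=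
  (∀ y : ↥F.Y, (y : G) ∈ K → ∀ k, k ≠ i → F.φ y k = 1) ∧ ∃ x : ↥F.Y, (x : G) ∈ K ∧ F.φ x i ≠ 1

namespace Frame

theorem J_mem (j : ↥F.Y) (hj : (j : G) ∈ J) (q : G) (hq : q ∈ Q) : ⁅q, (j : G)⁆ ∈ J := F.comm_J _ hj q hq

theorem sign_odd (y : ↥F.Y) (ho : Odd (orderOf (y : G))) (k : Fin F.n) : Equiv.Perm.sign (F.φ y k) = 1 := by
  have h : (Equiv.Perm.sign (F.φ y k)) ^ orderOf (y : G) = 1 := by
    rw [← map_pow, ← Pi.pow_apply, ← map_pow, show y ^ orderOf (y : G) = 1 from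
      Subtype.ext (pow_orderOf_eq_one (y : G)), map_one]
    simp
  rcases Int.units_eq_one_or (Equiv.Perm.sign (F.φ y k)) with h1 | h1
  · exact h1
  · rw [h1, ho.neg_one_pow] at h
    exact absurd h (by decide)

/-- Signs are realized in `J`. -/
theorem exists_J_sign (v : Fin F.n → ℤˣ) :
    ∃ j : ↥F.Y, (j : G) ∈ J ∧ ∀ k, Equiv.Perm.sign (F.φ j k) = v k := by
  classical
  let sg : ↥F.Y →* (Fin F.n → ℤˣ) :=
    { toFun := fun y i => Equiv.Perm.sign (F.φ y i)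
      map_one' := funext fun i => by simp
      map_mul' := fun a b => funext fun i => by simp }
  have hv : v ∈ (J.subgroupOf F.Y).map sg := by
    rw [← Finset.univ_prod_mulSingle v]
    refine Subgroup.prod_mem _ fun i _ => ?_
    rcases Int.units_eq_one_or (v i) with h | h
    · rw [h, Pi.mulSingle_one]; exact one_mem _
    · obtain ⟨j, hj, hi, hk⟩ := F.flip i
      refine ⟨j, hj, funext fun k => ?_⟩
      show Equiv.Perm.sign (F.φ j k) = _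
      by_cases hki : k = i
      · subst hki; rw [hi, Pi.mulSingle_eq_same, h]
      · rw [hk k hki, Pi.mulSingle_eq_of_ne hki]
  obtain ⟨j, hj, he⟩ := hv
  exact ⟨j, hj, fun k => congrFun he k⟩

end Frame

namespace Comp

variable {F} {K : Subgroup G} (hK : Comp F K)
include hK

theorem sign_eq (y : ↥F.Y) (hy : (y : G) ∈ K) (k : Fin F.n) : Equiv.Perm.sign (F.φ y k) = 1 := by
  let D : Subgroup G :=
    (((Equiv.Perm.sign.comp ((Pi.evalMonoidHom _ k).comp F.φ)).ker).map F.Y.subtype)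
  have : K ≤ D := by
    conv_lhs => rw [← hK.gen]
    rw [closure_le]
    rintro x ⟨hx, ho⟩
    refine ⟨⟨x, hK.le hx⟩, ?_, rfl⟩
    show Equiv.Perm.sign (F.φ ⟨x, hK.le hx⟩ k) = 1
    exact F.sign_odd _ ho k
  obtain ⟨y', hy', he⟩ := this hy
  exact (Subtype.ext he : y' = y) ▸ hy'

theorem core_ker {y : ↥F.Y} (hy : (y : G) ∈ pCoreOf 2 K) : F.φ y = 1 ∧ (y : G) ∈ Q := by
  have hyK : (y : G) ∈ K := map_subtype_le _ hy
  obtain ⟨m, hm⟩ := ((CfsgLib.Core.isPGroup_pCore 2 ↥K).map K.subtype) ⟨(y : G), hy⟩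
  have hm' : (y : G) ^ 2 ^ m = 1 := congrArg Subtype.val hm
  have h1 : F.φ y = 1 := by
    funext k
    have h3 := perm3_even_pow _ (hK.sign_eq y hyK k)
    have h2 : (F.φ y k) ^ 2 ^ m = 1 := by
      rw [← Pi.pow_apply, ← map_pow, show y ^ 2 ^ m = 1 from Subtype.ext hm', map_one]; rfl
    exact orderOf_eq_one_iff.1 (Nat.eq_one_of_dvd_coprimes ((by norm_num : Nat.Coprime 2 3).pow_left m)
      (orderOf_dvd_of_pow_eq_one h2) (orderOf_dvd_of_pow_eq_one h3))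
  exact ⟨h1, F.ker_two y h1 m (by rw [hm']; exact one_mem _)⟩

theorem exp_cases {x : ↥F.Y} (hx : (x : G) ∈ K) (hx1 : F.φ x ≠ 1) {y : ↥F.Y} (hy : (y : G) ∈ K) :
    F.φ y = 1 ∨ F.φ y = F.φ x ∨ F.φ y = F.φ x * F.φ x := by
  haveI : (pCore 2 ↥K).Normal := CfsgLib.Core.normal_pCore 2 ↥K
  have e : pCoreOf 2 K = (pCore 2 ↥K).map K.subtype := rfl
  have hcard : Nat.card (↥K ⧸ pCore 2 ↥K) = 3 := by
    have := hK.index
    rwa [relIndex, subgroupOf, e, comap_map_eq_self_of_injective K.subtype_injective, Subgroup.index] at this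
  haveI : Fact (Nat.Prime 3) := ⟨Nat.prime_three⟩
  let π := QuotientGroup.mk' (pCore 2 ↥K)
  have hker : ∀ z : ↥F.Y, ∀ hz : (z : G) ∈ K, π ⟨z, hz⟩ = 1 → F.φ z = 1 := fun z hz h =>
    (hK.core_ker (e ▸ ⟨⟨z, hz⟩, (QuotientGroup.eq_one_iff (⟨z, hz⟩ : ↥K)).1 h, rfl⟩)).1
  have hne : π ⟨x, hx⟩ ≠ 1 := fun h => hx1 (hker x hx h)
  obtain ⟨e', he'⟩ := mem_powers_of_prime_card (g' := π ⟨y, hy⟩) hcard hne
  have h3 : (π ⟨x, hx⟩) ^ 3 = 1 := by rw [← hcard]; exact pow_card_eq_one'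
  have hred : (π ⟨x, hx⟩) ^ (e' % 3) = π ⟨y, hy⟩ := by
    rw [← he']
    show _ = (π ⟨x, hx⟩) ^ e'
    conv_rhs => rw [← Nat.mod_add_div e' 3, pow_add, pow_mul, h3, one_pow, mul_one]
  have hmem : ((x ^ (e' % 3))⁻¹ * y : ↥F.Y).1 ∈ K := K.mul_mem (K.inv_mem (K.pow_mem hx _)) hy
  have h1 : F.φ ((x ^ (e' % 3))⁻¹ * y) = 1 := hker _ hmem (by
    show π ((⟨x, hx⟩ ^ (e' % 3))⁻¹ * ⟨y, hy⟩) = 1
    rw [map_mul, map_inv, map_pow, hred, inv_mul_cancel])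
  rw [map_mul, map_inv, map_pow, inv_mul_eq_one] at h1
  have hlt : e' % 3 < 3 := Nat.mod_lt _ (by norm_num)
  interval_cases hh : e' % 3
  · left; rw [← h1, pow_zero]
  · right; left; rw [← h1, pow_one]
  · right; right; rw [← h1, pow_two]

theorem ker_le {y : ↥F.Y} (hy : (y : G) ∈ K) (h1 : F.φ y = 1) : (y : G) ∈ pCoreOf 2 K := by
  haveI : (pCore 2 ↥K).Normal := CfsgLib.Core.normal_pCore 2 ↥K
  have hcard : Nat.card (↥K ⧸ pCore 2 ↥K) = 3 := by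
    have := hK.index
    rwa [relIndex, subgroupOf, pCoreOf, comap_map_eq_self_of_injective K.subtype_injective, Subgroup.index] at this
  haveI : Fact (Nat.Prime 3) := ⟨Nat.prime_three⟩
  let π := QuotientGroup.mk' (pCore 2 ↥K)
  by_contra hne
  have hne' : π ⟨y, hy⟩ ≠ 1 := fun h => hne ⟨⟨y, hy⟩, (QuotientGroup.eq_one_iff (⟨y, hy⟩ : ↥K)).1 h, rfl⟩
  obtain ⟨x, hx, hx1⟩ := hK.notker
  obtain ⟨e', he'⟩ := mem_powers_of_prime_card (g' := π ⟨x, hx⟩) hcard hne'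
  have hmem : ((y ^ e')⁻¹ * x : ↥F.Y).1 ∈ K := K.mul_mem (K.inv_mem (K.pow_mem hy _)) hx
  have hcore : ((y ^ e')⁻¹ * x : ↥F.Y).1 ∈ pCoreOf 2 K := by
    refine ⟨(⟨y, hy⟩ ^ e')⁻¹ * ⟨x, hx⟩, (QuotientGroup.eq_one_iff _).1 ?_, rfl⟩
    show π ((⟨y, hy⟩ ^ e')⁻¹ * ⟨x, hx⟩) = 1
    rw [map_mul, map_inv, map_pow, inv_mul_eq_one]
    exact he'
  have := (hK.core_ker hcore).1
  rw [map_mul, map_inv, map_pow, h1, one_pow, inv_one, one_mul] at this
  exact hx1 this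

theorem exists_index : ∃ i, AtIndex F K i := by
  obtain ⟨x, hx, hx1⟩ := hK.notker
  obtain ⟨i, hi⟩ : ∃ i, F.φ x i ≠ 1 := by
    by_contra hall
    push Not at hall
    exact hx1 (funext hall)
  refine ⟨i, ?_, x, hx, hi⟩
  have key : ∀ k, k ≠ i → F.φ x k = 1 := by
    intro k hk
    by_contra hxk
    obtain ⟨j, hj, hji, hjk⟩ := F.flip i
    have hmem : ((j * x * j⁻¹ : ↥F.Y) : G) ∈ K := (mem_normalizer_iff.1 (hK.J_norm hj) _).1 hx
    have ei : F.φ (j * x * j⁻¹) i = (F.φ x i)⁻¹ := by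
      rw [map_mul, map_mul, map_inv, Pi.mul_apply, Pi.mul_apply, Pi.inv_apply]
      exact perm3_odd_inv _ _ hji (hK.sign_eq x hx i)
    have ek : F.φ (j * x * j⁻¹) k = F.φ x k := by
      rw [map_mul, map_mul, map_inv, Pi.mul_apply, Pi.mul_apply, Pi.inv_apply]
      exact perm3_even_comm _ _ (hjk k hk) (hK.sign_eq x hx k)
    obtain ⟨n1, n2, n3⟩ := perm3_no_exp (F.φ x i) (F.φ x k) (hK.sign_eq x hx i) (hK.sign_eq x hx k) hi hxk
    rcases hK.exp_cases hx hx1 hmem with h | h | h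
    · exact n1 ⟨by rw [← ei, h]; rfl, by rw [← ek, h]; rfl⟩
    · exact n2 ⟨by rw [← ei, h], rfl⟩
    · refine n3 ⟨by rw [← ei, h]; rfl, ?_⟩
      conv_lhs => rw [← ek, h]
      rfl
  intro y hy k hk
  rcases hK.exp_cases hx hx1 hy with h | h | h <;> rw [h]
  · rfl
  · exact key k hk
  · rw [Pi.mul_apply, key k hk, one_mul]

theorem inverts {i : Fin F.n} (hi : AtIndex F K i) {j : ↥F.Y} (hj : (j : G) ∈ J)
    (hs : Equiv.Perm.sign (F.φ j i) = -1) {y : ↥F.Y} (hy : (y : G) ∈ K) :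
    ((j * y * j⁻¹ * y : ↥F.Y) : G) ∈ pCoreOf 2 K := by
  refine hK.ker_le (K.mul_mem ((mem_normalizer_iff.1 (hK.J_norm hj) _).1 hy) hy) (funext fun k => ?_)
  rw [map_mul, map_mul, map_mul, map_inv, Pi.mul_apply, Pi.mul_apply, Pi.mul_apply, Pi.inv_apply, Pi.one_apply]
  by_cases hk : k = i
  · subst hk; rw [perm3_odd_inv _ _ hs (hK.sign_eq y hy k), inv_mul_cancel]
  · rw [hi.1 y hy k hk]; simp

theorem fixes {i : Fin F.n} (hi : AtIndex F K i) {j : ↥F.Y} (hj : (j : G) ∈ J)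
    (hs : Equiv.Perm.sign (F.φ j i) = 1) {y : ↥F.Y} (hy : (y : G) ∈ K) :
    ((j * y * j⁻¹ * y⁻¹ : ↥F.Y) : G) ∈ pCoreOf 2 K := by
  refine hK.ker_le (K.mul_mem ((mem_normalizer_iff.1 (hK.J_norm hj) _).1 hy) (K.inv_mem hy)) (funext fun k => ?_)
  rw [map_mul, map_mul, map_mul, map_inv, map_inv, Pi.mul_apply, Pi.mul_apply, Pi.mul_apply, Pi.inv_apply,
    Pi.inv_apply, Pi.one_apply]
  by_cases hk : k = i
  · subst hk; rw [perm3_even_comm _ _ hs (hK.sign_eq y hy k), mul_inv_cancel]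
  · rw [hi.1 y hy k hk]; simp

end Comp

end CfsgLib.LocalEvenB.JOver
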