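import Cfsg.Agent.Lib.LocalEvenB.JOver.Amalgam

/-!
# Components whose points are fixed by components with other overgroups
-/

set_option autoImplicit false
set_option linter.all false

namespace CfsgLib.LocalEvenB.JOver

open Subgroup Cfsg
open scoped commutatorElement Pointwise

variable {G : Type*} [Group G] [Finite G] {T A B LA LB : Subgroup G}

/-- A component in the overgroup with the same point is the vertex itself. -/
theorem component_eq_of_point (va : Vtx T A LA) {E : Subgroup G} (hE : IsJComponent T E) (hEL : E ≤ LA)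
    {z : G} (hz : IsPoint T A z) (hzE : IsPoint T E z) : E = A := by
  by_contra hne
  refine va.not_mem_jFix_point hz (mem_inf.2 ⟨hz.1, mem_centralizer_iff.2 fun a ha => ?_⟩)
  exact (mem_centralizer_iff.1 (le_centralizer_wOf va.set hE hEL va.jc va.le (Ne.symm hne) ha) z hzE.2.1).symm

/-- Noncommuting four-groups of two vertices have the same point. -/
theorem same_point_of_noncommute (va : Vtx T A LA) (vb : Vtx T B LB) {za zb : G} (hza : IsPoint T A za)
    (hzb : IsPoint T B zb) (hnc : ¬ wOf A ≤ centralizer (wOf B : Set G)) : za = zb := by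
  obtain ⟨u, hu, huc⟩ := SetLike.not_le_iff_exists.1 hnc
  obtain ⟨w, hw, huw⟩ : ∃ w ∈ wOf B, u * w * u⁻¹ * w⁻¹ ≠ 1 := by
    by_contra h0
    push Not at h0
    exact huc (mem_centralizer_iff.2 fun w hw => (mul_inv_eq_iff_eq_mul.1 (mul_inv_eq_one.1 (h0 w hw))).symm)
  have h1 : u * w * u⁻¹ * w⁻¹ = zb := (vb.comm_point hzb (W_le_T_of_vtx va hu) hw).resolve_left huw
  have e : w * u * w⁻¹ * u⁻¹ = (u * w * u⁻¹ * w⁻¹)⁻¹ := by group
  rcases va.comm_point hza (W_le_T_of_vtx vb hw) hu with h | h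
  · rw [e, inv_eq_one] at h
    exact absurd h huw
  · rw [e, h1, inv_eq_of_mul_eq_one_left (vb.W_sq zb hzb.2.1)] at h
    exact h.symm

theorem commute_of_ne_point (va : Vtx T A LA) (vb : Vtx T B LB) {za zb : G} (hza : IsPoint T A za)
    (hzb : IsPoint T B zb) (hne : za ≠ zb) : wOf A ≤ centralizer (wOf B : Set G) :=
  by_contra fun h => hne (same_point_of_noncommute va vb hza hzb h)

/-- A conjugate of `T` inside an overgroup is a Sylow 2-subgroup of it. -/
theorem isSylowTwoIn_of_card {L R : Subgroup G} (hT : IsSylowTwoIn T L) (hR : R ≤ L)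
    (hc : Nat.card R = Nat.card T) : IsSylowTwoIn R L := by
  refine ⟨hR, ?_, ?_⟩
  · haveI : Fact (Nat.Prime 2) := ⟨Nat.prime_two⟩
    obtain ⟨n, hn⟩ := IsPGroup.iff_card.1 hT.2.1
    exact IsPGroup.of_card (n := n) (hc.trans hn)
  · have h1 := relIndex_mul_relIndex (⊥ : Subgroup G) R L bot_le hR
    have h2 := relIndex_mul_relIndex (⊥ : Subgroup G) T L bot_le hT.1
    simp only [relIndex_bot_left] at h1 h2
    rw [hc, ← h2] at h1
    rw [Nat.eq_of_mul_eq_mul_left Nat.card_pos h1]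
    exact hT.2.2

/-- With a single component, an overgroup is a product with the normalizer of `J(T)`. -/
theorem single_decomp (vb : Vtx T B LB) (hsingle : ∀ E, IsJComponent T E → E ≤ LB → E = B) {l : G} (hl : l ∈ LB) :
    ∃ e ∈ B, ∃ n ∈ LB, n ∈ normalizer (thompsonSubgroupOf 2 T : Set G) ∧ n ∈ normalizer (B : Set G) ∧ l = e * n := by
  have hN : LB ≤ normalizer (B : Set G) := by
    intro g hg
    obtain ⟨h1, h2⟩ := isJComponent_map vb.set vb.jc vb.le hg
    exact CfsgLib.LocalEvenB.map_conj_eq_self_iff_mem_normalizer.1 (hsingle _ h1 h2)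
  set N := LB ⊓ normalizer (thompsonSubgroupOf 2 T : Set G) with hNdef
  have hTN : T ≤ N := le_inf vb.set.syl.1 (fun t ht =>
    CfsgLib.LocalEvenB.normalizer_le_normalizer_thompsonSubgroupOf (p := 2) T (le_normalizer ht))
  have hle : LB ≤ B ⊔ N := by
    by_contra h
    obtain ⟨E, hE, hEL, hEM⟩ := exists_component_outside' vb.set (hTN.trans le_sup_right) le_sup_right h
    exact hEM (hsingle E hE hEL ▸ le_sup_left)
  have hl' : l ∈ (B : Set G) * (N : Set G) := by
    rw [← coe_mul_of_right_le_normalizer_left B N (inf_le_left.trans hN)]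
    exact hle hl
  obtain ⟨e, he, n, hn, rfl⟩ := hl'
  exact ⟨e, he, n, (mem_inf.1 hn).1, (mem_inf.1 hn).2, hN (mem_inf.1 hn).1, rfl⟩

theorem odd_orderOf_zpow {x : G} (hx : Odd (orderOf x)) {y : G} (hy : y ∈ zpowers x) : Odd (orderOf y) :=
  Odd.of_dvd_nat hx (orderOf_dvd_of_mem_zpowers hy)

theorem jFix_nontrivial_of_four (va : Vtx T A LA) (hZ : 2 < Nat.card ↥(jCenter T)) :
    ∃ h ∈ jFix T A, h ≠ 1 := by
  by_contra h0
  push Not at h0
  have h1 := card_jCenter va.T_two va.jc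
  rw [(eq_bot_iff_forall _).2 h0, card_bot] at h1
  omega

theorem two_lt_card_jCenter {u v : G} (hu : u ∈ jCenter T) (hv : v ∈ jCenter T) (hu1 : u ≠ 1) (hv1 : v ≠ 1)
    (huv : u ≠ v) : 2 < Nat.card ↥(jCenter T) := by
  have hinj : Function.Injective ![(1 : jCenter T), ⟨u, hu⟩, ⟨v, hv⟩] := by
    intro i j hij
    fin_cases i <;> fin_cases j <;> simp_all [Subtype.ext_iff, eq_comm]
  have := Nat.card_le_card_of_injective _ hinj
  simp at this
  omega

/-- The point of a vertex is not carried by a noncommuting conjugate when a single component fixes it. -/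
theorem no_crossing (va : Vtx T A LA) (vb : Vtx T B LB) (hne : LA ≠ LB) {za : G} (hza : IsPoint T A za)
    (hzaB : za ∈ jFix T B) (hsingle : ∀ E, IsJComponent T E → E ≤ LB → E = B)
    (hinj : ∀ D LD, Vtx T D LD → IsPoint T D za → LD = LA)
    {C LC : Subgroup G} (vc : Vtx T C LC) {zc h : G} (hzc : IsPoint T C zc) (hh : za = h * zc * h⁻¹)
    (hnc : ¬ wOf A ≤ centralizer ((wOf C).map (MulAut.conj h).toMonoidHom : Set G)) : False := by
  obtain ⟨zb, hzb⟩ := vb.exists_isPoint
  have hzab : za ≠ zb := fun e => vb.not_mem_jFix_point hzb (e ▸ hzaB)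
  have hcB : Nat.card ↥(jFix T B) ≤ 2 := card_jFix_le_two va.T_two va.jc va.uq vb.uq hne
  obtain ⟨ha, hha, hha1⟩ := jFix_nontrivial_of_four va (two_lt_card_jCenter hza.1 hzb.1 hza.2.2 hzb.2.2 hzab)
  -- the conjugate of `T` lies in the overgroup of `B`
  have hTh : T.map (MulAut.conj h).toMonoidHom ≤ LB := by
    rintro _ ⟨t, ht, rfl⟩
    refine centralizer_jFix_le vb.uq hzaB hza.2.2 (mem_centralizer_singleton_iff.2 ?_)
    show h * t * h⁻¹ * za = za * (h * t * h⁻¹)
    rw [hh]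
    calc h * t * h⁻¹ * (h * zc * h⁻¹) = h * (t * zc) * h⁻¹ := by group
      _ = h * (zc * t) * h⁻¹ := by rw [vc.point_fixed hzc ht]
      _ = h * zc * h⁻¹ * (h * t * h⁻¹) := by group
  obtain ⟨l, hl, hlT⟩ := sylowTwoIn_conj vb.set.syl
    (isSylowTwoIn_of_card vb.set.syl hTh (card_map_of_injective (MulAut.conj h).injective))
  obtain ⟨e, he, n, hnL, hnJ, hnB, hln⟩ := single_decomp vb hsingle hl
  -- `n` fixes the center and the vertex `A`
  have hncZ := centralizes_jCenter vb.T_two vb.jc hcB hnJ hnB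
  have hnA : n ∈ LA := centralizer_jFix_le va.uq hha hha1
    (mem_centralizer_singleton_iff.2 (mem_centralizer_iff.1 hncZ ha (mem_inf.1 hha).1).symm)
  have hnz : n * za * n⁻¹ = za := by
    rw [← mem_centralizer_iff.1 hncZ za hza.1, mul_inv_cancel_right]
  obtain ⟨hA1, hA2⟩ := isJComponent_map va.set va.jc va.le hnA
  have hnAeq : A.map (MulAut.conj n).toMonoidHom = A :=
    component_eq_of_point va hA1 hA2 hza (hnz ▸ isPoint_conj hza hnJ)
  -- the vertex with the same point
  set m := (e * n)⁻¹ * h with hm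
  have hmT : m ∈ normalizer (T : Set G) := by
    refine CfsgLib.LocalEvenB.map_conj_eq_self_iff_mem_normalizer.1 ?_
    rw [hm, ← hln, ← CfsgLib.LocalEvenB.map_conj_map_conj, ← hlT, map_conj_map_inv]
  have vd := vc.conj hmT
  have hzd : IsPoint T (C.map (MulAut.conj m).toMonoidHom) za := by
    have h1 := isPoint_conj hzc (CfsgLib.LocalEvenB.normalizer_le_normalizer_thompsonSubgroupOf (p := 2) T hmT)
    have he' : e⁻¹ * za * e = za := by
      rw [mul_assoc, ← mem_centralizer_iff.1 (mem_inf.1 hzaB).2 e he, inv_mul_cancel_left]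
    have hn' : n⁻¹ * za * n = za := by
      conv_lhs => rw [← hnz]
      group
    have e2 : m * zc * m⁻¹ = za := by
      calc m * zc * m⁻¹ = n⁻¹ * (e⁻¹ * (h * zc * h⁻¹) * e) * n := by rw [hm]; group
        _ = za := by rw [← hh, he', hn']
    rwa [e2] at h1
  have hLd := hinj _ _ vd hzd
  have hd : C.map (MulAut.conj m).toMonoidHom = A :=
    component_eq_of_point va vd.jc (hLd ▸ vd.le) hza hzd
  have hW : (wOf C).map (MulAut.conj h).toMonoidHom = (wOf A).map (MulAut.conj e).toMonoidHom := by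
    rw [show h = e * n * m by rw [hm]; group, wOf_map, ← CfsgLib.LocalEvenB.map_conj_map_conj, hd,
      ← CfsgLib.LocalEvenB.map_conj_map_conj, hnAeq, ← wOf_map]
  rw [hW] at hnc
  -- reduce to an element of odd order
  obtain ⟨x, hxB, hxo, hxc⟩ := vb.exists_odd
  have he' : e ∈ (zpowers x : Set G) * (pCoreOf 2 B : Set G) := by
    rw [← coe_mul_of_left_le_normalizer_right (zpowers x) (pCoreOf 2 B)
      ((zpowers_le.2 hxB).trans (le_normalizer_pCoreOf_self B)), vb.K_eq_sup hxB hxc]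
    exact he
  obtain ⟨y, hy, q, hq, rfl⟩ := he'
  rw [map_conj_mul_of_mem (va.T_le_normalizer_W (vb.core_le_T hq))] at hnc
  exact crossing_false va vb hne hza hzaB (commute_of_ne_point va vb hza hzb hzab)
    (zpowers_le.2 hxB hy) (odd_orderOf_zpow hxo hy) hnc

namespace VtxPair

variable {K L : Bool → Subgroup G} (P : VtxPair T K L)
include P

/-- A chain gives two vertices with noncommuting conjugate four-groups and a shared point. -/
theorem exists_triple {z : Bool → G} (hz : ∀ i, IsPoint T (K i) (z i)) :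
    ∃ i j h, z i = h * z j * h⁻¹ ∧
      ¬ wOf (K i) ≤ centralizer ((wOf (K j)).map (MulAut.conj h).toMonoidHom : Set G) := by
  classical
  obtain ⟨n₀, a₀, c₀, hp₀, hnc₀⟩ := P.exists_noncommuting
  have hex : ∃ n, ∃ a c, VPath T K n a c ∧ ¬ vW K a ≤ centralizer (vW K c : Set G) := ⟨n₀, a₀, c₀, hp₀, hnc₀⟩
  obtain ⟨a, c, hp, hnc⟩ := Nat.find_spec hex
  have hmin : ∀ n, n < Nat.find hex → ∀ a c, VPath T K n a c → vW K a ≤ centralizer (vW K c : Set G) := by
    intro n hn a c h
    by_contra h'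
    exact Nat.find_min hex hn ⟨a, c, h, h'⟩
  obtain ⟨b, hb⟩ : ∃ b, Nat.find hex = b + 1 := by
    rcases Nat.eq_zero_or_eq_succ_pred (Nat.find hex) with h | h
    · exfalso
      rw [h] at hp
      cases hp
      refine hnc ?_
      rintro _ ⟨u, hu, rfl⟩
      refine mem_centralizer_iff.2 ?_
      rintro _ ⟨w, hw, rfl⟩
      rw [← map_mul, ← map_mul]
      exact congrArg _ (mem_centralizer_iff.1 (W_self_comm (P.v a.1) hu) w hw)
    · exact ⟨_, h⟩
  rw [hb] at hp hmin
  obtain ⟨m, e, -, -, -, hc, -, hae⟩ := P.critical hmin hp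
  obtain ⟨m', e', -, -, -, ha, -, hce⟩ := P.critical hmin hp.symm
  obtain ⟨hpt, -, -⟩ := P.commutator_point hc ha hae hce hnc
    (hz a.1).2.1 (hz a.1).2.2 (hz a.1).1 (hz c.1).2.1 (hz c.1).2.2 (hz c.1).1
  refine ⟨a.1, c.1, e'⁻¹ * e, ?_, fun hle => hnc ?_⟩
  · calc z a.1 = e'⁻¹ * (e' * z a.1 * e'⁻¹) * e' := by group
      _ = _ := by rw [hpt]; group
  · rw [ha, hc]
    rintro _ ⟨u, hu, rfl⟩
    refine mem_centralizer_iff.2 ?_
    rintro _ ⟨w, hw, rfl⟩
    show e * w * e⁻¹ * (e' * u * e'⁻¹) = e' * u * e'⁻¹ * (e * w * e⁻¹)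
    have h : e'⁻¹ * e * w * (e'⁻¹ * e)⁻¹ * u = u * (e'⁻¹ * e * w * (e'⁻¹ * e)⁻¹) :=
      mem_centralizer_iff.1 (hle hu) _ ⟨w, hw, rfl⟩
    calc e * w * e⁻¹ * (e' * u * e'⁻¹) = e' * (e'⁻¹ * e * w * (e'⁻¹ * e)⁻¹ * u) * e'⁻¹ := by group
      _ = e' * (u * (e'⁻¹ * e * w * (e'⁻¹ * e)⁻¹)) * e'⁻¹ := by rw [h]
      _ = _ := by group

/-- Two components do not fix the points of each other. -/
theorem no_two_way {z : Bool → G} (hz : ∀ i, IsPoint T (K i) (z i)) (hfix : ∀ i, z i ∈ jFix T (K (!i)))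
    (hinj : ∀ i D LD, Vtx T D LD → IsPoint T D (z i) → LD = L i) : False := by
  obtain ⟨i, j, h, hh, hnc⟩ := P.exists_triple hz
  refine no_crossing (P.v i) (P.v (!i)) (P.L_ne i) (hz i) (hfix i) ?_ (hinj i) (P.v j) (hz j) hh hnc
  -- a second component would coincide with the first vertex
  intro E hE hEL
  by_contra hne
  have hcentE : E ≤ centralizer (wOf (K (!i)) : Set G) :=
    le_centralizer_wOf (P.v (!i)).set (P.v (!i)).jc (P.v (!i)).le hE hEL hne
  obtain ⟨y, hy⟩ := (Subgroup.bot_or_exists_ne_one (jCenter T ⊓ wOf E)).resolve_left (fun h0 => by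
    have := card_jCenter_inf_wOf (P.v i).T_two hE; rw [h0, card_bot] at this; omega)
  obtain ⟨hy, hy1⟩ := hy
  have hye : IsPoint T E y := ⟨(mem_inf.1 hy).1, (mem_inf.1 hy).2, hy1⟩
  have hyB : y ∈ jFix T (K (!i)) := mem_inf.2 ⟨hye.1, mem_centralizer_iff.2 fun k hk =>
    (mem_centralizer_iff.1 (le_centralizer_wOf (P.v (!i)).set hE hEL (P.v (!i)).jc (P.v (!i)).le
      (Ne.symm hne) hk) y hye.2.1).symm⟩
  have hyz : y = z i := by
    have hc : Nat.card ↥(jFix T (K (!i))) ≤ 2 :=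
      card_jFix_le_two (P.v i).T_two (P.v i).jc (P.v i).uq (P.v (!i)).uq (P.L_ne i)
    have he : zpowers (z i) = jFix T (K (!i)) := eq_of_le_of_card_ge (zpowers_le.2 (hfix i)) (by
      rw [Nat.card_zpowers, orderOf_eq_prime ((jCenter_elementary T).2 _ (hz i).1) (hz i).2.2]
      exact hc)
    have hmem : y ∈ zpowers (z i) := he ▸ hyB
    obtain ⟨k, hk⟩ := mem_zpowers_iff.1 hmem
    have h2 : z i ^ (2 : ℤ) = 1 := by exact_mod_cast (jCenter_elementary T).2 _ (hz i).1
    rcases Int.even_or_odd k with ⟨r, hr⟩ | ⟨r, hr⟩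
    · rw [hr, ← two_mul, zpow_mul, h2, one_zpow] at hk
      exact absurd hk.symm hy1
    · rw [hr, zpow_add, zpow_mul, h2, one_zpow, one_mul, zpow_one] at hk
      exact hk.symm
  subst hyz
  -- `E` centralises the point of the other vertex
  have hEA : E ≤ L i := by
    have hb := hfix (!i)
    rw [Bool.not_not] at hb
    exact fun k hk => centralizer_jFix_le (P.v i).uq hb (hz (!i)).2.2 (mem_centralizer_singleton_iff.2
      (mem_centralizer_iff.1 (hcentE hk) _ (hz (!i)).2.1).symm)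
  have hEeq := component_eq_of_point (P.v i) hE hEA (hz i) hye
  subst hEeq
  exact P.L_ne i ((P.v i).uq.2.2 _ (P.v (!i)).uq.1
    (sup_le hEL ((thompsonSubgroupOf_le T).trans (P.v (!i)).set.syl.1))).symm

end VtxPair

end CfsgLib.LocalEvenB.JOver
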