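import Mathlib.GroupTheory.FiniteAbelian.Duality
import Mathlib.Analysis.Complex.Polynomial.Basic
import Cfsg.Agent.Lib.LocalEvenB.JOver.CompProps

/-!
# Abelian 2-groups with a unique fixed involution on an elementary abelian group
-/

set_option autoImplicit false
set_option linter.all false

namespace CfsgLib.LocalEvenB.JOver

open Subgroup Cfsg
open scoped commutatorElement

variable {G : Type*} [Group G] [Finite G]

/-- An abelian 2-group of operators with a single fixed involution has order at most half of the group. -/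
theorem two_mul_card_le_of_unique_fixed {E U : Subgroup G} (hE2 : IsPGroup 2 E) (hEc : IsMulCommutative E)
    (hU : IsElementaryAbelian 2 U) (hn : E ≤ normalizer (U : Set G)) {z : G} (hz : z ∈ U) (hz1 : z ≠ 1)
    (huniq : ∀ u ∈ U, (∀ e ∈ E, e * u = u * e) → u = 1 ∨ u = z) :
    2 * Nat.card E ≤ Nat.card U * Nat.card ↥(E ⊓ centralizer (U : Set G)) := by
  classical
  haveI := hU.1
  letI : CommGroup ↥U := { (inferInstance : Group ↥U) with
    mul_comm := fun a b => Subtype.ext (CfsgLib.PLocal.comm_of_mem hU.1 a.2 b.2) }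
  haveI : NeZero (Monoid.exponent ↥U) := ⟨Monoid.exponent_ne_zero_of_finite⟩
  obtain ⟨f₀, hf₀⟩ := CommGroup.exists_apply_ne_one_of_hasEnoughRootsOfUnity ↥U ℂ (a := ⟨z, hz⟩)
    (fun h => hz1 (congrArg Subtype.val h))
  have hcardH : Nat.card (↥U →* ℂˣ) = Nat.card U :=
    CommGroup.card_monoidHom_of_hasEnoughRootsOfUnity ↥U ℂ
  haveI : Finite (↥U →* ℂˣ) := Nat.finite_of_card_ne_zero (by rw [hcardH]; exact Nat.card_pos.ne')
  let Φ := {f : ↥U →* ℂˣ // f ⟨z, hz⟩ ≠ 1}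
  have hval : ∀ f : Φ, f.1 ⟨z, hz⟩ = -1 := by
    intro f
    have h1 : (f.1 ⟨z, hz⟩ : ℂ) * (f.1 ⟨z, hz⟩ : ℂ) = 1 := by
      rw [← Units.val_mul, ← map_mul, show (⟨z, hz⟩ : ↥U) * ⟨z, hz⟩ = 1 from
        Subtype.ext (by simpa [pow_two] using hU.2 z hz), map_one, Units.val_one]
    rcases mul_self_eq_one_iff.1 h1 with h2 | h2
    · exact absurd (Units.ext h2) f.2
    · exact Units.ext h2
  have hΦ : 2 * Nat.card Φ ≤ Nat.card U := by
    let g : Φ × Bool → (↥U →* ℂˣ) := fun p => if p.2 then p.1.1 * f₀ else p.1.1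
    have hg : ∀ p, g p ⟨z, hz⟩ = if p.2 then 1 else -1 := by
      rintro ⟨f, b⟩
      cases b
      · exact hval f
      · show f.1 ⟨z, hz⟩ * f₀ ⟨z, hz⟩ = 1
        rw [hval f, hval ⟨f₀, hf₀⟩, neg_mul_neg, one_mul]
    have hne : (1 : ℂˣ) ≠ -1 := fun h => by
      have := congrArg Units.val h
      rw [Units.val_one, Units.val_neg, Units.val_one] at this
      norm_num at this
    have hinj : Function.Injective g := by
      rintro ⟨f, b⟩ ⟨f', b'⟩ h
      have hb := congrArg (fun φ : ↥U →* ℂˣ => φ ⟨z, hz⟩) h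
      simp only [hg] at hb
      cases b <;> cases b' <;> simp [g, hne, hne.symm] at h hb ⊢ <;> exact Subtype.ext h
    have := Nat.card_le_card_of_injective g hinj
    rw [Nat.card_prod, Nat.card_eq_fintype_card (α := Bool), Fintype.card_bool, hcardH] at this
    omega
  set B : Subgroup ↥E := (centralizer (U : Set G)).subgroupOf E with hBdef
  have hBc : Nat.card B = Nat.card ↥(E ⊓ centralizer (U : Set G)) := by
    rw [hBdef, ← inf_subgroupOf_left, Nat.card_congr (subgroupOfEquivOfLe inf_le_left).toEquiv]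
  let tw : ↥E → Φ := fun e =>
    ⟨{ toFun := fun u => f₀ ⟨(e : G) * u * (e : G)⁻¹, (mem_normalizer_iff.1 (hn e.2) u).1 u.2⟩
       map_one' := by
        rw [show (⟨(e : G) * ((1 : ↥U) : G) * (e : G)⁻¹, _⟩ : ↥U) = 1 from Subtype.ext (by simp), map_one]
       map_mul' := fun u v => by
        rw [← map_mul]
        exact congrArg f₀ (Subtype.ext (by
          show (e : G) * ((u : G) * v) * (e : G)⁻¹ = (e : G) * u * (e : G)⁻¹ * ((e : G) * v * (e : G)⁻¹)
          group)) }, by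
      intro h
      apply hf₀
      rw [← h]
      show f₀ _ = f₀ _
      refine congrArg f₀ (Subtype.ext ?_)
      show z = (e : G) * z * (e : G)⁻¹
      have hP := exists_fixed_of_two (P := E) (W := U) hE2
        (fun u => ⟨1, Subtype.ext (by simpa using hU.2 u u.2)⟩) (fun h => hz1 (mem_bot.1 (h ▸ hz))) hn
      obtain ⟨u, hu, hu1, huE⟩ := hP
      rcases huniq u hu huE with rfl | rfl
      · exact absurd rfl hu1
      · rw [huE e e.2, mul_inv_cancel_right]⟩
  have key : ∀ e₁ e₂ : ↥E, tw e₁ = tw e₂ → e₁ * e₂⁻¹ ∈ B := by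
    intro e₁ e₂ h12
    set e : ↥E := e₁ * e₂⁻¹ with he
    rw [hBdef, mem_subgroupOf]
    by_contra hne
    let D : Subgroup G :=
      { carrier := {d | ∃ v ∈ U, d = (e : G) * v * (e : G)⁻¹ * v⁻¹}
        one_mem' := ⟨1, one_mem _, by simp⟩
        mul_mem' := by
          rintro _ _ ⟨v, hv, rfl⟩ ⟨v', hv', rfl⟩
          refine ⟨v * v', mul_mem hv hv', ?_⟩
          have hc := CfsgLib.PLocal.comm_of_mem hU.1 (inv_mem hv)
            (mul_mem ((mem_normalizer_iff.1 (hn e.2) v').1 hv') (inv_mem hv'))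
          calc (e : G) * v * (e : G)⁻¹ * v⁻¹ * ((e : G) * v' * (e : G)⁻¹ * v'⁻¹)
              = (e : G) * v * (e : G)⁻¹ * ((e : G) * v' * (e : G)⁻¹ * v'⁻¹ * v⁻¹) := by
                rw [mul_assoc _ v⁻¹, hc]
            _ = (e : G) * (v * v') * (e : G)⁻¹ * (v'⁻¹ * v⁻¹) := by group
            _ = (e : G) * (v * v') * (e : G)⁻¹ * (v * v')⁻¹ := by rw [mul_inv_rev]
        inv_mem' := by
          rintro _ ⟨v, hv, rfl⟩
          refine ⟨v⁻¹, inv_mem hv, ?_⟩
          have hc := CfsgLib.PLocal.comm_of_mem hU.1 hv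
            (inv_mem ((mem_normalizer_iff.1 (hn e.2) v).1 hv))
          calc ((e : G) * v * (e : G)⁻¹ * v⁻¹)⁻¹ = v * ((e : G) * v * (e : G)⁻¹)⁻¹ := by group
            _ = ((e : G) * v * (e : G)⁻¹)⁻¹ * v := hc
            _ = (e : G) * v⁻¹ * (e : G)⁻¹ * v⁻¹⁻¹ := by group }
    have hDU : D ≤ U := by
      rintro _ ⟨v, hv, rfl⟩
      exact mul_mem ((mem_normalizer_iff.1 (hn e.2) v).1 hv) (inv_mem hv)
    have hDn : E ≤ normalizer (D : Set G) := by
      intro x hx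
      refine CfsgLib.LocalEvenB.mem_normalizer_of_forall ?_
      rintro _ ⟨v, hv, rfl⟩
      refine ⟨x * v * x⁻¹, (mem_normalizer_iff.1 (hn hx) v).1 hv, ?_⟩
      have hc : x * (e : G) = (e : G) * x := CfsgLib.PLocal.comm_of_mem hEc hx e.2
      calc x * ((e : G) * v * (e : G)⁻¹ * v⁻¹) * x⁻¹
          = (x * (e : G)) * v * (x * (e : G))⁻¹ * (x * v * x⁻¹)⁻¹ := by group
        _ = ((e : G) * x) * v * ((e : G) * x)⁻¹ * (x * v * x⁻¹)⁻¹ := by rw [hc]
        _ = (e : G) * (x * v * x⁻¹) * (e : G)⁻¹ * (x * v * x⁻¹)⁻¹ := by group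
    have hD1 : D ≠ ⊥ := by
      intro hD
      refine hne (mem_centralizer_iff.2 fun v hv => (mul_inv_eq_iff_eq_mul.1 ?_).symm)
      have : (e : G) * v * (e : G)⁻¹ * v⁻¹ ∈ D := ⟨v, hv, rfl⟩
      rw [hD, mem_bot] at this
      exact mul_inv_eq_one.1 this
    have hD2 : IsPGroup 2 D := fun u => ⟨1, Subtype.ext (by simpa using hU.2 u (hDU u.2))⟩
    obtain ⟨u, ⟨v, hv, huv⟩, hu1, huE⟩ := exists_fixed_of_two hE2 hD2 hD1 hDn
    have hzu : u = z := ((huniq u (hDU ⟨v, hv, huv⟩) huE).resolve_left hu1)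
    apply hf₀
    have hv₂ : ((e₂ : G))⁻¹ * v * e₂ ∈ U := (mem_normalizer_iff''.1 (hn e₂.2) v).1 hv
    have h3 := congrArg (fun φ : Φ => φ.1 ⟨_, hv₂⟩) h12
    have hev : (e : G) * v * (e : G)⁻¹ ∈ U := (mem_normalizer_iff.1 (hn e.2) v).1 hv
    have h4 : f₀ ⟨_, hev⟩ = f₀ ⟨v, hv⟩ := by
      refine Eq.trans ?_ (h3.trans ?_)
      · show f₀ _ = f₀ _
        refine congrArg f₀ (Subtype.ext ?_)
        show (e : G) * v * (e : G)⁻¹ = (e₁ : G) * ((e₂ : G)⁻¹ * v * e₂) * (e₁ : G)⁻¹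
        rw [he]; simp [mul_assoc]
      · show f₀ _ = f₀ _
        exact congrArg f₀ (Subtype.ext (by simp [mul_assoc]))
    rw [show (⟨z, hz⟩ : ↥U) = ⟨_, hev⟩ * ⟨v, hv⟩⁻¹ from Subtype.ext (hzu ▸ huv), map_mul, map_inv, h4,
      mul_inv_cancel]
  have hE : Nat.card E ≤ Nat.card Φ * Nat.card B := by
    rw [Subgroup.card_eq_card_quotient_mul_card_subgroup B]
    refine Nat.mul_le_mul_right _ (Nat.card_le_card_of_injective (fun q => tw q.out) fun q₁ q₂ h => ?_)
    have h5 := key _ _ h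
    rw [← q₁.out_eq', ← q₂.out_eq', QuotientGroup.eq]
    have e1 : q₁.out⁻¹ * q₂.out = (q₁.out * q₂.out⁻¹)⁻¹ := by
      haveI := hEc
      rw [mul_inv_rev, inv_inv]
      exact Subtype.ext (CfsgLib.PLocal.comm_of_mem hEc (inv_mem (q₁.out).2) (q₂.out).2)
    rw [e1]
    exact inv_mem h5
  calc 2 * Nat.card E ≤ 2 * Nat.card Φ * Nat.card B := by rw [mul_assoc]; exact Nat.mul_le_mul_left 2 hE
    _ ≤ Nat.card U * Nat.card B := Nat.mul_le_mul_right _ hΦ
    _ = _ := by rw [hBc]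

end CfsgLib.LocalEvenB.JOver
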