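import Cfsg.Agent.Lib.LocalEvenB.JOver.Applications
import Cfsg.Agent.Lib.LocalEvenB.JOver.UniqueFixed

/-!
# Existence of components
-/

set_option autoImplicit false
set_option linter.all false

namespace CfsgLib.LocalEvenB.JOver

open Subgroup Cfsg
open scoped commutatorElement

theorem perm3_odd_sq : ∀ σ : Equiv.Perm (Fin 3), Equiv.Perm.sign σ = -1 → σ * σ = 1 := by decide

theorem perm3_exists_even : ∃ σ : Equiv.Perm (Fin 3), Equiv.Perm.sign σ = 1 ∧ σ ≠ 1 :=
  ⟨Equiv.swap 0 1 * Equiv.swap 1 2, by decide, by decide⟩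

theorem perm3_commutator : ∀ σ τ : Equiv.Perm (Fin 3), Equiv.Perm.sign σ = 1 → Equiv.Perm.sign τ = -1 →
    σ * τ * σ⁻¹ * τ⁻¹ = σ * σ := by decide

theorem perm3_sq_ne : ∀ σ : Equiv.Perm (Fin 3), Equiv.Perm.sign σ = 1 → σ ≠ 1 → σ * σ ≠ 1 := by decide

variable {G : Type*} [Group G]

theorem pow_two_pow_perm {σ : Equiv.Perm (Fin 3)} (hs : Equiv.Perm.sign σ = 1) {m : ℕ} (h : σ ^ 2 ^ m = 1) :
    σ = 1 :=
  orderOf_eq_one_iff.1 (Nat.eq_one_of_dvd_coprimes ((by norm_num : Nat.Coprime 2 3).pow_left m)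
    (orderOf_dvd_of_pow_eq_one h) (orderOf_dvd_of_pow_eq_one (perm3_even_pow _ hs)))

theorem phi_two_elem {L J Q : Subgroup G} (F : Frame L J Q) (y : ↥F.Y) {m : ℕ} (hy : (y : G) ^ 2 ^ m = 1)
    (k : Fin F.n) (hk : Equiv.Perm.sign (F.φ y k) = 1) : F.φ y k = 1 :=
  pow_two_pow_perm hk (by rw [← Pi.pow_apply, ← map_pow, show y ^ 2 ^ m = 1 from Subtype.ext hy, map_one]; rfl)

variable [Finite G]

/-- Condition on Sylow subgroups in the definition of a component. -/
theorem thompson_condition {T L K : Subgroup G} (hs : IsSylowTwoIn T L) (hKL : K ≤ L) {S : Subgroup G}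
    (hS : IsSylowTwoIn S (K ⊔ thompsonSubgroupOf 2 T)) (hJS : thompsonSubgroupOf 2 T ≤ S) :
    thompsonSubgroupOf 2 S = thompsonSubgroupOf 2 T := by
  have hSL : S ≤ L := hS.1.trans (sup_le hKL ((thompsonSubgroupOf_le T).trans hs.1))
  obtain ⟨T', hT', hST'⟩ := exists_sylowTwoIn_ge hS.2.1 hSL
  obtain ⟨n, hn, hnT⟩ := sylowTwoIn_conj hs hT'
  have hr1 := rank_le_of_thompson_le hJS
  have hr2 := maxElemAbelianOrder_mono hST'
  have hr3 : maxElemAbelianOrder T' = maxElemAbelianOrder T := by rw [← hnT, maxElemAbelianOrder_map_conj]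
  have h1 : thompsonSubgroupOf 2 S ≤ thompsonSubgroupOf 2 T' := thompson_mono hST' (by omega)
  have h2 : thompsonSubgroupOf 2 T ≤ thompsonSubgroupOf 2 S := by
    refine thompsonSubgroupOf_le_iff.2 fun A hA => le_thompsonSubgroupOf
      ⟨(le_thompsonSubgroupOf hA).trans hJS, hA.elem, fun C hC hCe => ?_⟩
    obtain ⟨B, hB⟩ := exists_isBig S
    have hm := hB.max C hC hCe
    have := maxElemAbelianOrder_eq hA
    have := maxElemAbelianOrder_eq hB
    omega
  have h3 : thompsonSubgroupOf 2 T = thompsonSubgroupOf 2 T' := by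
    refine eq_of_le_of_card_ge (h2.trans h1) ?_
    rw [← hnT, thompson_map_conj, card_map_of_injective (MulAut.conj n).injective]
  exact le_antisymm (h1.trans h3.ge) h2

variable {L J Q : Subgroup G} (F : Frame L J Q)

/-- An element of order three above a single coordinate. -/
theorem exists_three (i : Fin F.n) : ∃ x : ↥F.Y, orderOf (x : G) = 3 ∧ F.φ x i ≠ 1 ∧
    (∀ k, k ≠ i → F.φ x k = 1) ∧
    ∃ j : ↥F.Y, (j : G) ∈ J ∧ Equiv.Perm.sign (F.φ j i) = -1 ∧ (∀ k, k ≠ i → F.φ j k = 1) ∧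
      (j : G) * x * (j : G)⁻¹ * x ∈ Q := by
  classical
  haveI : (Q.subgroupOf F.Y).Normal := ⟨fun q hq y => F.Q_normal _ (F.Y_le y.2) _ hq⟩
  let π := QuotientGroup.mk' (Q.subgroupOf F.Y)
  have hπ : ∀ z : ↥F.Y, π z = 1 ↔ (z : G) ∈ Q := fun z => (QuotientGroup.eq_one_iff z).trans mem_subgroupOf
  have hcen : ∀ z : ↥F.Y, F.φ z = 1 → ∀ w : ↥F.Y, π z * π w = π w * π z := by
    intro z hz w
    refine commutatorElement_eq_one_iff_mul_comm.1 ?_
    rw [← map_commutatorElement, hπ]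
    exact F.ker_comm z w hz
  obtain ⟨j, hj, hji, hjk⟩ := F.flip i
  obtain ⟨m, hm⟩ := F.J_two ⟨(j : G), hj⟩
  have hm' : (j : G) ^ 2 ^ m = 1 := congrArg Subtype.val hm
  have hjk' : ∀ k, k ≠ i → F.φ j k = 1 := fun k hk => phi_two_elem F j hm' k (hjk k hk)
  have hj2 : π j * π j = 1 := by
    rw [← map_mul, hπ]
    refine F.ker_two (j * j) (funext fun k => ?_) m ?_
    · rw [map_mul, Pi.mul_apply, Pi.one_apply]
      by_cases hk : k = i
      · subst hk; exact perm3_odd_sq _ hji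
      · rw [hjk' k hk, one_mul]
    · rw [Subgroup.coe_mul, ← pow_two, ← pow_mul, mul_comm, pow_mul, hm', one_pow]
      exact one_mem _
  obtain ⟨σ, hσs, hσ1⟩ := perm3_exists_even
  obtain ⟨y, hy⟩ := F.surj (Pi.mulSingle i σ)
  set x₀ : ↥F.Y := y * j * y⁻¹ * j⁻¹ with hx₀
  have hxi : F.φ x₀ i = σ * σ := by
    rw [hx₀, map_mul, map_mul, map_mul, map_inv, map_inv, Pi.mul_apply, Pi.mul_apply, Pi.mul_apply,
      Pi.inv_apply, Pi.inv_apply, hy, Pi.mulSingle_eq_same]
    exact perm3_commutator _ _ hσs hji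
  have hxk : ∀ k, k ≠ i → F.φ x₀ k = 1 := by
    intro k hk
    rw [hx₀, map_mul, map_mul, map_mul, map_inv, map_inv, Pi.mul_apply, Pi.mul_apply, Pi.mul_apply,
      Pi.inv_apply, Pi.inv_apply, hy, Pi.mulSingle_eq_of_ne hk, hjk' k hk]
    simp
  have hinv : π j * π x₀ * (π j)⁻¹ = (π x₀)⁻¹ := by
    have hji' : (π j)⁻¹ = π j := inv_eq_of_mul_eq_one_left hj2
    rw [hx₀, map_mul, map_mul, map_mul, map_inv, map_inv]
    simp only [mul_inv_rev, inv_inv, hji']
    simp only [mul_assoc, hj2, mul_one]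
  have h3 : F.φ (x₀ ^ 3) = 1 := funext fun k => by
    rw [map_pow, Pi.pow_apply, Pi.one_apply]
    refine perm3_even_pow _ ?_
    by_cases hk : k = i
    · subst hk; rw [hxi, map_mul, hσs, mul_one]
    · rw [hxk k hk, map_one]
  have hQ3 : (x₀ : G) ^ 3 ∈ Q := by
    refine F.ker_two (x₀ ^ 3) h3 1 ?_
    have h1 : π j * π (x₀ ^ 3) * (π j)⁻¹ = π (x₀ ^ 3) := by rw [← hcen _ h3, mul_inv_cancel_right]
    rw [map_pow, ← conj_pow, hinv, inv_pow] at h1
    rw [pow_one, pow_two]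
    exact (hπ (x₀ ^ 3 * x₀ ^ 3)).1 (by rw [map_mul, map_pow]; exact inv_eq_iff_mul_eq_one.1 h1)
  obtain ⟨a, ha⟩ := F.Q_two ⟨_, hQ3⟩
  have ha' : ((x₀ : G) ^ 3) ^ 2 ^ a = 1 := congrArg Subtype.val ha
  have hne : F.φ (x₀ ^ 2 ^ a) i ≠ 1 := by
    intro h
    rw [map_pow, Pi.pow_apply, hxi] at h
    exact perm3_sq_ne σ hσs hσ1 (pow_two_pow_perm (by rw [map_mul, hσs, mul_one]) h)
  refine ⟨x₀ ^ 2 ^ a, ?_, hne, fun k hk => by rw [map_pow, Pi.pow_apply, hxk k hk, one_pow],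
    j, hj, hji, hjk', ?_⟩
  · rw [Subgroup.coe_pow]
    rcases (Nat.dvd_prime Nat.prime_three).1 (orderOf_dvd_of_pow_eq_one (x := (x₀ : G) ^ 2 ^ a) (n := 3)
      (by rw [← pow_mul, mul_comm, pow_mul, ha'])) with h | h
    · refine absurd ?_ hne
      rw [show x₀ ^ 2 ^ a = 1 from Subtype.ext (by rw [Subgroup.coe_pow, orderOf_eq_one_iff.1 h]; rfl), map_one]
      rfl
    · exact h
  · refine (hπ (j * x₀ ^ 2 ^ a * j⁻¹ * x₀ ^ 2 ^ a)).1 ?_
    rw [map_mul, map_mul, map_mul, map_inv, map_pow, ← conj_pow, hinv, inv_pow, inv_mul_cancel]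

/-- A factor at every coordinate. -/
theorem exists_factor (i : Fin F.n) : ∃ K, Comp F K ∧ AtIndex F K i ∧ ⁅K, J⁆ = K ∧
    pCoreOf 2 K = K ⊓ Q ∧ ∃ x : ↥F.Y, orderOf (x : G) = 3 ∧ (x : G) ∈ K ∧ F.φ x i ≠ 1 ∧
      zpowers (x : G) ⊔ (K ⊓ Q) = K := by
  classical
  obtain ⟨x, hx3, hxi, hxk, j, hj, hji, hjk, hjx⟩ := exists_three F i
  haveI : (Q.subgroupOf F.Y).Normal := ⟨fun q hq y => F.Q_normal _ (F.Y_le y.2) _ hq⟩
  let π := QuotientGroup.mk' (Q.subgroupOf F.Y)
  have hπ : ∀ z : ↥F.Y, π z = 1 ↔ (z : G) ∈ Q := fun z => (QuotientGroup.eq_one_iff z).trans mem_subgroupOf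
  have hcen : ∀ z : ↥F.Y, F.φ z = 1 → ∀ w : ↥F.Y, π z * π w = π w * π z := by
    intro z hz w
    refine commutatorElement_eq_one_iff_mul_comm.1 ?_
    rw [← map_commutatorElement, hπ]
    exact F.ker_comm z w hz
  set H := zpowers (x : G) ⊔ Q with hH
  have hxH : (x : G) ∈ H := mem_sup_left (mem_zpowers _)
  have hHY : H ≤ F.Y := sup_le (zpowers_le.2 x.2) F.Q_le
  set K := closure {g : G | g ∈ H ∧ Odd (orderOf g)} with hKdef
  have hKH : K ≤ H := by rw [hKdef, closure_le]; exact fun g hg => hg.1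
  have hxodd : Odd (orderOf (x : G)) := by rw [hx3]; decide
  have hxK : (x : G) ∈ K := subset_closure ⟨hxH, hxodd⟩
  have hgen : closure {g : G | g ∈ K ∧ Odd (orderOf g)} = K :=
    le_antisymm (by rw [closure_le]; exact fun g hg => hg.1)
      (by rw [hKdef, closure_le]; exact fun g hg => subset_closure ⟨subset_closure hg, hg.2⟩)
  have hnorm : ∀ g : G, g ∈ F.Y → g * x * g⁻¹ ∈ H → g ∈ normalizer (K : Set G) := by
    intro g hgY hgx
    have hgH : H ≤ H.comap (MulAut.conj g).toMonoidHom :=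
      sup_le (zpowers_le.2 hgx) fun q hq => mem_sup_right (F.Q_normal g (F.Y_le hgY) q hq)
    refine mem_normalizer_of_odd hgen fun y hy hyo => subset_closure ⟨hgH (hKH hy), ?_⟩
    rw [show g * y * g⁻¹ = MulAut.conj g y from rfl, MulEquiv.orderOf_eq]
    exact hyo
  have hQN : Q ≤ normalizer (K : Set G) := fun q hq => hnorm q (F.Q_le hq)
    (mul_mem (mul_mem (mem_sup_right hq) hxH) (mem_sup_right (inv_mem hq)))
  have hbinv : π j * π x * (π j)⁻¹ = (π x)⁻¹ := by
    refine eq_inv_of_mul_eq_one_left ?_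
    rw [← map_inv π, ← map_mul π, ← map_mul π, ← map_mul π, hπ]
    exact hjx
  have hxs : Equiv.Perm.sign (F.φ x i) = 1 := F.sign_odd x hxodd i
  have hJN : J ≤ normalizer (K : Set G) := by
    intro j' hj'
    set j'' : ↥F.Y := ⟨j', F.J_le hj'⟩ with hj''
    obtain ⟨m, hm⟩ := F.J_two ⟨j', hj'⟩
    have hm' : j' ^ 2 ^ m = 1 := congrArg Subtype.val hm
    -- `π j'` commutes with `π j`
    have hjj : π j'' * π j = π j * π j'' := by
      refine commutatorElement_eq_one_iff_mul_comm.1 ?_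
      rw [← map_commutatorElement, hπ]
      have hmem : ((⁅j'', j⁆ : ↥F.Y) : G) ∈ J := by
        show j' * (j : G) * j'⁻¹ * (j : G)⁻¹ ∈ J
        exact mul_mem (mul_mem (mul_mem hj' hj) (inv_mem hj')) (inv_mem hj)
      obtain ⟨m', hm''⟩ := F.J_two ⟨_, hmem⟩
      refine F.ker_two _ (funext fun k => ?_) m' (by
        rw [show ((⁅j'', j⁆ : ↥F.Y) : G) ^ 2 ^ m' = 1 from congrArg Subtype.val hm'']; exact one_mem _)
      refine phi_two_elem F _ (congrArg Subtype.val hm'') k ?_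
      show Equiv.Perm.sign ((Pi.evalMonoidHom _ k) (F.φ ⁅j'', j⁆)) = 1
      rw [map_commutatorElement, map_commutatorElement, map_commutatorElement]
      exact commutatorElement_eq_one_iff_mul_comm.2 (mul_comm _ _)
    refine hnorm j' (F.J_le hj') ?_
    set y : ↥F.Y := j'' * x * j''⁻¹ with hy
    have hyinv : π j * π y * (π j)⁻¹ = (π y)⁻¹ := by
      rw [hy, map_mul, map_mul, map_inv,
        show π j * (π j'' * π x * (π j'')⁻¹) * (π j)⁻¹ = (π j * π j'') * π x * (π j * π j'')⁻¹ by group,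
        ← hjj, show π j'' * π j * π x * (π j'' * π j)⁻¹ = π j'' * (π j * π x * (π j)⁻¹) * (π j'')⁻¹ by group,
        hbinv]
      group
    obtain ⟨e, he, heY⟩ : ∃ e : ↥F.Y, (e = x ∨ e = x⁻¹) ∧ F.φ e = F.φ y := by
      have hyk : ∀ k, k ≠ i → F.φ y k = 1 := fun k hk => by
        rw [hy, map_mul, map_mul, map_inv, Pi.mul_apply, Pi.mul_apply, Pi.inv_apply, hxk k hk]; simp
      rcases Int.units_eq_one_or (Equiv.Perm.sign (F.φ j'' i)) with hs | hs
      · refine ⟨x, Or.inl rfl, funext fun k => ?_⟩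
        by_cases hk : k = i
        · subst hk
          rw [hy, map_mul, map_mul, map_inv, Pi.mul_apply, Pi.mul_apply, Pi.inv_apply, perm3_even_comm _ _ hs hxs]
        · rw [hxk k hk, hyk k hk]
      · refine ⟨x⁻¹, Or.inr rfl, funext fun k => ?_⟩
        by_cases hk : k = i
        · subst hk
          rw [hy, map_mul, map_mul, map_inv, map_inv, Pi.mul_apply, Pi.mul_apply, Pi.inv_apply, Pi.inv_apply,
            perm3_odd_inv _ _ hs hxs]
        · rw [map_inv, Pi.inv_apply, hxk k hk, hyk k hk, inv_one]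
    have heinv : π j * π e * (π j)⁻¹ = (π e)⁻¹ := by
      rcases he with rfl | rfl
      · exact hbinv
      · rw [map_inv, ← conj_inv, hbinv]
    have hc1 : F.φ (e⁻¹ * y) = 1 := by rw [map_mul, map_inv, heY, inv_mul_cancel]
    set c := π (e⁻¹ * y) with hc
    have hcc : ∀ w, c * π w = π w * c := hcen _ hc1
    have h1 : π j * c * (π j)⁻¹ = c := by rw [← hcc, mul_inv_cancel_right]
    have h2 : π j * c * (π j)⁻¹ = c⁻¹ := by
      have e1 : c = (π e)⁻¹ * π y := by rw [hc, map_mul, map_inv]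
      calc π j * c * (π j)⁻¹ = (π j * π e * (π j)⁻¹)⁻¹ * (π j * π y * (π j)⁻¹) := by rw [e1]; group
        _ = π e * (π y)⁻¹ := by rw [heinv, hyinv, inv_inv]
        _ = π e * c⁻¹ * (π e)⁻¹ := by rw [e1]; group
        _ = c⁻¹ := by
            rw [show π e * c⁻¹ = c⁻¹ * π e from ((show Commute c (π e) from hcc e).inv_left).eq.symm,
              mul_inv_cancel_right]
    have h3 : c * c = 1 := mul_eq_one_iff_eq_inv.2 (h1.symm.trans h2)
    have hcQ : ((e⁻¹ * y : ↥F.Y) : G) ∈ Q := F.ker_two _ hc1 1 (by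
      rw [pow_one, pow_two]; exact (hπ (e⁻¹ * y * (e⁻¹ * y))).1 (by rw [map_mul]; exact h3))
    rw [show j' * (x : G) * j'⁻¹ = (e : G) * ((e⁻¹ * y : ↥F.Y) : G) by simp [hy, hj'', mul_assoc]]
    refine mul_mem ?_ (mem_sup_right hcQ)
    rcases he with rfl | rfl
    · exact hxH
    · exact inv_mem hxH
  -- the index
  set R := K ⊓ Q with hR
  have hKeq : zpowers (x : G) ⊔ R = K := by
    refine le_antisymm (sup_le (zpowers_le.2 hxK) inf_le_left) fun k hk => ?_
    have hH' : H ≤ normalizer (Q : Set G) := fun g hg =>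
      CfsgLib.LocalEvenB.mem_normalizer_of_forall fun q hq => F.Q_normal g (F.Y_le (hHY hg)) q hq
    haveI : (Q.subgroupOf H).Normal := (normal_subgroupOf_iff_le_normalizer le_sup_right).2 hH'
    obtain ⟨a, ha, q, hq, hkq⟩ :=
      mem_sup_of_normal_right.1 (show (⟨k, hKH hk⟩ : ↥H) ∈ (zpowers (x : G)).subgroupOf H ⊔ Q.subgroupOf H by
        rw [← subgroupOf_sup le_sup_left le_sup_right, subgroupOf_self]; exact mem_top _)
    have hak : (a : G) ∈ K := zpowers_le.2 hxK ha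
    have e : k = (a : G) * (q : G) := congrArg Subtype.val hkq.symm
    refine e ▸ mul_mem (mem_sup_left ha) (mem_sup_right ⟨?_, hq⟩)
    have := mul_mem (inv_mem hak) hk
    rwa [e, inv_mul_cancel_left] at this
  have hR2 : IsPGroup 2 R := F.Q_two.to_le inf_le_right
  have hRn : K ≤ normalizer (R : Set G) := fun g hg => CfsgLib.LocalEvenB.mem_normalizer_of_forall fun r hr =>
    mem_inf.2 ⟨mul_mem (mul_mem hg (mem_inf.1 hr).1) (inv_mem hg), F.Q_normal g (F.Y_le (hHY (hKH hg))) r (mem_inf.1 hr).2⟩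
  have hcard : Nat.card K = 3 * Nat.card R := by
    have h := CfsgLib.Core.card_sup_mul_card_inf (zpowers (x : G)) R ((zpowers_le.2 hxK).trans hRn)
    have hbot : zpowers (x : G) ⊓ R = ⊥ := by
      obtain ⟨k, hk⟩ := IsPGroup.iff_card.1 hR2
      refine inf_eq_bot_of_coprime ?_
      rw [Nat.card_zpowers, hx3, hk]
      exact Nat.Coprime.pow_right _ (by norm_num)
    rw [hbot, card_bot, mul_one, hKeq, Nat.card_zpowers, hx3] at h
    exact h
  have hcore : pCoreOf 2 K = R := by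
    have hle : R ≤ pCoreOf 2 K := by
      intro r hr
      haveI : (R.comap K.subtype).Normal := (normal_subgroupOf_iff_le_normalizer inf_le_left).2 hRn
      exact ⟨⟨r, (mem_inf.1 hr).1⟩, CfsgLib.Core.le_pCore (p := 2) (hR2.comap_subtype (K := K)) (mem_comap.2 hr), rfl⟩
    obtain ⟨a, ha⟩ := IsPGroup.iff_card.1 (pCoreOf_two K)
    refine (eq_of_le_of_card_ge hle (Nat.le_of_dvd Nat.card_pos ?_)).symm
    have hd := card_dvd_of_le (show pCoreOf 2 K ≤ K from map_subtype_le _)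
    rw [hcard, ha] at hd
    rw [ha]
    exact (Nat.Coprime.pow_left a (by norm_num : Nat.Coprime 2 3)).dvd_of_dvd_mul_left hd
  have hidx : (pCoreOf 2 K).relIndex K = 3 := by
    have h1 := relIndex_mul_relIndex (⊥ : Subgroup G) R K bot_le inf_le_left
    rw [relIndex_bot_left, relIndex_bot_left, hcard, mul_comm 3] at h1
    rw [hcore]
    exact Nat.eq_of_mul_eq_mul_left Nat.card_pos h1
  have hx1 : F.φ x ≠ 1 := fun h => hxi (by rw [h]; rfl)
  have hC : Comp F K := ⟨hKH.trans hHY, hgen, hidx, hJN, hQN, x, hxK, hx1⟩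
  have hat : AtIndex F K i := by
    refine ⟨fun y hy k hk => ?_, x, hxK, hxi⟩
    rcases hC.exp_cases hxK hx1 hy with h | h | h <;> rw [h]
    · rfl
    · exact hxk k hk
    · rw [Pi.mul_apply, hxk k hk, one_mul]
  -- `[K,J] = K`
  have hcomm : ⁅K, J⁆ = K := by
    have hle : ⁅K, J⁆ ≤ K := commutator_le.2 fun k hk j' hj' => by
      rw [commutatorElement_def, mul_assoc, mul_assoc, ← mul_assoc j']
      exact mul_mem hk ((mem_normalizer_iff.1 (hJN hj') _).1 (inv_mem hk))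
    refine le_antisymm hle ?_
    set N := ⁅K, J⁆ with hN
    have hKN : K ≤ normalizer (N : Set G) :=
      le_sup_left.trans (CfsgLib.Core.le_normalizer_commutator_self J K)
    have hRN : R ≤ normalizer (N : Set G) := inf_le_left.trans hKN
    have hxN : (x : G) ∈ N ⊔ R := by
      have h1 : (x : G) * j * (x : G)⁻¹ * (j : G)⁻¹ ∈ N := by
        rw [← commutatorElement_def]; exact commutator_mem_commutator hxK hj
      have h2 : (j : G) * x * (j : G)⁻¹ * x ∈ R :=
        mem_inf.2 ⟨mul_mem ((mem_normalizer_iff.1 (hJN hj) _).1 hxK) hxK, hjx⟩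
      have h4 : (x : G) * (x : G) ∈ N ⊔ R := by
        have := mul_mem (mem_sup_left (T := R) h1) (mem_sup_right (S := N) h2)
        convert this using 1
        group
      have h5 : (x : G) ^ 3 = 1 := by rw [← hx3]; exact pow_orderOf_eq_one _
      have h6 := mul_mem h4 h4
      rwa [show (x : G) * x * ((x : G) * x) = x ^ 3 * x by simp [pow_succ, mul_assoc], h5, one_mul] at h6
    have hK' : K ≤ N ⊔ R := by
      rw [← hKeq]
      exact sup_le (zpowers_le.2 hxN) le_sup_right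
    conv_lhs => rw [← hgen]
    rw [closure_le]
    exact fun g hg => mem_of_odd_mem_sup hR2 hRN (hK' hg.1) hg.2
  exact ⟨K, hC, hat, hcomm, hcore, x, hx3, hxK, hxi, hKeq⟩

end CfsgLib.LocalEvenB.JOver
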