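import Cfsg.Agent.Lib.LocalEvenB.JOver.Exists

/-!
# The four-group of a component
-/

set_option autoImplicit false
set_option linter.all false

namespace CfsgLib.LocalEvenB.JOver

open Subgroup Cfsg
open scoped commutatorElement Pointwise

variable {G : Type*} [Group G] [Finite G]

theorem omegaCenterOf_le_self (Q : Subgroup G) : omegaCenterOf Q ≤ Q :=
  (CfsgLib.PGroups.omegaOne_le _).trans inf_le_left

theorem centralizes_omegaCenterOf {Q : Subgroup G} {v r : G} (hv : v ∈ omegaCenterOf Q) (hr : r ∈ Q) :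
    r * v = v * r :=
  mem_centralizer_iff.1 ((CfsgLib.PGroups.omegaOne_le _).trans inf_le_right hv) r hr

theorem mem_omegaCenterOf {Q : Subgroup G} {v : G} (hv : v ∈ Q) (hc : ∀ r ∈ Q, r * v = v * r) (h2 : v ^ 2 = 1) :
    v ∈ omegaCenterOf Q :=
  subset_closure ⟨⟨hv, mem_centralizer_iff.2 hc⟩, h2⟩

theorem mem_normalizer_omegaCenterOf {Q : Subgroup G} {g : G} (hg : g ∈ normalizer (Q : Set G)) :
    g ∈ normalizer (omegaCenterOf Q : Set G) := by
  rw [← CfsgLib.LocalEvenB.map_conj_eq_self_iff_mem_normalizer] at hg ⊢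
  rw [omegaCenterOf_map, hg]

theorem three_le_card {H : Subgroup G} {b c : G} (hb : b ∈ H) (hc : c ∈ H) (h1 : b ≠ 1) (h2 : c ≠ 1) (h3 : b ≠ c) :
    3 ≤ Nat.card H := by
  have hinj : Function.Injective ![(1 : H), ⟨b, hb⟩, ⟨c, hc⟩] := by
    intro i j hij
    fin_cases i <;> fin_cases j <;> simp_all [Subtype.ext_iff, eq_comm]
  simpa using Nat.card_le_card_of_injective _ hinj

theorem two_le_card {H : Subgroup G} {b : G} (hb : b ∈ H) (h1 : b ≠ 1) : 2 ≤ Nat.card H := by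
  have hinj : Function.Injective ![(1 : H), ⟨b, hb⟩] := by
    intro i j hij
    fin_cases i <;> fin_cases j <;> simp_all [Subtype.ext_iff, eq_comm]
  simpa using Nat.card_le_card_of_injective _ hinj

/-- The count behind the four-group. -/
theorem card_W_eq_four {T A R V U : Subgroup G} {x a : G}
    (hA : IsBig T A) (hx : orderOf x = 3)
    (hV : IsElementaryAbelian 2 V) (hxV : x ∈ normalizer (V : Set G)) (hVR : V ≤ R) (hRT : R ≤ T)
    (hRV : ∀ r ∈ R, ∀ v ∈ V, r * v = v * r)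
    (hUV : U ≤ V) (hUne : U ≠ ⊥) (hxU : x ∈ normalizer (U : Set G))
    (hUfix : ∀ u ∈ U, x * u = u * x → u = 1)
    (hAU : A ≤ normalizer (U : Set G)) (ha : a ∈ A) (hax : a * x * a⁻¹ * x ∈ R)
    {A₀ : Subgroup G} (hA₀A : A₀ ≤ A) (hA₀ : ∀ b ∈ A₀, b * x * b⁻¹ * x⁻¹ ∈ R)
    (hA₀U : ∀ u ∈ A, u ∈ U → u ∈ A₀) (hA₀2 : ∀ b ∈ A, b ∈ A₀ ∨ a * b ∈ A₀) :
    Nat.card U = 4 := by
  haveI : Fact (Nat.Prime 2) := ⟨Nat.prime_two⟩
  have hUel : IsElementaryAbelian 2 U :=
    ⟨CfsgLib.Techniques.abelian_mono hV.1 hUV, fun u hu => hV.2 u (hUV hu)⟩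
  have hx2 : ∀ u ∈ U, x * x * u = u * (x * x) → u = 1 := fun u hu h => hUfix u hu (by
    obtain ⟨k, hk⟩ := exists_pow_eq_self_of_coprime (x := x) (n := 2) (by rw [hx]; decide)
    have h' : Commute (x ^ 2) u := by rw [pow_two]; exact h
    exact ((hk ▸ h'.pow_left k : Commute x u)).eq)
  have haU : ∀ u ∈ U, a * u * a⁻¹ ∈ U := fun u hu => (mem_normalizer_iff.1 (hAU ha) u).1 hu
  have hxUm : ∀ u ∈ U, x * u * x⁻¹ ∈ U := fun u hu => (mem_normalizer_iff.1 hxU u).1 hu
  have hxUm' : ∀ u ∈ U, x⁻¹ * u * x ∈ U := fun u hu => (mem_normalizer_iff''.1 hxU u).1 hu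
  have hconjA : ∀ u ∈ U, a * (x * u * x⁻¹) * a⁻¹ = x⁻¹ * (a * u * a⁻¹) * x := by
    intro u hu
    have h1 := hRV _ hax _ (hUV (hxUm' _ (haU u hu)))
    calc a * (x * u * x⁻¹) * a⁻¹
        = (a * x * a⁻¹ * x) * (x⁻¹ * (a * u * a⁻¹) * x) * (a * x * a⁻¹ * x)⁻¹ := by group
      _ = _ := by rw [h1, mul_inv_cancel_right]
  -- pairs of fixed points
  have hpair : ∀ P : Subgroup G, P ≤ U → (∀ p ∈ P, a * p = p * a) → ∀ U' : Subgroup G, P ≤ U' →
      (∀ p ∈ P, x * p * x⁻¹ ∈ U') → Nat.card P * Nat.card P ≤ Nat.card U' := by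
    intro P hPU hPa U' hPU' hxP
    let f : ↥P × ↥P → ↥U' := fun pq =>
      ⟨(pq.1 : G) * (x * pq.2 * x⁻¹), mul_mem (hPU' pq.1.2) (hxP _ pq.2.2)⟩
    rw [← Nat.card_prod]
    refine Nat.card_le_card_of_injective f ?_
    rintro ⟨u, v⟩ ⟨u', v'⟩ h
    have h' : (u : G) * (x * v * x⁻¹) = (u' : G) * (x * v' * x⁻¹) := congrArg Subtype.val h
    set w : G := (v' : G) * (v : G)⁻¹ with hw
    have hwP : w ∈ P := mul_mem v'.2 (inv_mem v.2)
    have e1 : x * w * x⁻¹ = (u' : G)⁻¹ * u := by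
      have e2 : (u' : G)⁻¹ * u = x * v' * x⁻¹ * (x * v * x⁻¹)⁻¹ := by
        rw [eq_mul_inv_iff_mul_eq, mul_assoc, h', inv_mul_cancel_left]
      rw [e2, hw]; group
    have hxw : a * (x * w * x⁻¹) * a⁻¹ = x * w * x⁻¹ := by
      rw [e1, hPa _ (mul_mem (inv_mem u'.2) u.2), mul_inv_cancel_right]
    rw [hconjA w (hPU hwP), hPa w hwP, mul_inv_cancel_right] at hxw
    have hw1 : w = 1 := hx2 w (hPU hwP) (by
      calc x * x * w = x * (x * w * x⁻¹) * x := by group
        _ = x * (x⁻¹ * w * x) * x := by rw [hxw]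
        _ = w * (x * x) := by group)
    have hv : (v' : G) = v := mul_inv_eq_one.1 (hw ▸ hw1)
    have hu : (u : G) = u' := by rw [hv] at h'; exact mul_right_cancel h'
    exact Prod.ext (Subtype.ext hu) (Subtype.ext hv.symm)
  -- the measure
  set F := U ⊓ centralizer (A : Set G) with hF
  have hmeas : ∀ B U' : Subgroup G, B ≤ A → U' ≤ U → (∀ b ∈ B, ∀ u ∈ U', b * u = u * b) →
      Nat.card B * Nat.card U' ≤ Nat.card A * Nat.card F := by
    intro B U' hBA hU'U hBU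
    have hBc : B ≤ centralizer (U' : Set G) := fun b hb => mem_centralizer_iff.2 fun u hu => (hBU b hb u hu).symm
    have h1 := CfsgLib.PLocal.card_sup_mul_card_inf B U' (hBc.trans (centralizer_le_normalizer _))
    rw [h1]
    have hcm := CfsgLib.Techniques.abelian_sup (CfsgLib.Techniques.abelian_mono hA.elem.1 hBA)
      (CfsgLib.Techniques.abelian_mono hUel.1 hU'U) hBc
    have hel : IsElementaryAbelian 2 (B ⊔ U' : Subgroup G) := by
      refine ⟨hcm, fun y hy => ?_⟩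
      rw [sup_eq_closure] at hy
      induction hy using closure_induction with
      | mem y hy => exact hy.elim (fun h => hA.elem.2 y (hBA h)) (fun h => hUel.2 y (hU'U h))
      | one => exact one_pow _
      | mul y z hy hz ihy ihz =>
        rw [← sup_eq_closure] at hy hz
        rw [Commute.mul_pow (CfsgLib.PLocal.comm_of_mem hcm hy hz), ihy, ihz, one_mul]
      | inv y _ ihy => rw [inv_pow, ihy, inv_one]
    refine Nat.mul_le_mul (hA.max _ (sup_le (hBA.trans hA.le) ((hU'U.trans (hUV.trans hVR)).trans hRT)) hel)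
      (card_le_of_le ?_)
    intro y hy
    exact mem_inf.2 ⟨hU'U (mem_inf.1 hy).2, le_centralizer_iff_isMulCommutative.2 hA.elem.1 (hBA (mem_inf.1 hy).1)⟩
  -- `A₀` has index two
  have hA2 : Nat.card A ≤ 2 * Nat.card A₀ := by
    classical
    let f : ↥A → ↥A₀ × Bool := fun b =>
      if h : (b : G) ∈ A₀ then (⟨b, h⟩, true)
      else (⟨a * b, (hA₀2 b b.2).resolve_left h⟩, false)
    have hf : Function.Injective f := by
      intro b b' h
      by_cases hb : (b : G) ∈ A₀ <;> by_cases hb' : (b' : G) ∈ A₀ <;> simp [f, hb, hb'] at h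
      · exact h
      · exact h
    have := Nat.card_le_card_of_injective f hf
    rw [Nat.card_prod, Nat.card_eq_fintype_card (α := Bool), Fintype.card_bool] at this
    omega
  have hFU : F ≤ U := inf_le_left
  have hFfix : ∀ p ∈ F, a * p = p * a := fun p hp => mem_centralizer_iff.1 (mem_inf.1 hp).2 a ha
  have hA₀x : ∀ b ∈ A₀, ∀ u ∈ U, b * u = u * b → b * (x * u * x⁻¹) = x * u * x⁻¹ * b := by
    intro b hb u hu hbu
    refine mul_inv_eq_iff_eq_mul.1 ?_
    have hbu' : b * u * b⁻¹ = u := by rw [hbu, mul_inv_cancel_right]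
    have h1 := hRV _ (hA₀ b hb) _ (hUV (hxUm u hu))
    calc b * (x * u * x⁻¹) * b⁻¹
        = (b * x * b⁻¹ * x⁻¹) * (x * (b * u * b⁻¹) * x⁻¹) * (b * x * b⁻¹ * x⁻¹)⁻¹ := by group
      _ = _ := by rw [hbu', h1, mul_inv_cancel_right]
  have hF2 : Nat.card F ≤ 2 := by
    set U₀ := U ⊓ centralizer (A₀ : Set G)
    have h1 := hpair F hFU hFfix U₀
      (inf_le_inf_left _ (centralizer_le hA₀A))
      (fun p hp => mem_inf.2 ⟨hxUm p (hFU hp), mem_centralizer_iff.2 fun b hb =>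
        hA₀x b hb p (hFU hp) (mem_centralizer_iff.1 (mem_inf.1 hp).2 b (hA₀A hb))⟩)
    have h2 := hmeas A₀ U₀ hA₀A inf_le_left fun b hb u hu => mem_centralizer_iff.1 (mem_inf.1 hu).2 b hb
    have h3 : Nat.card A₀ * (Nat.card F * Nat.card F) ≤ Nat.card A₀ * (2 * Nat.card F) :=
      (Nat.mul_le_mul_left _ h1).trans (h2.trans (by
        rw [← mul_assoc, mul_comm (Nat.card A₀) 2]
        exact Nat.mul_le_mul_right _ hA2))
    have := Nat.le_of_mul_le_mul_left h3 Nat.card_pos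
    exact Nat.le_of_mul_le_mul_right this Nat.card_pos
  have hA2g : IsPGroup 2 A := fun u => ⟨1, Subtype.ext (by simpa using hA.elem.2 u u.2)⟩
  have hU2g : IsPGroup 2 U := fun u => ⟨1, Subtype.ext (by simpa using hUel.2 u u.2)⟩
  obtain ⟨z, hz, hz1, hzA⟩ := exists_fixed_of_two hA2g hU2g hUne hAU
  have hzF : z ∈ F := mem_inf.2 ⟨hz, mem_centralizer_iff.2 hzA⟩
  have hFz : ∀ u ∈ F, u = 1 ∨ u = z := by
    classical
    intro u hu
    by_contra hne
    push Not at hne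
    have := three_le_card hzF hu hz1 hne.1 (Ne.symm hne.2)
    omega
  -- the fixed points of `a`
  set Ua := U ⊓ centralizer ({a} : Set G) with hUa
  have hUa' : ∀ p ∈ Ua, a * p = p * a := fun p hp =>
    (mem_centralizer_singleton_iff.1 (mem_inf.1 hp).2).symm
  have hUaU : Ua ≤ U := inf_le_left
  have hUael : IsElementaryAbelian 2 Ua :=
    ⟨CfsgLib.Techniques.abelian_mono hUel.1 hUaU, fun u hu => hUel.2 u (hUaU hu)⟩
  have hUan : A₀ ≤ normalizer (Ua : Set G) := by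
    intro b hb
    refine CfsgLib.LocalEvenB.mem_normalizer_of_forall fun p hp => ?_
    refine mem_inf.2 ⟨(mem_normalizer_iff.1 (hAU (hA₀A hb)) p).1 (hUaU hp), mem_centralizer_singleton_iff.2 ?_⟩
    have h := CfsgLib.PLocal.comm_of_mem hA.elem.1 (hA₀A hb) ha
    calc b * p * b⁻¹ * a = b * p * (b⁻¹ * a * b) * b⁻¹ := by group
      _ = b * (p * a) * b⁻¹ := by rw [mul_assoc b⁻¹ a b, ← h, inv_mul_cancel_left]; group
      _ = b * (a * p) * b⁻¹ := by rw [hUa' p hp]
      _ = a * (b * p * b⁻¹) := by rw [← mul_assoc b a p, h]; group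
  have hEfix : ∀ u ∈ Ua, (∀ b ∈ A₀, b * u = u * b) → u = 1 ∨ u = z := fun u hu hb =>
    hFz u (mem_inf.2 ⟨hUaU hu, mem_centralizer_iff.2 fun b hbA => by
      rcases hA₀2 b hbA with h | h
      · exact hb b h
      · have h1 := hb _ h
        refine mul_left_cancel (a := a) ?_
        rw [← mul_assoc, h1, ← mul_assoc a u b, hUa' u hu, mul_assoc]⟩)
  have hzUa : z ∈ Ua := mem_inf.2 ⟨hz, mem_centralizer_singleton_iff.2 (hzA a ha).symm⟩
  have hdual := two_mul_card_le_of_unique_fixed (hA2g.to_le hA₀A)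
    (CfsgLib.Techniques.abelian_mono hA.elem.1 hA₀A) hUael hUan hzUa hz1 hEfix
  set B := A₀ ⊓ centralizer (Ua : Set G)
  have hUaxU : Ua ⊔ Ua.map (MulAut.conj x).toMonoidHom ≤ U :=
    sup_le hUaU (by rintro _ ⟨p, hp, rfl⟩; exact hxUm p (hUaU hp))
  have hsq := hpair Ua hUaU hUa' (Ua ⊔ Ua.map (MulAut.conj x).toMonoidHom) le_sup_left
    (fun p hp => mem_sup_right ⟨p, hp, rfl⟩)
  have hB : ∀ b ∈ B, ∀ u ∈ Ua ⊔ Ua.map (MulAut.conj x).toMonoidHom, b * u = u * b := by
    intro b hb u hu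
    have hle : Ua ⊔ Ua.map (MulAut.conj x).toMonoidHom ≤ centralizer ({b} : Set G) := by
      refine sup_le (fun p hp => mem_centralizer_singleton_iff.2 (mem_centralizer_iff.1 (mem_inf.1 hb).2 p hp)) ?_
      rintro _ ⟨p, hp, rfl⟩
      exact mem_centralizer_singleton_iff.2 (hA₀x b (mem_inf.1 hb).1 p (hUaU hp)
        (mem_centralizer_iff.1 (mem_inf.1 hb).2 p hp).symm).symm
    exact (mem_centralizer_singleton_iff.1 (hle hu)).symm
  have h4 := hmeas B _ (inf_le_left.trans hA₀A) hUaxU hB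
  have hUa2 : Nat.card Ua ≤ 2 := by
    have e1 : Nat.card B * (Nat.card Ua * Nat.card Ua) ≤ 2 * (2 * Nat.card A₀) :=
      (Nat.mul_le_mul_left _ hsq).trans (h4.trans (by
        rw [mul_comm (Nat.card A)]; exact Nat.mul_le_mul hF2 hA2))
    have e2 : Nat.card B * (Nat.card Ua * Nat.card Ua) ≤ Nat.card B * (2 * Nat.card Ua) := by
      refine e1.trans ((Nat.mul_le_mul_left 2 hdual).trans (le_of_eq ?_))
      ring
    exact Nat.le_of_mul_le_mul_right (Nat.le_of_mul_le_mul_left e2 Nat.card_pos) Nat.card_pos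
  -- the order of `U`
  have hle4 : Nat.card U ≤ 4 := by
    let f : ↥U →* ↥U :=
      { toFun := fun u => ⟨(u : G) * (a * u * a⁻¹), mul_mem u.2 (haU u u.2)⟩
        map_one' := Subtype.ext (by simp)
        map_mul' := fun u v => Subtype.ext (by
          show (u : G) * v * (a * ((u : G) * v) * a⁻¹) = (u : G) * (a * u * a⁻¹) * ((v : G) * (a * v * a⁻¹))
          have hc := CfsgLib.PLocal.comm_of_mem hUel.1 v.2 (haU u u.2)
          calc (u : G) * v * (a * ((u : G) * v) * a⁻¹)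
              = (u : G) * ((v : G) * (a * u * a⁻¹)) * (a * v * a⁻¹) := by group
            _ = _ := by rw [hc]; group) }
    have hker : f.ker.map U.subtype ≤ Ua := by
      rintro _ ⟨u, hu, rfl⟩
      have h1 : (u : G) * (a * u * a⁻¹) = 1 := congrArg Subtype.val hu
      have h2 : (u : G)⁻¹ = u := inv_eq_of_mul_eq_one_left (by simpa [pow_two] using hUel.2 u u.2)
      refine mem_inf.2 ⟨u.2, mem_centralizer_singleton_iff.2 ?_⟩
      show (u : G) * a = a * u
      have h3 : a * u * a⁻¹ = (u : G)⁻¹ := (inv_eq_of_mul_eq_one_right h1).symm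
      rw [h2] at h3
      exact (mul_inv_eq_iff_eq_mul.1 h3).symm
    have hrange : f.range.map U.subtype ≤ Ua := by
      rintro _ ⟨_, ⟨u, rfl⟩, rfl⟩
      refine mem_inf.2 ⟨(f u).2, mem_centralizer_singleton_iff.2 ?_⟩
      show (u : G) * (a * u * a⁻¹) * a = a * ((u : G) * (a * u * a⁻¹))
      have ha2 : a * a = 1 := by simpa [pow_two] using hA.elem.2 a ha
      have hai : a⁻¹ = a := inv_eq_of_mul_eq_one_left ha2
      refine (mul_inv_eq_iff_eq_mul.1 ?_).symm
      calc a * ((u : G) * (a * u * a⁻¹)) * a⁻¹ = (a * u * a⁻¹) * (a * a * u * (a * a)⁻¹) := by group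
        _ = (a * u * a⁻¹) * u := by rw [ha2]; group
        _ = (u : G) * (a * u * a⁻¹) := CfsgLib.PLocal.comm_of_mem hUel.1 (haU u u.2) u.2
    have h5 : Nat.card f.ker * f.ker.index = Nat.card U := f.ker.card_mul_index
    rw [Subgroup.index_ker] at h5
    have h6 := card_le_of_le hker
    have h7 := card_le_of_le hrange
    rw [card_map_of_injective U.subtype_injective] at h6 h7
    rw [← h5]
    exact Nat.mul_le_mul (h6.trans hUa2) (h7.trans hUa2)
  have hge : 4 ≤ Nat.card U := by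
    have h8 := hpair F hFU hFfix U hFU (fun p hp => hxUm p (hFU hp))
    have h9 : 2 ≤ Nat.card F := two_le_card hzF hz1
    exact le_trans (Nat.mul_le_mul h9 h9) h8
  omega

variable {L T : Subgroup G}

/-- Components exist at each coordinate. -/
theorem exists_jComponent (h : Setting L T) (F : Frame L (thompsonSubgroupOf 2 T) (pCoreOf 2 L)) (i : Fin F.n) :
    ∃ K, IsJComponent T K ∧ K ≤ L ∧ Comp F K ∧ AtIndex F K i := by
  obtain ⟨K, hC, hat, hcomm, hcore, x, hx3, hxK, hxi, hKeq⟩ := exists_factor F i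
  have hKL : K ≤ L := hC.le.trans F.Y_le
  set R := K ⊓ (pCoreOf 2 L) with hR
  set V := omegaCenterOf R with hV
  have hVel : IsElementaryAbelian 2 V := JData.omegaCenter_elementary R
  have hRn : K ≤ normalizer (R : Set G) := fun g hg => CfsgLib.LocalEvenB.mem_normalizer_of_forall fun r hr =>
    mem_inf.2 ⟨mul_mem (mul_mem hg (mem_inf.1 hr).1) (inv_mem hg), F.Q_normal g (hKL hg) r (mem_inf.1 hr).2⟩
  have hxV : (x : G) ∈ normalizer (V : Set G) := mem_normalizer_omegaCenterOf (hRn hxK)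
  have hxodd : Odd (orderOf (x : G)) := by rw [hx3]; decide
  have hRV : ∀ r ∈ R, ∀ v ∈ V, r * v = v * r := fun r hr v hv => centralizes_omegaCenterOf hv hr
  -- the commutator subgroup with `x`
  let U : Subgroup G :=
    { carrier := {u | ∃ v ∈ V, u = ⁅v, (x : G)⁆}
      one_mem' := ⟨1, one_mem _, by simp⟩
      mul_mem' := by
        rintro _ _ ⟨v, hv, rfl⟩ ⟨v', hv', rfl⟩
        refine ⟨v' * v, mul_mem hv' hv, ?_⟩
        have h1 : ⁅v, (x : G)⁆ ∈ V := by
          rw [commutatorElement_def, show v * x * v⁻¹ * (x : G)⁻¹ = v * ((x : G) * v⁻¹ * (x : G)⁻¹) by group]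
          exact mul_mem hv ((mem_normalizer_iff.1 hxV _).1 (inv_mem hv))
        have h2 : ⁅v', (x : G)⁆ ∈ V := by
          rw [commutatorElement_def, show v' * x * v'⁻¹ * (x : G)⁻¹ = v' * ((x : G) * v'⁻¹ * (x : G)⁻¹) by group]
          exact mul_mem hv' ((mem_normalizer_iff.1 hxV _).1 (inv_mem hv'))
        rw [show ⁅v' * v, (x : G)⁆ = v' * ⁅v, (x : G)⁆ * v'⁻¹ * ⁅v', (x : G)⁆ by
          simp [commutatorElement_def, mul_assoc], CfsgLib.PLocal.comm_of_mem hVel.1 hv' h1, mul_inv_cancel_right]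
      inv_mem' := by
        rintro _ ⟨v, hv, rfl⟩
        refine ⟨v⁻¹, inv_mem hv, ?_⟩
        have h1 : ⁅v, (x : G)⁆ ∈ V := by
          rw [commutatorElement_def, show v * x * v⁻¹ * (x : G)⁻¹ = v * ((x : G) * v⁻¹ * (x : G)⁻¹) by group]
          exact mul_mem hv ((mem_normalizer_iff.1 hxV _).1 (inv_mem hv))
        rw [show ⁅v⁻¹, (x : G)⁆ = v⁻¹ * ⁅v, (x : G)⁆⁻¹ * v by simp [commutatorElement_def, mul_assoc],
          CfsgLib.PLocal.comm_of_mem hVel.1 (inv_mem hv) (inv_mem h1), inv_mul_cancel_right] }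
  have hUV : U ≤ V := by
    rintro _ ⟨v, hv, rfl⟩
    rw [commutatorElement_def, show v * x * v⁻¹ * (x : G)⁻¹ = v * ((x : G) * v⁻¹ * (x : G)⁻¹) by group]
    exact mul_mem hv ((mem_normalizer_iff.1 hxV _).1 (inv_mem hv))
  have hxU : (x : G) ∈ normalizer (U : Set G) := by
    refine CfsgLib.LocalEvenB.mem_normalizer_of_forall ?_
    rintro _ ⟨v, hv, rfl⟩
    exact ⟨(x : G) * v * (x : G)⁻¹, (mem_normalizer_iff.1 hxV v).1 hv, by simp [commutatorElement_def, mul_assoc]⟩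
  have hpow : ∀ m ∈ zpowers (x : G), ∀ v ∈ V, ⁅v, m⁆ ∈ U := by
    intro m hm v hv
    rw [← mem_powers_iff_mem_zpowers] at hm
    obtain ⟨e, rfl⟩ := hm
    induction e with
    | zero => simp
    | succ e ih =>
      show ⁅v, (x : G) ^ (e + 1)⁆ ∈ U
      rw [pow_succ', show ⁅v, (x : G) * (x : G) ^ e⁆ = ⁅v, (x : G)⁆ * ((x : G) * ⁅v, (x : G) ^ e⁆ * (x : G)⁻¹) by
        simp [commutatorElement_def, mul_assoc]]
      exact mul_mem ⟨v, hv, rfl⟩ ((mem_normalizer_iff.1 hxU _).1 ih)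
  have hWU : wOf K = U := by
    refine le_antisymm ?_ ?_
    · rw [wOf, hcore]
      refine commutator_le.2 fun v hv k hk => ?_
      rw [← hKeq] at hk
      have hk' : k ∈ (zpowers (x : G) : Set G) * (R : Set G) := by
        rwa [← coe_mul_of_left_le_normalizer_right (H := zpowers (x : G)) (N := R)
          ((zpowers_le.2 hxK).trans hRn)]
      obtain ⟨m, hm, r, hr, rfl⟩ := hk'
      rw [show ⁅v, m * r⁆ = ⁅v, m⁆ * (m * ⁅v, r⁆ * m⁻¹) by simp [commutatorElement_def, mul_assoc],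
        commutatorElement_eq_one_iff_mul_comm.2 (hRV r hr v hv).symm, mul_one, mul_inv_cancel, mul_one]
      exact hpow m hm v hv
    · rintro _ ⟨v, hv, rfl⟩
      rw [wOf, hcore]
      exact commutator_mem_commutator hv hxK
  have hUfix : ∀ u ∈ U, (x : G) * u = u * x → u = 1 := by
    rintro _ ⟨v, hv, rfl⟩ hcm
    rw [commutatorElement_eq_one_iff_mul_comm]
    refine (centralizes_of_quadratic_odd hVel hxV hxodd hv ?_).symm
    have e : (x : G) * v * (x : G)⁻¹ * v⁻¹ = ⁅v, (x : G)⁆⁻¹ := by simp [commutatorElement_def, mul_assoc]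
    rw [e]
    exact ((show Commute (x : G) ⁅v, (x : G)⁆ from hcm).inv_right).eq
  have hUne : U ≠ ⊥ := by
    intro hU
    have hne1 : F.φ x ≠ 1 := fun h1 => hxi (by rw [h1]; rfl)
    obtain ⟨w, hw, hwx⟩ := F.acts x hne1
    have hωel : IsElementaryAbelian 2 (omegaCenterOf (pCoreOf 2 L)) := JData.omegaCenter_elementary (pCoreOf 2 L)
    have hxQ : (x : G) ∈ normalizer (omegaCenterOf (pCoreOf 2 L) : Set G) :=
      mem_normalizer_omegaCenterOf (le_normalizer_pCoreOf_self L (hKL hxK))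
    have hd : ⁅w, (x : G)⁆ ∈ omegaCenterOf (pCoreOf 2 L) := by
      rw [commutatorElement_def, show w * x * w⁻¹ * (x : G)⁻¹ = w * ((x : G) * w⁻¹ * (x : G)⁻¹) by group]
      exact mul_mem hw ((mem_normalizer_iff.1 hxQ _).1 (inv_mem hw))
    have hdK : ⁅w, (x : G)⁆ ∈ K := by
      rw [commutatorElement_def]
      exact mul_mem ((mem_normalizer_iff.1 (hC.Q_norm (omegaCenterOf_le_self (pCoreOf 2 L) hw)) _).1 hxK) (inv_mem hxK)
    have hdV : ⁅w, (x : G)⁆ ∈ V := mem_omegaCenterOf (mem_inf.2 ⟨hdK, omegaCenterOf_le_self (pCoreOf 2 L) hd⟩)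
      (fun r hr => centralizes_omegaCenterOf hd (mem_inf.1 hr).2) (hωel.2 _ hd)
    have hmem : ⁅⁅w, (x : G)⁆, (x : G)⁆ ∈ U := ⟨_, hdV, rfl⟩
    rw [hU, mem_bot, commutatorElement_eq_one_iff_mul_comm] at hmem
    apply hwx
    rw [commutatorElement_eq_one_iff_mul_comm]
    refine (centralizes_of_quadratic_odd hωel hxQ hxodd hw ?_).symm
    have e : (x : G) * w * (x : G)⁻¹ * w⁻¹ = ⁅w, (x : G)⁆⁻¹ := by simp [commutatorElement_def, mul_assoc]
    rw [e]
    exact ((show Commute (x : G) ⁅w, (x : G)⁆ from hmem.symm).inv_right).eq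
  -- a largest elementary subgroup moving the coordinate
  obtain ⟨A, hA, a, haA, has⟩ : ∃ A, IsBig T A ∧ ∃ a : ↥F.Y, (a : G) ∈ A ∧ Equiv.Perm.sign (F.φ a i) = -1 := by
    by_contra hne
    push Not at hne
    obtain ⟨j, hj, hji, -⟩ := F.flip i
    have hJ : thompsonSubgroupOf 2 T ≤
        ((Equiv.Perm.sign.comp ((Pi.evalMonoidHom _ i).comp F.φ)).ker).map F.Y.subtype := by
      refine thompsonSubgroupOf_le_iff.2 fun A hA b hb => ?_
      refine ⟨⟨b, F.J_le (le_thompsonSubgroupOf hA hb)⟩, ?_, rfl⟩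
      exact (Int.units_eq_one_or _).resolve_right (hne A hA ⟨b, F.J_le (le_thompsonSubgroupOf hA hb)⟩ hb)
    obtain ⟨j', hj', he⟩ := hJ hj
    have hjj : j' = j := Subtype.ext he
    subst hjj
    have : Equiv.Perm.sign (F.φ j' i) = 1 := hj'
    rw [hji] at this
    exact absurd this (by decide)
  have hAJ : A ≤ thompsonSubgroupOf 2 T := le_thompsonSubgroupOf hA
  let A₀ : Subgroup G :=
    A ⊓ ((Equiv.Perm.sign.comp ((Pi.evalMonoidHom _ i).comp F.φ)).ker).map F.Y.subtype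
  have hsign : ∀ b : ↥F.Y, (b : G) ∈ A → ((b : G) ∈ A₀ ↔ Equiv.Perm.sign (F.φ b i) = 1) := by
    intro b hb
    constructor
    · intro h0
      obtain ⟨b', hb', he⟩ := (mem_inf.1 h0).2
      exact (Subtype.ext he : b' = b) ▸ hb'
    · exact fun h0 => mem_inf.2 ⟨hb, b, h0, rfl⟩
  have hQT : (pCoreOf 2 L) ≤ T := by
    obtain ⟨h1, h2, h3⟩ := h.syl
    intro q hq
    obtain ⟨q', hq', rfl⟩ := hq
    exact CfsgLib.Core.pCore_le_sylow ((h2.comap_subtype (K := L)).toSylow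
      (fun hd => Nat.not_even_iff_odd.2 h3 (even_iff_two_dvd.2 hd))) hq'
  have hAU : A ≤ normalizer (U : Set G) := by
    rw [← hWU]
    exact (hAJ.trans hC.J_norm).trans (normalizer_le_normalizer_wOf K)
  have hcard : Nat.card U = 4 := by
    refine card_W_eq_four (R := R) (V := V) (a := (a : G)) (A₀ := A₀) hA hx3 hVel hxV
      (omegaCenterOf_le_self R) (inf_le_right.trans hQT) hRV hUV hUne hxU hUfix hAU haA ?_ inf_le_left ?_ ?_ ?_
    · have h1 := hC.inverts hat (hAJ haA) has (y := x) hxK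
      rw [hcore] at h1
      exact h1
    · intro b hb
      have hbA := (mem_inf.1 hb).1
      have hbY : b ∈ F.Y := F.J_le (hAJ hbA)
      have h1 := hC.fixes hat (j := ⟨b, hbY⟩) (hAJ hbA) ((hsign ⟨b, hbY⟩ hbA).1 hb) (y := x) hxK
      rw [hcore] at h1
      exact h1
    · intro u hu huU
      have huQ : u ∈ (pCoreOf 2 L) := (mem_inf.1 (omegaCenterOf_le_self R (hUV huU))).2
      exact (hsign ⟨u, F.Q_le huQ⟩ hu).2 (by rw [F.Q_ker ⟨u, F.Q_le huQ⟩ huQ]; simp)
    · intro b hb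
      have hbY : b ∈ F.Y := F.J_le (hAJ hb)
      rcases Int.units_eq_one_or (Equiv.Perm.sign (F.φ ⟨b, hbY⟩ i)) with h1 | h1
      · exact Or.inl ((hsign ⟨b, hbY⟩ hb).2 h1)
      · refine Or.inr ((hsign (a * ⟨b, hbY⟩) (mul_mem haA hb)).2 ?_)
        rw [map_mul, Pi.mul_apply, map_mul, has, h1]
        decide
  refine ⟨K, ⟨hC.gen, hcomm, hC.index, fun S hS hJS => thompson_condition h.syl hKL hS hJS, hWU ▸ hcard, ?_⟩,
    hKL, hC, hat⟩
  intro w hw
  rw [hWU] at hw
  simpa [pow_two] using hVel.2 w (hUV hw)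

end CfsgLib.LocalEvenB.JOver
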