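import Cfsg.Agent.Lib.Core.ThompsonS3.Main

/-!
# Products of copies of `S₃` from abelian best offenders
-/

set_option autoImplicit false
set_option linter.all false

namespace CfsgLib.LocalEvenB.JOver

open Subgroup Cfsg CfsgLib.PLocal CfsgLib.Core.ThompsonS3 CfsgLib.Core
open scoped commutatorElement

variable {X : Type*} [Group X] [Finite X]

/-- An elementary abelian subgroup of largest order in a 2-group containing the elementary abelian group `W`
maximises `|B| |C_W(B)|` among its subgroups. -/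
theorem measure_le_elementary {S W A : Subgroup X} (hW : IsElementaryAbelian 2 W) (hWS : W ≤ S) (hAS : A ≤ S)
    (hA : IsElementaryAbelian 2 A) (hmax : ∀ B : Subgroup X, B ≤ S → IsElementaryAbelian 2 B → Nat.card B ≤ Nat.card A)
    {B : Subgroup X} (hB : B ≤ A) : offMeasure W B ≤ offMeasure W A := by
  set U := W ⊓ centralizer (B : Set X)
  have hBU : B ≤ centralizer (U : Set X) := le_centralizer_centralizer_inf W B
  have hcm := CfsgLib.Techniques.abelian_sup (CfsgLib.Techniques.abelian_mono hA.1 hB)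
    (CfsgLib.Techniques.abelian_mono hW.1 inf_le_left) hBU
  have hel : IsElementaryAbelian 2 (B ⊔ U : Subgroup X) := by
    refine ⟨hcm, fun x hx => ?_⟩
    rw [sup_eq_closure] at hx
    haveI := hcm
    induction hx using closure_induction with
    | mem y hy => exact hy.elim (fun h => hA.2 y (hB h)) (fun h => hW.2 y h.1)
    | one => exact one_pow _
    | mul y z hy hz ihy ihz =>
      rw [← sup_eq_closure] at hy hz
      rw [Commute.mul_pow (comm_of_mem hcm hy hz), ihy, ihz, one_mul]
    | inv y _ ihy => rw [inv_pow, ihy, inv_one]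
  have h1 := CfsgLib.PLocal.card_sup_mul_card_inf B U (hBU.trans (centralizer_le_normalizer _))
  show Nat.card B * Nat.card U ≤ _
  rw [h1]
  refine Nat.mul_le_mul (hmax _ (sup_le (hB.trans hAS) (inf_le_left.trans hWS)) hel)
    (card_le_of_le ?_)
  exact le_inf (inf_le_right.trans inf_le_left)
    (fun x hx => le_centralizer_iff_isMulCommutative.2 hA.1 (hB hx.1))

/-- The image of `Y` in `X/C(W)` is a product of copies of `S₃`, when `O₂` of that quotient is
trivial and `Y` is generated by largest abelian subgroups of Sylow 2-subgroups. -/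
theorem exists_equiv_pi_of_offenders (hsol : Group.IsSolvable X) (W C Y : Subgroup X) [W.Normal] [C.Normal]
    [Y.Normal] (hW : Cfsg.IsElementaryAbelian 2 W) (hCW : C = centralizer (W : Set X))
    (hO : Cfsg.pCore 2 (X ⧸ C) = ⊥) (hYC : ¬ Y ≤ C)
    (hgen : ∀ N : Subgroup X, (∀ A : Subgroup X, A ≤ Y → IsPGroup 2 A → IsMulCommutative A →
      (∀ B ≤ A, offMeasure W B ≤ offMeasure W A) → A ≤ N) → C ≤ N → Y ≤ N) :
    ∃ n : ℕ, 1 ≤ n ∧ Nonempty (↥Y ⧸ C.subgroupOf Y ≃* (Fin n → Equiv.Perm (Fin 3))) := by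
  classical
  haveI : Fact (Nat.Prime 2) := ⟨Nat.prime_two⟩
  haveI := hsol
  have hWg : IsPGroup 2 W := fun v => ⟨1, Subtype.ext (by simpa using hW.2 v v.2)⟩
  let φ : X ⧸ C →* MulAut W := QuotientGroup.lift C MulAut.conjNormal fun c hc => by
    refine MulEquiv.ext fun w => Subtype.ext ?_
    rw [MulAut.conjNormal_apply]
    rw [hCW] at hc
    rw [← mem_centralizer_iff.1 hc w w.2, mul_inv_cancel_right]
    rfl
  have hφ : ∀ (g : X) (w : W), ((φ (g : X ⧸ C) w : W) : X) = g * w * g⁻¹ := fun g w =>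
    MulAut.conjNormal_apply g w
  let G := W ⋊[φ] (X ⧸ C)
  haveI : Finite G := Finite.of_equiv _ SemidirectProduct.equivProd.symm
  let π := QuotientGroup.mk' C
  let f : X →* G := (SemidirectProduct.inr).comp π
  have hfker : ∀ x : X, f x = 1 ↔ x ∈ C := fun x => by
    rw [← QuotientGroup.eq_one_iff]
    exact ⟨fun h => SemidirectProduct.inr_injective (h.trans (map_one _).symm),
      fun h => by show SemidirectProduct.inr (π x) = 1; rw [show π x = 1 from h, map_one]⟩
  have hker : f.ker = C := Subgroup.ext fun x => hfker x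
  let ι : W →* G := SemidirectProduct.inl
  have hι : Function.Injective ι := SemidirectProduct.inl_injective
  have hconj : ∀ (x : X) (w : W),
      f x * ι w * (f x)⁻¹ = ι ⟨x * w * x⁻¹, (inferInstance : W.Normal).conj_mem w w.2 x⟩ := by
    intro x w
    show SemidirectProduct.inr (π x) * SemidirectProduct.inl w * (SemidirectProduct.inr (π x))⁻¹ = _
    rw [← map_inv (SemidirectProduct.inr (φ := φ)) (π x), ← SemidirectProduct.inl_aut]
    exact congrArg _ (Subtype.ext (hφ x w))
  set V : Subgroup G := ι.range with hVdef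
  have hVel : Cfsg.IsElementaryAbelian 2 V := by
    refine ⟨le_centralizer_iff_isMulCommutative.1 ?_, ?_⟩
    · rintro _ ⟨a, rfl⟩
      refine mem_centralizer_iff.2 ?_
      rintro _ ⟨b, rfl⟩
      rw [← map_mul, ← map_mul, show b * a = a * b from Subtype.ext (comm_of_mem hW.1 b.2 a.2)]
    · rintro _ ⟨a, rfl⟩
      rw [← map_pow, show a ^ 2 = 1 from Subtype.ext (hW.2 a a.2), map_one]
  have hfV : ∀ x : X, f x ∈ normalizer (V : Set G) := by
    have hle : ∀ x : X, ∀ v ∈ V, f x * v * (f x)⁻¹ ∈ V := by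
      rintro x _ ⟨w, rfl⟩
      exact ⟨_, (hconj x w).symm⟩
    intro x
    rw [mem_normalizer_iff_map_conj_eq]
    refine eq_of_le_of_card_ge ?_ (Subgroup.card_map_of_injective (MulAut.conj (f x)).injective).ge
    rintro _ ⟨v, hv, rfl⟩
    exact hle x v hv
  set H : Subgroup G := Y.map f with hHdef
  have hHV : H ≤ normalizer (V : Set G) := by
    rintro _ ⟨y, -, rfl⟩
    exact hfV y
  have hfix : ∀ (x : X) (w : W), f x * ι w = ι w * f x ↔ x * w = w * x := by
    intro x w
    refine Iff.trans mul_inv_eq_iff_eq_mul.symm (Iff.trans ?_ mul_inv_eq_iff_eq_mul)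
    rw [hconj, hι.eq_iff, Subtype.ext_iff]
  have hfaith : H ⊓ centralizer (V : Set G) = ⊥ := by
    rw [eq_bot_iff]
    rintro g hg
    obtain ⟨y, hy, rfl⟩ := (mem_inf.1 hg).1
    rw [mem_bot, hfker, hCW]
    exact mem_centralizer_iff.2 fun w hw =>
      ((hfix y ⟨w, hw⟩).1 ((mem_centralizer_iff.1 (mem_inf.1 hg).2 _ ⟨⟨w, hw⟩, rfl⟩)).symm).symm
  have hcent : ∀ A : Subgroup X, V ⊓ centralizer ((A.map f : Subgroup G) : Set G) =
      ((W ⊓ centralizer (A : Set X)).subgroupOf W).map ι := by
    intro A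
    ext v
    constructor
    · intro hv
      obtain ⟨w, rfl⟩ := (mem_inf.1 hv).1
      refine mem_map_of_mem ι (mem_inf.2 ⟨w.2, mem_centralizer_iff.2 fun a ha => ?_⟩)
      exact (hfix a w).1 (mem_centralizer_iff.1 (mem_inf.1 hv).2 _ (mem_map_of_mem f ha))
    · rintro ⟨w, hw, rfl⟩
      refine mem_inf.2 ⟨⟨w, rfl⟩, mem_centralizer_iff.2 ?_⟩
      rintro _ ⟨a, ha, rfl⟩
      exact (hfix a w).2 (mem_centralizer_iff.1 (mem_inf.1 hw).2 a ha)
  have hcard : ∀ A : Subgroup X, Nat.card (A.map f) * Nat.card (A ⊓ C : Subgroup X) = Nat.card A := by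
    intro A
    have h1 := relIndex_ker f (K := A)
    rw [hker] at h1
    have h2 := (C.subgroupOf A).card_mul_index
    rw [← h1, mul_comm, ← h2]
    congr 1
    rw [← inf_subgroupOf_left, Nat.card_congr (subgroupOfEquivOfLe (inf_le_left : A ⊓ C ≤ A)).toEquiv]
  have hoff : ∀ A : Subgroup X,
      offMeasure V (A.map f) * Nat.card (A ⊓ C : Subgroup X) = offMeasure W A := by
    intro A
    simp only [offMeasure]
    rw [hcent, card_map_of_injective hι,
      Nat.card_congr (subgroupOfEquivOfLe (inf_le_left : W ⊓ centralizer (A : Set X) ≤ W)).toEquiv,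
      mul_right_comm, hcard]
  have hsolH : Group.IsSolvable ↥H := by
    have : Group.IsSolvable ↥Y := inferInstance
    exact solvable_of_surjective (f.subgroupMap_surjective Y)
  have hOH : Cfsg.pCore 2 ↥H = ⊥ := by
    let e : ↥(Y.map π) ≃* ↥((Y.map π).map (SemidirectProduct.inr (φ := φ))) :=
      (Y.map π).equivMapOfInjective _ SemidirectProduct.inr_injective
    have hY : Cfsg.pCore 2 ↥(Y.map π) = ⊥ := by
      haveI : (Y.map π).Normal := Subgroup.Normal.map inferInstance π (QuotientGroup.mk'_surjective C)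
      have := CfsgLib.Core.map_subtype_pCore_le (p := 2) (Y.map π)
      rw [hO, le_bot_iff, Subgroup.map_eq_bot_iff_of_injective _ (Subgroup.subtype_injective _)] at this
      exact this
    have hH : H = (Y.map π).map (SemidirectProduct.inr (φ := φ)) := (Subgroup.map_map _ _ _).symm
    rw [← CfsgLib.Core.map_equiv_pCore (e.trans (MulEquiv.subgroupCongr hH.symm)), hY, Subgroup.map_bot]
  have hsetup := FF.setup_core hVel hHV hfaith (CfsgLib.PGroups.centralizer_pPrimeCore_le
    (CfsgLib.Core.isPSolvable_of_isSolvable hsolH) hOH)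
  set K : Subgroup G := (Cfsg.pPrimeCore 2 ↥H).map H.subtype
  have hgen' : H = ⨆ B : {B : Subgroup G // B ≤ H ∧ Cfsg.IsBestOffenderOn 2 V B}, (B : Subgroup G) := by
    refine le_antisymm (map_le_iff_le_comap.2 (hgen _ (fun A hAY hA2 hAc hA => map_le_iff_le_comap.1 ?_)
      (fun c hc => by rw [mem_comap, (hfker c).2 hc]; exact one_mem _)))
      (iSup_le fun B => B.2.1)
    refine le_iSup_of_le (⟨A.map f, map_mono hAY, ?_⟩ :
      {B : Subgroup G // B ≤ H ∧ Cfsg.IsBestOffenderOn 2 V B}) le_rfl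
    refine bestOffender_of_abelian hsetup (map_mono hAY) (hA2.map f)
      (isMulCommutative_map hAc f) fun D hD => ?_
    set B := A ⊓ D.comap f with hBdef
    have hBD : B.map f = D := by
      refine le_antisymm (map_le_iff_le_comap.2 inf_le_right) fun d hd => ?_
      obtain ⟨a, ha, rfl⟩ := hD hd
      exact mem_map_of_mem f (mem_inf.2 ⟨ha, hd⟩)
    have hinf : B ⊓ C = A ⊓ C := by
      refine le_antisymm (inf_le_inf_right _ inf_le_left) (le_inf (le_inf inf_le_left ?_) inf_le_right)
      intro x hx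
      show f x ∈ D
      rw [(hfker x).2 (mem_inf.1 hx).2]
      exact one_mem _
    refine Nat.le_of_mul_le_mul_right ?_ (Nat.card_pos (α := (A ⊓ C : Subgroup X)))
    rw [hoff A, ← hinf, ← hBD, hoff B]
    exact hA _ inf_le_left
  have hH1 : H ≠ ⊥ := fun h => hYC fun y hy =>
    (hfker y).1 (mem_bot.1 (h ▸ mem_map_of_mem f hy))
  set I := {E : Subgroup G // ∃ Z, FF.Tv 2 V H Z ∧ E = FF.fac K Z}
  haveI : Finite I := Subtype.finite
  haveI : Fintype I := Fintype.ofFinite I
  let fam : Fin (Fintype.card I) → Subgroup G := fun i => ((Fintype.equivFin I).symm i).1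
  have hfam : ∀ i, ∃ Z, FF.Tv 2 V H Z ∧ fam i = FF.fac K Z := fun i => ((Fintype.equivFin I).symm i).2
  have hinj : Function.Injective fam := Subtype.val_injective.comp (Fintype.equivFin I).symm.injective
  obtain ⟨-, hiso, hind, hsup, -, -⟩ := FF.structure_thm hsetup hgen' hH1 fam hfam hinj
    fun Z tZ => ⟨Fintype.equivFin I ⟨_, Z, tZ, rfl⟩, by simp [fam]⟩
  refine ⟨Fintype.card I, ?_, ?_⟩
  · by_contra hn
    have h0 : Fintype.card I = 0 := by omega
    haveI : IsEmpty (Fin (Fintype.card I)) := by rw [h0]; infer_instance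
    exact hH1 (by rw [← hsup, iSup_of_empty])
  have hcomm : Pairwise fun i j => ∀ x y : G, x ∈ fam i → y ∈ fam j → Commute x y := by
    intro i j hij x y hx hy
    obtain ⟨Z, tZ, hZ⟩ := hfam i
    obtain ⟨Z', tZ', hZ'⟩ := hfam j
    rcases FF.fac_cases hsetup tZ tZ' with he | ⟨-, -, hc⟩
    · exact absurd (hinj (hZ.trans (he.trans hZ'.symm))) hij
    · rw [hZ] at hx
      rw [hZ'] at hy
      have := commutator_mem_commutator hx hy
      rw [hc, mem_bot] at this
      exact commutatorElement_eq_one_iff_mul_comm.1 this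
  have hrange : (Subgroup.noncommPiCoprod hcomm).range = H := by
    rw [Subgroup.noncommPiCoprod_range]; exact hsup
  let e1 : (∀ i, fam i) ≃* ↥H :=
    (MonoidHom.ofInjective (Subgroup.injective_noncommPiCoprod_of_iSupIndep (hcomm := hcomm) hind)).trans
      (MulEquiv.subgroupCongr hrange)
  have hperm : ∀ i, Nonempty (↥(fam i) ≃* Equiv.Perm (Fin 3)) := by
    intro i
    obtain ⟨e⟩ := (hiso i).2.1
    obtain ⟨e'⟩ := CfsgLib.Orders.nonempty_perm_three_of_card_six
      (G := Matrix.SpecialLinearGroup (Fin 2) (ZMod 2))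
      (by rw [Nat.card_eq_fintype_card]; decide) (by decide)
    exact ⟨e.trans e'⟩
  let e2 : (∀ i, fam i) ≃* (Fin (Fintype.card I) → Equiv.Perm (Fin 3)) :=
    MulEquiv.piCongrRight fun i => (hperm i).some
  let g : ↥Y →* ↥H := f.subgroupMap Y
  have hgk : g.ker = C.subgroupOf Y := by
    ext y
    rw [MonoidHom.mem_ker, mem_subgroupOf, ← hfker]
    exact ⟨fun h => congrArg Subtype.val h, fun h => Subtype.ext h⟩
  exact ⟨(((QuotientGroup.quotientMulEquivOfEq hgk.symm).trans
    (QuotientGroup.quotientKerEquivOfSurjective g (f.subgroupMap_surjective Y))).trans e1.symm).trans e2⟩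

end CfsgLib.LocalEvenB.JOver
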