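import Cfsg.Agent.Lib.LocalEvenB.JOver.ThompsonMax
import Cfsg.Agent.Lib.LocalEvenB.JOver.Offenders
import Cfsg.Agent.Lib.LocalEvenB.JComponent

/-!
# Solvable overgroups of a Sylow 2-subgroup whose Thompson subgroup is not in `O₂`
-/

set_option autoImplicit false
set_option linter.all false

namespace CfsgLib.LocalEvenB.JOver

open Subgroup Cfsg CfsgLib.Core.ThompsonS3
open scoped commutatorElement

variable {G : Type*} [Group G]

/-- The hypotheses on an overgroup. -/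
structure Setting (L T : Subgroup G) : Prop where
  syl : IsSylowTwoIn T L
  jnot : ¬ thompsonSubgroupOf 2 T ≤ pCoreOf 2 L
  self : centralizer (pCoreOf 2 L : Set G) ≤ pCoreOf 2 L
  solv : Group.IsSolvable ↥L
  hZ : ∀ S : Sylow 2 G, centralizer (omegaCenterOf (S : Subgroup G) : Set G) ≤ normalizer ((S : Subgroup G) : Set G)

/-- The structure of `⟨J^L⟩ Q` modulo its kernel. -/
structure Frame (L J Q : Subgroup G) where
  Y : Subgroup G
  Y_le : Y ≤ L
  Y_normal : ∀ l ∈ L, ∀ y ∈ Y, l * y * l⁻¹ ∈ Y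
  J_le : J ≤ Y
  Q_le : Q ≤ Y
  Q_two : IsPGroup 2 Q
  Q_normal : ∀ l ∈ L, ∀ q ∈ Q, l * q * l⁻¹ ∈ Q
  J_two : IsPGroup 2 J
  comm_J : ∀ j ∈ J, ∀ q ∈ Q, ⁅q, j⁆ ∈ J
  n : ℕ
  n_pos : 1 ≤ n
  φ : ↥Y →* (Fin n → Equiv.Perm (Fin 3))
  surj : Function.Surjective φ
  flip : ∀ i, ∃ j : ↥Y, (j : G) ∈ J ∧ Equiv.Perm.sign (φ j i) = -1 ∧ ∀ k, k ≠ i → Equiv.Perm.sign (φ j k) = 1
  Q_ker : ∀ y : ↥Y, (y : G) ∈ Q → φ y = 1
  ker_comm : ∀ y z : ↥Y, φ y = 1 → ⁅(y : G), (z : G)⁆ ∈ Q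
  ker_two : ∀ y : ↥Y, φ y = 1 → ∀ k : ℕ, (y : G) ^ 2 ^ k ∈ Q → (y : G) ∈ Q
  ker_conj : ∀ l (hl : l ∈ L) (y : ↥Y), φ y = 1 → φ ⟨l * y * l⁻¹, Y_normal l hl y y.2⟩ = 1
  acts : ∀ y : ↥Y, φ y ≠ 1 → ∃ w ∈ omegaCenterOf Q, ⁅w, (y : G)⁆ ≠ 1

variable [Finite G] {L T : Subgroup G}

theorem nonempty_frame (h : Setting L T) : Nonempty (Frame L (thompsonSubgroupOf 2 T) (pCoreOf 2 L)) := by
  classical
  haveI : Fact (Nat.Prime 2) := ⟨Nat.prime_two⟩
  haveI := h.solv
  obtain ⟨hTL, hT2, hodd⟩ := h.syl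
  set T' : Subgroup ↥L := T.subgroupOf L with hT'def
  have hT'2 : IsPGroup 2 T' := hT2.comap_subtype
  have hnd : ¬ 2 ∣ T'.index := fun hd => Nat.not_even_iff_odd.2 hodd (even_iff_two_dvd.2 hd)
  let P : Sylow 2 ↥L := hT'2.toSylow hnd
  have hP : (P : Subgroup ↥L) = T' := rfl
  set Q' : Subgroup ↥L := Cfsg.pCore 2 ↥L with hQ'def
  haveI : Q'.Normal := CfsgLib.Core.normal_pCore 2 ↥L
  have hQ'T : Q' ≤ T' := CfsgLib.Core.pCore_le_sylow P
  have hQ'2 : IsPGroup 2 Q' := CfsgLib.Core.isPGroup_pCore 2 ↥L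
  have memQ : ∀ x : ↥L, (x : G) ∈ pCoreOf 2 L ↔ x ∈ Q' := fun x =>
    ⟨fun ⟨y, hy, he⟩ => (Subtype.ext he : y = x) ▸ hy, fun hx => ⟨x, hx, rfl⟩⟩
  have hself : ∀ x : ↥L, (∀ q ∈ Q', q * x = x * q) → x ∈ Q' := fun x hx => (memQ x).1 (h.self
    (mem_centralizer_iff.2 fun q ⟨q', hq', he⟩ => he ▸ congrArg Subtype.val (hx q' hq')))
  set J := thompsonSubgroupOf 2 T with hJdef
  have hJT : J ≤ T := thompsonSubgroupOf_le T
  set J' : Subgroup ↥L := J.subgroupOf L with hJ'def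
  set W₀ : Subgroup ↥L := (omegaCenterOf T).subgroupOf L with hW₀def
  -- a Sylow subgroup of `G` over `T`
  obtain ⟨S, hTS⟩ := hT2.exists_le_sylow
  have hST : ∀ x : G, x ∈ L → x ∈ (S : Subgroup G) → x ∈ T := by
    intro x hxL hxS
    have hle : T' ≤ (S : Subgroup G).subgroupOf L := fun y hy => hTS hy
    have e : (S : Subgroup G).subgroupOf L = T' :=
      P.is_maximal' (S.isPGroup'.comap_subtype (K := L)) hle
    exact (e ▸ (show (⟨x, hxL⟩ : ↥L) ∈ (S : Subgroup G).subgroupOf L from hxS) : (⟨x, hxL⟩ : ↥L) ∈ T')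
  have hZS : omegaCenterOf (S : Subgroup G) ≤ omegaCenterOf T := by
    rw [omegaCenterOf, omegaOne, closure_le]
    rintro z ⟨⟨hzS, hzc⟩, hz2⟩
    have hzQ : z ∈ pCoreOf 2 L := h.self (mem_centralizer_iff.2 fun q hq => by
      obtain ⟨q', hq', rfl⟩ := hq
      exact mem_centralizer_iff.1 hzc _ (hTS (hQ'T hq')))
    obtain ⟨z', hz', rfl⟩ := hzQ
    exact subset_closure ⟨⟨hQ'T hz', mem_centralizer_iff.2 fun t ht => mem_centralizer_iff.1 hzc t (hTS ht)⟩, hz2⟩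
  have hCN : ∀ c : ↥L, (∀ z ∈ W₀, z * c = c * z) → c ∈ normalizer (T' : Set ↥L) := by
    intro c hc
    have hcN : (c : G) ∈ normalizer ((S : Subgroup G) : Set G) := h.hZ S (mem_centralizer_iff.2 fun z hz => by
      have hzT := hZS hz
      have hzL : z ∈ L := hTL ((CfsgLib.PGroups.omegaOne_le _).trans inf_le_left hzT)
      exact congrArg Subtype.val (hc ⟨z, hzL⟩ hzT))
    have hstep : ∀ d : ↥L, (d : G) ∈ normalizer ((S : Subgroup G) : Set G) → ∀ t ∈ T', d * t * d⁻¹ ∈ T' :=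
      fun d hd t ht => hST _ (d * t * d⁻¹).2 ((mem_normalizer_iff.1 hd _).1 (hTS ht))
    rw [mem_normalizer_iff]
    intro t
    refine ⟨hstep c hcN t, fun ht => ?_⟩
    have := hstep c⁻¹ (inv_mem hcN) _ ht
    simpa [mul_assoc] using this
  -- the elementary subgroup
  let Wz : Subgroup ↥L :=
    { carrier := {x | x ∈ Q' ⊓ centralizer (Q' : Set ↥L) ∧ x ^ 2 = 1}
      one_mem' := ⟨one_mem _, one_pow _⟩
      mul_mem' := fun {a b} ha hb => ⟨mul_mem ha.1 hb.1, by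
        rw [Commute.mul_pow (show Commute a b from mem_centralizer_iff.1 hb.1.2 a ha.1.1), ha.2, hb.2, one_mul]⟩
      inv_mem' := fun {a} ha => ⟨inv_mem ha.1, by rw [inv_pow, ha.2, inv_one]⟩ }
  haveI : Wz.Normal := ⟨fun x hx g =>
    ⟨(inferInstance : (Q' ⊓ centralizer (Q' : Set ↥L)).Normal).conj_mem x hx.1 g,
      by rw [conj_pow, hx.2, mul_one, mul_inv_cancel]⟩⟩
  have hW₀z : W₀ ≤ Wz := by
    intro x hx
    have hxT : (x : G) ∈ T ⊓ centralizer (T : Set G) := CfsgLib.PGroups.omegaOne_le _ hx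
    have hc : ∀ q ∈ Q', q * x = x * q := fun q hq =>
      Subtype.ext (mem_centralizer_iff.1 hxT.2 _ (hQ'T hq))
    refine ⟨⟨hself x hc, mem_centralizer_iff.2 hc⟩, ?_⟩
    have := (CfsgLib.LocalEvenB.JData.omegaCenter_elementary T).2 _ hx
    exact Subtype.ext this
  set W : Subgroup ↥L := normalClosure (W₀ : Set ↥L) with hWdef
  haveI : W.Normal := normalClosure_normal
  have hWz : W ≤ Wz := normalClosure_le_normal hW₀z
  have hWel : IsElementaryAbelian 2 W := ⟨le_centralizer_iff_isMulCommutative.1 fun a ha =>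
    mem_centralizer_iff.2 fun b hb => mem_centralizer_iff.1 (hWz ha).1.2 b (hWz hb).1.1, fun a ha => (hWz ha).2⟩
  have hWT : W ≤ T' := fun x hx => hQ'T (hWz hx).1.1
  set C : Subgroup ↥L := centralizer (W : Set ↥L) with hCdef
  haveI : C.Normal := inferInstance
  have hQC : Q' ≤ C := fun q hq => mem_centralizer_iff.2 fun w hw =>
    (mem_centralizer_iff.1 (hWz hw).1.2 q hq).symm
  have hCnorm : C ≤ normalizer (T' : Set ↥L) := fun c hc => hCN c fun z hz =>
    mem_centralizer_iff.1 hc z (le_normalClosure hz)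
  -- `C ∩ T = Q`
  have hCT : C ⊓ T' ≤ Q' := by
    have hn : ((C ⊓ T').subgroupOf C).Normal := ⟨fun x hx c =>
      ⟨(c * x * c⁻¹).2, (mem_normalizer_iff.1 (hCnorm c.2) _).1 hx.2⟩⟩
    have h1 : (C ⊓ T').subgroupOf C ≤ Cfsg.pCore 2 ↥C :=
      CfsgLib.Core.le_pCore ((hT'2.to_le inf_le_right).comap_subtype)
    intro x hx
    exact CfsgLib.Core.map_subtype_pCore_le (p := 2) C ⟨⟨x, hx.1⟩, h1 (show (⟨x, hx.1⟩ : ↥C) ∈ _ from hx), rfl⟩
  have hCcomm : ∀ c ∈ C, ∀ t ∈ T', ⁅c, t⁆ ∈ Q' := fun c hc t ht => hCT ⟨by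
      rw [commutatorElement_def, show c * t * c⁻¹ * t⁻¹ = c * (t * c⁻¹ * t⁻¹) by group]
      exact mul_mem hc ((inferInstance : C.Normal).conj_mem _ (inv_mem hc) t),
    by rw [commutatorElement_def]; exact T'.mul_mem ((mem_normalizer_iff.1 (hCnorm hc) t).1 ht) (T'.inv_mem ht)⟩
  -- no 2-core in the quotient
  have hOq : Cfsg.pCore 2 (↥L ⧸ C) = ⊥ := by
    set R : Subgroup ↥L := (Cfsg.pCore 2 (↥L ⧸ C)).comap (QuotientGroup.mk' C) with hR
    haveI : R.Normal := (CfsgLib.Core.normal_pCore 2 _).comap _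
    have hCR : C ≤ R := le_of_eq_of_le (QuotientGroup.ker_mk' C).symm (ker_le_comap _ _)
    have hnd' : ¬ 2 ∣ T'.relIndex R := fun hd => hnd (hd.trans (CfsgLib.HallGen.relIndex_dvd_index_right _ _))
    obtain ⟨j, hj⟩ := IsPGroup.iff_card.1 (CfsgLib.Core.isPGroup_pCore 2 (↥L ⧸ C))
    have h2 : ∃ j, C.relIndex R = 2 ^ j := by
      refine ⟨j, ?_⟩
      have h1 := relIndex_ker (QuotientGroup.mk' C) (K := R)
      rw [QuotientGroup.ker_mk'] at h1
      rw [h1, hR, map_comap_eq_self_of_surjective (QuotientGroup.mk'_surjective C), hj]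
    have hRe : T' ⊓ R ⊔ C = R := CfsgLib.PLocal.sup_eq_of_coprime_relIndex (inf_le_right : T' ⊓ R ≤ R) hCR
      (by rwa [inf_relIndex_right]) h2
    have hTR : T' ⊓ R ≤ Q' := by
      have hn : ∀ r ∈ R, ∀ x ∈ T' ⊓ R, r * x * r⁻¹ ∈ T' ⊓ R := by
        intro r hr x hx
        refine ⟨?_, (inferInstance : R.Normal).conj_mem x hx.2 r⟩
        rw [← hRe] at hr
        have : T' ⊓ R ⊔ C ≤ normalizer (T' : Set ↥L) := sup_le (inf_le_left.trans le_normalizer) hCnorm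
        exact (mem_normalizer_iff.1 (this hr) x).1 hx.1
      have hnorm : ((T' ⊓ R).subgroupOf R).Normal := ⟨fun x hx r => hn r r.2 x hx⟩
      have h1 : (T' ⊓ R).subgroupOf R ≤ Cfsg.pCore 2 ↥R :=
        CfsgLib.Core.le_pCore ((hT'2.to_le inf_le_left).comap_subtype)
      intro x hx
      exact CfsgLib.Core.map_subtype_pCore_le (p := 2) R ⟨⟨x, hx.2⟩, h1 (show (⟨x, hx.2⟩ : ↥R) ∈ _ from hx), rfl⟩
    have hRC : R ≤ C := hRe.ge.trans (sup_le (hTR.trans hQC) le_rfl)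
    rw [eq_bot_iff]
    intro x hx
    obtain ⟨g, rfl⟩ := QuotientGroup.mk'_surjective C x
    exact (QuotientGroup.eq_one_iff g).2 (hRC hx)
  -- the normal subgroup
  set N₀ : Subgroup ↥L := normalClosure (J' : Set ↥L) with hN₀def
  haveI : N₀.Normal := normalClosure_normal
  set Y' : Subgroup ↥L := N₀ ⊔ Q' with hY'def
  haveI : Y'.Normal := inferInstance
  have hJY : J' ≤ Y' := le_sup_of_le_left le_normalClosure
  have hJ'T : J' ≤ T' := fun x hx => hJT hx
  have hYC : ¬ Y' ≤ C := by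
    intro hle
    apply h.jnot
    intro x hx
    have hxL : x ∈ L := hTL (hJT hx)
    exact (memQ ⟨x, hxL⟩).2 (hCT ⟨hle (hJY (show (⟨x, hxL⟩ : ↥L) ∈ J' from hx)), hJT hx⟩)
  obtain ⟨n, hn, ⟨e⟩⟩ := exists_equiv_pi_of_offenders inferInstance W C Y' hWel rfl hOq hYC fun N hN hCN' => by
    refine sup_le ((closure_le N).2 ?_) (hQC.trans hCN')
    intro x hx
    obtain ⟨j, hj, hjx⟩ := Group.mem_conjugatesOfSet_iff.1 hx
    obtain ⟨g, rfl⟩ := isConj_iff.1 hjx
    have hkey : J ≤ (N.comap (MulAut.conj g).toMonoidHom).map L.subtype := by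
      refine thompsonSubgroupOf_le_iff.2 fun A hA => ?_
      have hAL : A ≤ L := hA.le.trans hTL
      have hle : (A.subgroupOf L).map (MulAut.conj g).toMonoidHom ≤ N := by
        refine hN _ ?_ ((hT'2.to_le (fun y hy => hA.le hy : A.subgroupOf L ≤ T')).map _) (isMulCommutative_map
          (CfsgLib.PLocal.elementary_comap L.subtype L.subtype_injective hA.elem).1 _) fun B hB => ?_
        · rintro _ ⟨a, ha, rfl⟩
          exact (inferInstance : Y'.Normal).conj_mem a (hJY (show a ∈ J' from le_thompsonSubgroupOf hA ha)) g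
        · refine measure_le_elementary (S := T'.map (MulAut.conj g).toMonoidHom) hWel ?_
            (map_mono fun y hy => hA.le hy) (CfsgLib.PLocal.elementary_map _
              (CfsgLib.PLocal.elementary_comap L.subtype L.subtype_injective hA.elem)) ?_ hB
          · intro w hw
            refine ⟨g⁻¹ * w * g, hWT ?_, by simp [mul_assoc]⟩
            simpa using (inferInstance : W.Normal).conj_mem w hw g⁻¹
          · intro D hD hDe
            have hD' : (D.map (MulAut.conj g).symm.toMonoidHom).map L.subtype ≤ T := by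
              rintro _ ⟨_, ⟨d, hd, rfl⟩, rfl⟩
              obtain ⟨t, ht, rfl⟩ := hD hd
              simpa [mul_assoc] using (mem_subgroupOf.1 ht : (t : G) ∈ T)
            have := hA.max _ hD' (CfsgLib.PLocal.elementary_map _ (CfsgLib.PLocal.elementary_map _ hDe))
            rw [CfsgLib.PLocal.card_map_of_injective _ L.subtype_injective,
              CfsgLib.PLocal.card_map_of_injective _ (MulEquiv.injective _)] at this
            show Nat.card D ≤ Nat.card ↥((A.subgroupOf L).map (MulAut.conj g).toMonoidHom)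
            rwa [CfsgLib.PLocal.card_map_of_injective _ (MulEquiv.injective _),
              Nat.card_congr (subgroupOfEquivOfLe hAL).toEquiv]
      exact fun a ha => ⟨⟨a, hAL ha⟩, hle ⟨⟨a, hAL ha⟩, ha, rfl⟩, rfl⟩
    obtain ⟨j', hj', he⟩ := hkey (hj : (j : G) ∈ J)
    have : j' = j := Subtype.ext he
    subst this
    exact hj'
  -- the homomorphism
  let ψ' : ↥Y' →* (Fin n → Equiv.Perm (Fin 3)) := e.toMonoidHom.comp (QuotientGroup.mk' (C.subgroupOf Y'))
  have hψker : ∀ y : ↥Y', ψ' y = 1 ↔ (y : ↥L) ∈ C := fun y => by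
    show e (QuotientGroup.mk' (C.subgroupOf Y') y) = 1 ↔ _
    rw [map_eq_one_iff e e.injective]
    exact QuotientGroup.eq_one_iff y
  have hψs : Function.Surjective ψ' := e.surjective.comp (QuotientGroup.mk'_surjective _)
  let sg : ↥Y' →* (Fin n → ℤˣ) :=
    { toFun := fun y i => Equiv.Perm.sign (ψ' y i)
      map_one' := funext fun i => by simp
      map_mul' := fun a b => funext fun i => by simp }
  have hsgs : Function.Surjective sg := fun v => by
    choose p hp using fun i => Equiv.Perm.sign_surjective (Fin 3) (v i)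
    obtain ⟨y, hy⟩ := hψs p
    exact ⟨y, funext fun i => by show Equiv.Perm.sign (ψ' y i) = v i; rw [hy, hp]⟩
  -- the Thompson subgroup maps onto the signs
  let JY : Subgroup ↥Y' := J'.subgroupOf Y'
  have hfr : normalizer ((T' ⊓ Y' : Subgroup ↥L) : Set ↥L) ⊔ Y' = ⊤ := by
    have hndY : ¬ 2 ∣ T'.relIndex Y' := fun hd => hnd (hd.trans (CfsgLib.HallGen.relIndex_dvd_index_right _ _))
    let TY : Sylow 2 Y' := (hT'2.comap_subtype).toSylow hndY
    have hTY : (TY : Subgroup Y').map Y'.subtype = T' ⊓ Y' := subgroupOf_map_subtype _ _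
    exact hTY ▸ Sylow.normalizer_sup_eq_top TY
  have hNJ : normalizer ((T' ⊓ Y' : Subgroup ↥L) : Set ↥L) ≤ normalizer (J' : Set ↥L) := by
    intro g hg
    set U : Subgroup G := (T' ⊓ Y').map L.subtype
    have hU : U ≤ T := by rintro _ ⟨x, hx, rfl⟩; exact hx.1
    have hJU : J ≤ U := fun x hx => ⟨⟨x, hTL (hJT hx)⟩, ⟨hJT hx, hJY (show (⟨x, hTL (hJT hx)⟩ : ↥L) ∈ J' from hx)⟩, rfl⟩
    have hgU : (g : G) ∈ normalizer (U : Set G) := by
      refine CfsgLib.LocalEvenB.mem_normalizer_of_forall ?_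
      rintro _ ⟨x, hx, rfl⟩
      exact ⟨g * x * g⁻¹, (mem_normalizer_iff.1 hg x).1 hx, rfl⟩
    have hgJ := CfsgLib.LocalEvenB.normalizer_le_normalizer_thompsonSubgroupOf (p := 2) U hgU
    rw [thompson_eq_of_between hU hJU] at hgJ
    rw [mem_normalizer_iff]
    exact fun x => mem_normalizer_iff.1 hgJ x
  have hJsg : ∀ y : ↥Y', sg y ∈ JY.map sg := by
    have hconj : ∀ (g : ↥L) (j : ↥Y'), j ∈ JY → sg ⟨g * j * g⁻¹, (inferInstance : Y'.Normal).conj_mem _ j.2 g⟩ ∈ JY.map sg := by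
      intro g j hj
      obtain ⟨y, hy, u, hu, hgu⟩ := mem_sup_of_normal_left.1 ((sup_comm _ _).trans hfr ▸ mem_top g : g ∈ Y' ⊔ normalizer ((T' ⊓ Y' : Subgroup ↥L) : Set ↥L))
      refine ⟨⟨u * j * u⁻¹, (inferInstance : Y'.Normal).conj_mem _ j.2 u⟩, (mem_normalizer_iff.1 (hNJ hu) _).1 hj, ?_⟩
      have e1 : (⟨g * j * g⁻¹, (inferInstance : Y'.Normal).conj_mem _ j.2 g⟩ : ↥Y') =
          ⟨y, hy⟩ * ⟨u * j * u⁻¹, (inferInstance : Y'.Normal).conj_mem _ j.2 u⟩ * ⟨y, hy⟩⁻¹ := by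
        refine Subtype.ext ?_
        show g * j * g⁻¹ = y * (u * j * u⁻¹) * y⁻¹
        rw [← hgu]; group
      rw [e1, map_mul, map_mul, map_inv, mul_comm (sg ⟨y, hy⟩), mul_inv_cancel_right]
    intro y
    have hmem : Y' ≤ ((JY.map sg).comap sg).map Y'.subtype := by
      refine sup_le ((closure_le _).2 ?_) ?_
      · intro x hx
        obtain ⟨j, hj, hjx⟩ := Group.mem_conjugatesOfSet_iff.1 hx
        obtain ⟨g, rfl⟩ := isConj_iff.1 hjx
        exact ⟨_, hconj g ⟨j, hJY hj⟩ hj, rfl⟩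
      · intro q hq
        refine ⟨⟨q, mem_sup_right hq⟩, ?_, rfl⟩
        rw [SetLike.mem_coe, mem_comap]
        have : sg ⟨q, mem_sup_right hq⟩ = 1 := funext fun i => by
          show Equiv.Perm.sign (ψ' _ i) = 1
          rw [(hψker _).2 (hQC hq)]; simp
        rw [this]; exact one_mem _
    obtain ⟨y', hy', he⟩ := hmem y.2
    exact (Subtype.ext he : y' = y) ▸ hy'
  have hcomm : ∀ c ∈ C, ∀ z ∈ Y', ⁅c, z⁆ ∈ Q' := by
    haveI : (normalClosure (T' : Set ↥L)).Normal := normalClosure_normal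
    let D : Subgroup ↥L :=
      { carrier := {z | ∀ c ∈ C, ⁅c, z⁆ ∈ Q'}
        one_mem' := fun c _ => by simp
        mul_mem' := fun {a b} ha hb c hc => by
          rw [show ⁅c, a * b⁆ = ⁅c, a⁆ * (a * ⁅c, b⁆ * a⁻¹) by simp [commutatorElement_def, mul_assoc]]
          exact mul_mem (ha c hc) ((inferInstance : Q'.Normal).conj_mem _ (hb c hc) a)
        inv_mem' := fun {a} ha c hc => by
          rw [show ⁅c, a⁻¹⁆ = a⁻¹ * ⁅c, a⁆⁻¹ * a⁻¹⁻¹ by simp [commutatorElement_def, mul_assoc]]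
          exact (inferInstance : Q'.Normal).conj_mem _ (inv_mem (ha c hc)) a⁻¹ }
    have : Y' ≤ D := by
      refine sup_le ((closure_le _).2 ?_) fun q hq c hc => hCcomm c hc q (hQ'T hq)
      intro x hx c hc
      obtain ⟨j, hj, hjx⟩ := Group.mem_conjugatesOfSet_iff.1 hx
      obtain ⟨g, rfl⟩ := isConj_iff.1 hjx
      have := (inferInstance : Q'.Normal).conj_mem _ (hCcomm (g⁻¹ * c * g) (by
        simpa using (inferInstance : C.Normal).conj_mem c hc g⁻¹) j (hJ'T hj)) g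
      convert this using 1
      simp [commutatorElement_def, mul_assoc]
    exact fun c hc z hz => this hz c hc
  let iY : ↥Y' ≃* ↥(Y'.map L.subtype) := Y'.equivMapOfInjective L.subtype L.subtype_injective
  have iY_symm : ∀ y : ↥(Y'.map L.subtype), (((iY.symm y : ↥Y') : ↥L) : G) = (y : G) := fun y => by
    conv_rhs => rw [← iY.apply_symm_apply y]
    rfl
  refine ⟨{
    Y := Y'.map L.subtype
    Y_le := map_subtype_le _
    Y_normal := ?_
    J_le := fun x hx => ⟨⟨x, hTL (hJT hx)⟩, hJY (show (⟨x, hTL (hJT hx)⟩ : ↥L) ∈ J' from hx), rfl⟩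
    Q_le := map_mono le_sup_right
    Q_two := hQ'2.map _
    Q_normal := ?_
    J_two := hT2.to_le hJT
    comm_J := ?_
    n := n
    n_pos := hn
    φ := ψ'.comp iY.symm.toMonoidHom
    surj := hψs.comp iY.symm.surjective
    flip := ?_
    Q_ker := ?_
    ker_comm := ?_
    ker_two := ?_
    ker_conj := ?_
    acts := ?_ }⟩
  · rintro l hl _ ⟨y, hy, rfl⟩
    exact ⟨⟨l, hl⟩ * y * ⟨l, hl⟩⁻¹, (inferInstance : Y'.Normal).conj_mem y hy _, rfl⟩
  · rintro l hl _ ⟨q, hq, rfl⟩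
    exact ⟨⟨l, hl⟩ * q * ⟨l, hl⟩⁻¹, (inferInstance : Q'.Normal).conj_mem q hq _, rfl⟩
  · rintro j hj _ ⟨q, hq, rfl⟩
    have hqN := CfsgLib.LocalEvenB.normalizer_le_normalizer_thompsonSubgroupOf (p := 2) T (le_normalizer (hQ'T hq : (q : G) ∈ T))
    rw [commutatorElement_def]
    exact mul_mem ((mem_normalizer_iff.1 hqN j).1 hj) (inv_mem hj)
  · intro i
    obtain ⟨y, hy⟩ := hsgs (Function.update 1 i (-1))
    obtain ⟨j, hj, hje⟩ := hJsg y
    refine ⟨iY j, hj, ?_, fun k hk => ?_⟩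
    · show Equiv.Perm.sign (ψ' (iY.symm (iY j)) i) = -1
      rw [iY.symm_apply_apply, show Equiv.Perm.sign (ψ' j i) = sg j i from rfl, hje, hy, Function.update_self]
    · show Equiv.Perm.sign (ψ' (iY.symm (iY j)) k) = 1
      rw [iY.symm_apply_apply, show Equiv.Perm.sign (ψ' j k) = sg j k from rfl, hje, hy, Function.update_of_ne hk]
      rfl
  · intro y hy
    refine (hψker (iY.symm y)).2 (hQC ((memQ _).1 ?_))
    rwa [iY_symm]
  · intro y z hy
    have := (memQ _).2 (hcomm _ ((hψker _).1 hy) _ (iY.symm z).2)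
    rw [← iY_symm y, ← iY_symm z]
    exact this
  · intro y hy k hk
    set c : ↥L := ((iY.symm y : ↥Y') : ↥L)
    have hc : c ∈ C := (hψker _).1 hy
    have hck : c ^ 2 ^ k ∈ Q' := (memQ _).1 (by rw [Subgroup.coe_pow, iY_symm]; exact hk)
    haveI : ((T' ⊓ C).subgroupOf C).Normal := ⟨fun x hx r =>
      ⟨(mem_normalizer_iff.1 (hCnorm r.2) _).1 hx.1, (r * x * r⁻¹).2⟩⟩
    have hnd' : ¬ 2 ∣ ((T' ⊓ C).subgroupOf C).index := by
      show ¬ 2 ∣ (T' ⊓ C).relIndex C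
      rw [inf_relIndex_right]
      exact fun hd => hnd (hd.trans (CfsgLib.HallGen.relIndex_dvd_index_right _ _))
    have hmk : (QuotientGroup.mk' ((T' ⊓ C).subgroupOf C) ⟨c, hc⟩) ^ 2 ^ k = 1 := by
      rw [← map_pow]
      exact (QuotientGroup.eq_one_iff _).2 (mem_subgroupOf.2 ⟨hQ'T hck, pow_mem hc _⟩)
    have h1 := orderOf_dvd_of_pow_eq_one hmk
    have h2 := orderOf_dvd_natCard (G := ↥C ⧸ (T' ⊓ C).subgroupOf C) (QuotientGroup.mk' ((T' ⊓ C).subgroupOf C) ⟨c, hc⟩)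
    have h3 := Nat.eq_one_of_dvd_coprimes (((Nat.prime_two.coprime_iff_not_dvd).2 hnd').pow_left k) h1 h2
    have h5 : QuotientGroup.mk' ((T' ⊓ C).subgroupOf C) ⟨c, hc⟩ = 1 := orderOf_eq_one_iff.1 h3
    have h4 : c ∈ T' ⊓ C := mem_subgroupOf.1 ((QuotientGroup.eq_one_iff (⟨c, hc⟩ : ↥C)).1 h5)
    rw [← iY_symm y]
    exact (memQ c).2 (hCT ⟨h4.2, h4.1⟩)
  · intro l hl y hy
    refine (hψker _).2 ?_
    have hmem : l * (y : G) * l⁻¹ ∈ Y'.map L.subtype := by
      obtain ⟨y0, hy0, he0⟩ := Subgroup.mem_map.1 y.2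
      exact ⟨⟨l, hl⟩ * y0 * ⟨l, hl⟩⁻¹, (inferInstance : Y'.Normal).conj_mem y0 hy0 _, by rw [← he0]; rfl⟩
    have e1 : ((iY.symm (⟨l * y * l⁻¹, hmem⟩ : ↥(Y'.map L.subtype)) : ↥Y') : ↥L) =
        ⟨l, hl⟩ * ((iY.symm y : ↥Y') : ↥L) * ⟨l, hl⟩⁻¹ := by
      refine Subtype.ext ?_
      rw [iY_symm, Subgroup.coe_mul, Subgroup.coe_mul, iY_symm]
      rfl
    show ((iY.symm (⟨l * y * l⁻¹, hmem⟩ : ↥(Y'.map L.subtype)) : ↥Y') : ↥L) ∈ C
    rw [e1]
    exact (inferInstance : C.Normal).conj_mem _ ((hψker _).1 hy) _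
  · intro y hy
    by_contra hne
    push Not at hne
    refine hy ((hψker (iY.symm y)).2 (mem_centralizer_iff.2 fun w hw => Subtype.ext ?_))
    have hwz := hWz hw
    have hwo : (w : G) ∈ omegaCenterOf (Q'.map L.subtype) := by
      refine subset_closure ⟨⟨⟨w, hwz.1.1, rfl⟩, mem_centralizer_iff.2 ?_⟩, ?_⟩
      · rintro _ ⟨q, hq, rfl⟩
        exact congrArg Subtype.val (mem_centralizer_iff.1 hwz.1.2 q hq)
      · exact congrArg Subtype.val hwz.2
    have := commutatorElement_eq_one_iff_mul_comm.1 (hne _ hwo)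
    rw [Subgroup.coe_mul, Subgroup.coe_mul, iY_symm]
    exact this

end CfsgLib.LocalEvenB.JOver
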