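import Cfsg.Agent.Lib.LocalEvenB.JOver.SylowCase

/-!
# The two overgroups of a maximal straddling subgroup
-/

set_option autoImplicit false
set_option linter.all false

namespace CfsgLib.LocalEvenB.JOver

open Subgroup Cfsg
open scoped commutatorElement Pointwise

variable {G : Type*} [Group G] [Finite G]

/-- An overgroup of a maximal straddling subgroup with a component outside `M`. -/
theorem exists_data_max (hG : ZNHyp G) {M T : Subgroup G} (S : Sylow 2 G)
    (hMJ : normalizer (thompsonSubgroupOf 2 (S : Subgroup G) : Set G) ≤ M) (hT : T ∈ maxStraddlingTwoSubgroups M) :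
    ∃ K L, IsMaximalTwoLocal L ∧ Setting L T ∧ IsJComponent T K ∧ K ≤ L ∧ IsUniqueOver T K L := by
  obtain ⟨hT2, hT1, hTM, X₀, hX₀, hTX₀, hX₀M⟩ := hT.1
  obtain ⟨X, hX, hX₀X⟩ := exists_maximalTwoLocal_ge hX₀
  have hXM : ¬ X ≤ M := fun h => hX₀M (hX₀X.trans h)
  have hTX : T ≤ X := hTX₀.trans hX₀X
  have hsy := sylow_of_le hT hTX fun T₀ h1 h2 =>
    (max_straddling_overgroup hG.ch hG.solv hG.hZ S hMJ hT hX.1 hXM h1 h2).2.1
  have hset := (max_straddling_overgroup hG.ch hG.solv hG.hZ S hMJ hT hX.1 hXM hsy (thompsonSubgroupOf_le T)).2.2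
  obtain ⟨E, hE, hEX, hEM⟩ := exists_component_outside hset hTM (normalizer_thompson_le S hMJ hT) hXM
  exact ⟨E, X, hX, hset, hE, hEX,
    uq_outside hG S hMJ hT hE hEM hX (sup_le hEX ((thompsonSubgroupOf_le T).trans hTX))⟩

/-- A component has a partner with another overgroup. -/
theorem exists_partner (hG : ZNHyp G) (hO : Cfsg.pCore 2 G = ⊥) {T K L : Subgroup G}
    (hL : IsMaximalTwoLocal L) (hs : Setting L T) (hK : IsJComponent T K) (hKL : K ≤ L)
    (hU : IsUniqueOver T K L) :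
    ∃ D LD, L ≠ LD ∧ Vtx T K L ∧ Vtx T D LD := by
  obtain ⟨S', hS'⟩ := hs.syl.2.1.exists_le_sylow
  by_cases he : T = (S' : Subgroup G)
  · subst he
    exact exists_second_sylow hG hO S' hL hs hK hKL
  obtain ⟨g, hgS, hgN, hgT, -⟩ := exists_swap S'.isPGroup' hS' he
  have hgL : g ∉ L := fun h => hgT (inter_le_of_sylowTwoIn hs.syl S'.isPGroup' hS' (mem_inf.2 ⟨h, hgS⟩))
  obtain ⟨hne, vK⟩ := swap_pair hG hs hL hK hKL hU
    (CfsgLib.LocalEvenB.normalizer_le_normalizer_thompsonSubgroupOf (p := 2) T hgN) hgL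
  exact ⟨_, _, hne, vK, vK.conj hgN⟩

/-- Two vertices with noncommuting four-groups. -/
theorem exists_ncPair (hG : ZNHyp G) (hO : Cfsg.pCore 2 G = ⊥) {M T : Subgroup G} (S : Sylow 2 G)
    (hMJ : normalizer (thompsonSubgroupOf 2 (S : Subgroup G) : Set G) ≤ M) (hT : T ∈ maxStraddlingTwoSubgroups M) :
    ∃ A B LA LB, NcPair T A B LA LB := by
  obtain ⟨K, L, hL, hs, hK, hKL, hU⟩ := exists_data_max hG S hMJ hT
  obtain ⟨S', hS'⟩ := hs.syl.2.1.exists_le_sylow
  by_cases he : T = (S' : Subgroup G)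
  · subst he
    obtain ⟨D, LD, hne, vK, vD⟩ := exists_second_sylow hG hO S' hL hs hK hKL
    obtain ⟨K', L', P, z, hz⟩ := exists_common_sylow hG S'
      (K := fun i => bif i then K else D) (L := fun i => bif i then L else LD)
      ⟨fun i => by cases i <;> assumption, hne⟩
    exact ⟨_, _, _, _, ncPair_of_common P hz⟩
  obtain ⟨g, hgS, hgN, hgT, hg2⟩ := exists_swap S'.isPGroup' hS' he
  have hgL : g ∉ L := fun h => hgT (inter_le_of_sylowTwoIn hs.syl S'.isPGroup' hS' (mem_inf.2 ⟨h, hgS⟩))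
  obtain ⟨hne, vK⟩ := swap_pair hG hs hL hK hKL hU
    (CfsgLib.LocalEvenB.normalizer_le_normalizer_thompsonSubgroupOf (p := 2) T hgN) hgL
  exact ⟨_, _, _, _, (swap_common vK hgN hgL hg2).1⟩

theorem omegaCenter_sylow_ne_bot {L T : Subgroup G} (hs : Setting L T) (S : Sylow 2 G)
    (hTS : T ≤ (S : Subgroup G)) : omegaCenterOf (S : Subgroup G) ≠ ⊥ := by
  intro h0
  have hc := hs.hZ S
  rw [h0] at hc
  have htop : normalizer ((S : Subgroup G) : Set G) = ⊤ := top_unique (le_trans (fun x _ =>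
    mem_centralizer_iff.2 fun y hy => by rw [mem_bot.1 hy, one_mul, mul_one]) hc)
  have hn : L ≤ normalizer ((L ⊓ (S : Subgroup G) : Subgroup G) : Set G) :=
    (le_inf le_normalizer (le_top.trans htop.ge)).trans inf_normalizer_le_normalizer_inf
  exact hs.jnot ((le_inf ((thompsonSubgroupOf_le T).trans hs.syl.1) ((thompsonSubgroupOf_le T).trans hTS)).trans
    (CfsgLib.LocalEvenB.le_pCoreOf inf_le_left (S.isPGroup'.to_le inf_le_right) hn))

theorem card_jCenter_two_or_four {T A B LA LB : Subgroup G} (va : Vtx T A LA) (hB : IsJComponent T B)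
    (hUB : IsUniqueOver T B LB) (hne : LA ≠ LB) :
    Nat.card ↥(jCenter T) = 2 ∨ Nat.card ↥(jCenter T) = 4 := by
  have h1 := card_jCenter va.T_two va.jc
  have h2 := card_jFix_le_two va.T_two hB hUB va.uq hne.symm
  have h3 : 0 < Nat.card ↥(jFix T A) := Nat.card_pos
  omega

theorem not_conj_le_normalizer {T K : Subgroup G} (hK : IsJComponent T K) (S : Sylow 2 G) {n : G}
    (h : ∀ k ∈ K ⊔ thompsonSubgroupOf 2 T, n * k * n⁻¹ ∈ normalizer ((S : Subgroup G) : Set G))
    (hT : IsPGroup 2 T) : False := by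
  haveI : Fact (Nat.Prime 2) := ⟨Nat.prime_two⟩
  set f := (MulAut.conj n).toMonoidHom with hf
  have hJS : (thompsonSubgroupOf 2 T).map f ≤ (S : Subgroup G) := by
    have hsup : IsPGroup 2 ((thompsonSubgroupOf 2 T).map f ⊔ (S : Subgroup G) : Subgroup G) :=
      IsPGroup.to_sup_of_normal_right' ((hT.to_le (thompsonSubgroupOf_le T)).map _) S.isPGroup' (by
        rintro _ ⟨j, hj, rfl⟩
        exact h j (mem_sup_right hj))
    exact le_sup_left.trans (S.is_maximal' hsup le_sup_right).le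
  have hKS : K.map f ≤ (S : Subgroup G) := by
    rw [← hK.2.1, map_commutator]
    refine commutator_le.2 ?_
    rintro _ ⟨k, hk, rfl⟩ j hj
    rw [commutatorElement_def]
    exact mul_mem ((mem_normalizer_iff.1 (h k (mem_sup_left hk)) j).1 (hJS hj)) (inv_mem (hJS hj))
  have hK2 : IsPGroup 2 K :=
    (S.isPGroup'.to_le hKS).of_equiv (equivMapOfInjective K f (MulAut.conj n).injective).symm
  have htop : Cfsg.pCore 2 ↥K = ⊤ :=
    top_unique (CfsgLib.Core.le_pCore (p := 2) (hK2.of_equiv topEquiv.symm))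
  have hidx := hK.2.2.1
  rw [pCoreOf, htop, ← MonoidHom.range_eq_map, K.range_subtype, relIndex_self] at hidx
  omega

/-- The normalizer of the center of a small pair. -/
theorem relIndex_jCenter (hG : ZNHyp G) {T K L : Subgroup G} (S : Sylow 2 G) (hTS : T ≤ (S : Subgroup G))
    (vK : Vtx T K L) (h4 : Nat.card ↥(jCenter T) = 4) (hne : T ≠ (S : Subgroup G)) :
    (L ⊓ centralizer (jCenter T : Set G)).relIndex (normalizer (jCenter T : Set G)) = 2 := by
  classical
  obtain ⟨g, hgS, hgN, hgT, hg2⟩ := exists_swap S.isPGroup' hTS hne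
  have hgL : g ∉ L := fun h => hgT (inter_le_of_sylowTwoIn vK.set.syl S.isPGroup' hTS (mem_inf.2 ⟨h, hgS⟩))
  obtain ⟨N, z, hzA, hzB, hgz⟩ := swap_common vK hgN hgL hg2
  have hgJ := CfsgLib.LocalEvenB.normalizer_le_normalizer_thompsonSubgroupOf (p := 2) T hgN
  have hgZ : g ∈ normalizer (jCenter T : Set G) := jCenter_fixed_normal hgJ
  obtain ⟨h, hh, hh1⟩ := jFix_nontrivial_of_four vK (by omega)
  have hh' := map_jFix hgJ hh
  set h' := g * h * g⁻¹ with hh'def
  have hsq : ∀ x ∈ jCenter T, x * x = 1 := fun x hx => by rw [← pow_two]; exact (jCenter_elementary T).2 x hx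
  have hzh : z ≠ h := fun e => vK.not_mem_jFix_point hzA (e ▸ hh)
  have hh'h : h' ≠ h := fun e =>
    hh1 (mem_bot.1 (jFix_inf_jFix vK.uq N.vb.uq N.ne ▸ mem_inf.2 ⟨hh, e ▸ hh'⟩))
  have hh'1 : h' ≠ 1 := fun e => hh1 (conj_eq_one_iff.1 e)
  have hcases : ∀ u ∈ jCenter T, u = 1 ∨ u = z ∨ u = h ∨ u = z * h :=
    fun u hu => four_cases h4 hzA.1 (mem_inf.1 hh).1 hzA.2.2 hh1 hzh (hsq z hzA.1) hu
  have hh'e : h' = z * h := by
    rcases hcases h' (mem_inf.1 hh').1 with e | e | e | e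
    · exact absurd e hh'1
    · exact absurd (e ▸ hh') (N.vb.not_mem_jFix_point hzB)
    · exact absurd e hh'h
    · exact e
  -- the center of the Sylow subgroup is the point
  have hZz : ∀ y ∈ omegaCenterOf (S : Subgroup G), y = 1 ∨ y = z := by
    intro y hy
    have hgy := centralizes_omegaCenterOf hy hgS
    rcases hcases y (omegaCenterOf_le_jCenter T (omegaCenter_sylow_le vK.set S hTS hy)) with e | e | e | e
    · exact Or.inl e
    · exact Or.inr e
    · exact absurd (show h' = h by rw [hh'def, ← e, hgy, mul_inv_cancel_right]) hh'h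
    · exfalso
      refine hh'h ?_
      rw [hh'def]
      have h2 : g * (z * h) = z * (g * h) := by rw [← mul_assoc, hgz, mul_assoc]
      rw [e, h2, mul_assoc] at hgy
      rw [mul_left_cancel hgy, mul_inv_cancel_right]
  have hCz : centralizer ({z} : Set G) ≤ normalizer ((S : Subgroup G) : Set G) := by
    refine le_trans (fun c hc => mem_centralizer_iff.2 fun y hy => ?_) (hG.hZ S)
    rcases hZz y hy with e | e <;> rw [e]
    · rw [one_mul, mul_one]
    · exact (mem_centralizer_singleton_iff.1 hc).symm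
  have hfixz : ∀ n ∈ normalizer (jCenter T : Set G), n * z = z * n := by
    intro n hn
    by_contra hnz
    have hy : n⁻¹ * z * n ∈ jCenter T := (mem_normalizer_iff''.1 hn z).1 hzA.1
    have bad : ∀ {D LD : Subgroup G}, Vtx T D LD → n⁻¹ * z * n ∈ jFix T D → False := by
      intro D LD vd hmem
      refine not_conj_le_normalizer vd.jc S (n := n) (fun k hk => hCz (mem_centralizer_singleton_iff.2 ?_))
        vd.T_two
      have h := mem_centralizer_iff.1 (jFix_centralizes hk) _ hmem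
      calc n * k * n⁻¹ * z = n * (k * (n⁻¹ * z * n)) * n⁻¹ := by group
        _ = n * ((n⁻¹ * z * n) * k) * n⁻¹ := by rw [h]
        _ = z * (n * k * n⁻¹) := by group
    rcases hcases _ hy with e | e | e | e
    · refine hzA.2.2 ?_
      calc z = n * (n⁻¹ * z * n) * n⁻¹ := by group
        _ = 1 := by rw [e]; group
    · refine hnz ?_
      calc n * z = n * (n⁻¹ * z * n) := by rw [e]
        _ = z * n := by group
    · exact bad vK (e ▸ hh)
    · exact bad N.vb (by rw [e, ← hh'e]; exact hh')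
  have hCL : centralizer (jCenter T : Set G) ≤ L := fun c hc =>
    centralizer_jFix_le vK.uq hh hh1
      (mem_centralizer_singleton_iff.2 (mem_centralizer_iff.1 hc h (mem_inf.1 hh).1).symm)
  have hfix : ∀ b ∈ normalizer (jCenter T : Set G), b * h * b⁻¹ = h → b ∈ centralizer (jCenter T : Set G) :=
    fun b hb hbh => mem_centralizer_iff.2 fun u hu =>
      (four_fixed h4 hsq hzA.1 (mem_inf.1 hh).1 hzA.2.2 hh1 hzh (hfixz b hb) (mul_inv_eq_iff_eq_mul.1 hbh) u hu).symm
  have hswap : ∀ b ∈ normalizer (jCenter T : Set G), b ∉ centralizer (jCenter T : Set G) → b * h * b⁻¹ = h' := by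
    intro b hb hbc
    rcases hcases _ ((mem_normalizer_iff.1 hb h).1 (mem_inf.1 hh).1) with e | e | e | e
    · exact absurd (conj_eq_one_iff.1 e) hh1
    · refine absurd ((MulAut.conj b).injective ?_) hzh
      show b * z * b⁻¹ = b * h * b⁻¹
      rw [e, hfixz b hb, mul_inv_cancel_right]
    · exact absurd (hfix b hb e) hbc
    · rw [e, hh'e]
  have hgc : g ∉ centralizer (jCenter T : Set G) := fun hc =>
    hh'h (by rw [hh'def, ← mem_centralizer_iff.1 hc h (mem_inf.1 hh).1, mul_inv_cancel_right])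
  rw [relIndex, index_eq_two_iff]
  refine ⟨⟨g, hgZ⟩, fun b => ?_⟩
  by_cases hb : (b : G) ∈ centralizer (jCenter T : Set G)
  · refine Or.inr ⟨mem_subgroupOf.2 (mem_inf.2 ⟨hCL hb, hb⟩), fun h2 => hgc ?_⟩
    have := mul_mem (inv_mem hb) (mem_inf.1 (mem_subgroupOf.1 h2)).2
    simpa using this
  · refine Or.inl ⟨?_, fun h2 => hb (mem_inf.1 (mem_subgroupOf.1 h2)).2⟩
    have hgg : g * h' * g⁻¹ = h := by
      rw [hh'def, show g * (g * h * g⁻¹) * g⁻¹ = (g * g) * h * (g * g)⁻¹ by group,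
        ← mem_centralizer_iff.1 (T_centralizes_jCenter N.va N.vb N.ne hg2) h (mem_inf.1 hh).1,
        mul_inv_cancel_right]
    have hbh' : (b : G) * h' * (b : G)⁻¹ = h := by
      have h1 := hswap b b.2 hb
      rw [hh'e, show (b : G) * (z * h) * (b : G)⁻¹ = ((b : G) * z * (b : G)⁻¹) * ((b : G) * h * (b : G)⁻¹) by group,
        hfixz b b.2, mul_inv_cancel_right, h1, hh'e, ← mul_assoc, hsq z hzA.1, one_mul]
    have hbg : (b : G) * g * h * ((b : G) * g)⁻¹ = h := by
      rw [show (b : G) * g * h * ((b : G) * g)⁻¹ = (b : G) * (g * h * g⁻¹) * (b : G)⁻¹ by group, ← hh'def, hbh']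
    have hc := hfix _ (mul_mem b.2 hgZ) hbg
    exact mem_subgroupOf.2 (mem_inf.2 ⟨hCL hc, hc⟩)

/-- The properties of one side of a pair. -/
theorem NcPair.amalgam_side {T A B LA LB : Subgroup G} (N : NcPair T A B LA LB) :
    centralizer (pCoreOf 2 (A ⊔ T) : Set G) ≤ pCoreOf 2 (A ⊔ T) ∧ IsSylowTwoIn T (A ⊔ T) ∧
      (pCoreOf 2 (A ⊔ T)).relIndex (A ⊔ T) = 6 ∧ ¬ ⁅A ⊔ T, A ⊔ T⁆ ≤ pCoreOf 2 (A ⊔ T) ∧
      ⁅omegaCenterOf T, A ⊔ T⁆ ≠ ⊥ ∧
      ∃ L : Subgroup G, IsMaximalTwoLocal L ∧ A ⊔ T ≤ L ∧ IsSylowTwoIn T L ∧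
        ∀ L' : Subgroup G, IsMaximalTwoLocal L' → A ⊔ T ≤ L' → L' = L := by
  rw [← N.L_eq]
  refine ⟨N.va.set.self, N.va.set.syl, by rw [N.core_eq]; exact N.relIndex_ker, fun hle => ?_, fun h0 => ?_,
    LA, N.va.uq.1, le_rfl, N.va.set.syl, fun L' hL' hle => N.va.uq.2.2 L' hL'
      ((sup_le N.va.le ((thompsonSubgroupOf_le T).trans N.va.set.syl.1)).trans hle)⟩
  · obtain ⟨x, a, hx, hx3, ha, -, hax, hxW⟩ := N.exists_dihedral
    have h := hle (commutator_mem_commutator ha hx)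
    rw [N.core_eq, commutatorElement_def, hax] at h
    apply hxW
    have hx' : x⁻¹ * x⁻¹ = x := by
      have h3 : x ^ 3 = 1 := hx3 ▸ pow_orderOf_eq_one x
      calc x⁻¹ * x⁻¹ = x⁻¹ * x⁻¹ * x ^ 3 := by rw [h3, mul_one]
        _ = x := by group
    rw [hx'] at h
    exact (mem_inf.1 h).2
  · obtain ⟨z, hz⟩ := N.va.exists_isPoint
    obtain ⟨x, hx, hxo, hxc⟩ := N.va.exists_odd
    have h := commutator_mem_commutator (H₁ := omegaCenterOf T) (H₂ := LA)
      (jCenter_eq_omegaCenter N.va N.vb N.ne ▸ hz.1) (N.va.le hx)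
    rw [h0, mem_bot, commutatorElement_eq_one_iff_mul_comm] at h
    exact hxc (mem_centralizer_iff.2 fun w hw => (four_odd_fixed N.va.W_card N.va.W_sq
      (N.va.K_le_normalizer_W hx) hxo hz.2.1 hz.2.2 h.symm w hw).symm)

end CfsgLib.LocalEvenB.JOver
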