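import Cfsg.Agent.Lib.LocalEvenB.JOver.Vertex

/-!
# Chains of conjugate vertices over two components
-/

set_option autoImplicit false
set_option linter.all false

namespace CfsgLib.LocalEvenB.JOver

open Subgroup Cfsg
open scoped commutatorElement Pointwise

variable {G : Type*} [Group G]

/-- Two vertices normalised by `T` with different overgroups. -/
structure VtxPair (T : Subgroup G) (K L : Bool → Subgroup G) : Prop where
  v : ∀ i, Vtx T (K i) (L i)
  ne : L true ≠ L false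

/-- The subgroup of a vertex. -/
def vP (T : Subgroup G) (K : Bool → Subgroup G) (a : Bool) : Subgroup G := K a ⊔ T

/-- The four-group of a vertex of the chain. -/
def vW (K : Bool → Subgroup G) (a : Bool × G) : Subgroup G :=
  (wOf (K a.1)).map (MulAut.conj a.2).toMonoidHom

/-- The kernel of a vertex of the chain. -/
def vQ (T : Subgroup G) (K : Bool → Subgroup G) (a : Bool × G) : Subgroup G :=
  (wKer T (K a.1)).map (MulAut.conj a.2).toMonoidHom

/-- Adjacency. -/
def vAdj (T : Subgroup G) (K : Bool → Subgroup G) (a c : Bool × G) : Prop :=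
  c.1 = !a.1 ∧ ∃ p ∈ vP T K a.1, ∃ q ∈ vP T K c.1, a.2 * p = c.2 * q

/-- Chains of a given length. -/
inductive VPath (T : Subgroup G) (K : Bool → Subgroup G) : ℕ → Bool × G → Bool × G → Prop
  | refl (a : Bool × G) : VPath T K 0 a a
  | tail {n : ℕ} {a m c : Bool × G} : VPath T K n a m → vAdj T K m c → VPath T K (n + 1) a c

variable {T : Subgroup G} {K L : Bool → Subgroup G}

theorem vAdj_symm {a c : Bool × G} (h : vAdj T K a c) : vAdj T K c a := by
  obtain ⟨h1, p, hp, q, hq, he⟩ := h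
  exact ⟨by rw [h1]; simp, q, hq, p, hp, he.symm⟩

theorem VPath.head {n : ℕ} {a m c : Bool × G} (h : vAdj T K a m) (hp : VPath T K n m c) :
    VPath T K (n + 1) a c := by
  induction hp with
  | refl => exact .tail (.refl a) h
  | tail _ hadj ih => exact .tail (ih h) hadj

theorem VPath.symm {n : ℕ} {a c : Bool × G} (h : VPath T K n a c) : VPath T K n c a := by
  induction h with
  | refl => exact .refl _
  | tail _ hadj ih => exact VPath.head (vAdj_symm hadj) ih

theorem VPath.trans {n k : ℕ} {a m c : Bool × G} (h : VPath T K n a m) (h' : VPath T K k m c) :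
    VPath T K (n + k) a c := by
  induction h' with
  | refl => exact h
  | tail _ hadj ih => exact .tail (ih h) hadj

theorem mem_map_conj_iff' {X : Subgroup G} {g x : G} :
    x ∈ X.map (MulAut.conj g).toMonoidHom ↔ g⁻¹ * x * g ∈ X := CfsgLib.LocalEvenB.mem_map_conj

theorem map_conj_mul_of_mem [Finite G] {X : Subgroup G} {g p : G} (hp : p ∈ normalizer (X : Set G)) :
    X.map (MulAut.conj (g * p)).toMonoidHom = X.map (MulAut.conj g).toMonoidHom := by
  rw [← CfsgLib.LocalEvenB.map_conj_map_conj, CfsgLib.LocalEvenB.map_conj_eq_self_iff_mem_normalizer.2 hp]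

namespace VtxPair

variable [Finite G] (P : VtxPair T K L)
include P

theorem W_le_T (i : Bool) : wOf (K i) ≤ T := by
  refine (wOf_le_core (P.v i).set (P.v i).jc (P.v i).le).trans ?_
  obtain ⟨h1, h2, h3⟩ := (P.v i).set.syl
  intro q hq
  obtain ⟨q', hq', rfl⟩ := hq
  exact CfsgLib.Core.pCore_le_sylow ((h2.comap_subtype (K := L i)).toSylow
    (fun hd => Nat.not_even_iff_odd.2 h3 (even_iff_two_dvd.2 hd))) hq'

theorem W_comm (i : Bool) : wOf (K i) ≤ centralizer (wOf (K i) : Set G) := by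
  obtain ⟨S, hd⟩ := exists_jData (P.v i).T_two (P.v i).jc
  exact ((wOf_le_core (P.v i).set (P.v i).jc (P.v i).le).trans (le_refl _) |> fun _ =>
    le_centralizer_iff_isMulCommutative.2
      (CfsgLib.Techniques.abelian_mono (JData.omegaCenter_elementary _).1 hd.W_le_omega))

theorem W_elementary (i : Bool) : IsElementaryAbelian 2 (wOf (K i)) := by
  obtain ⟨S, hd⟩ := exists_jData (P.v i).T_two (P.v i).jc
  exact ⟨CfsgLib.Techniques.abelian_mono (JData.omegaCenter_elementary _).1 hd.W_le_omega,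
    fun u hu => (JData.omegaCenter_elementary _).2 u (hd.W_le_omega hu)⟩

theorem L_ne (i : Bool) : L i ≠ L (!i) := by
  cases i
  · exact P.ne.symm
  · exact P.ne

theorem core_bot : pCoreOf 2 (K true ⊔ K false ⊔ T) = ⊥ := by
  by_contra hne
  set H := K true ⊔ K false ⊔ T with hH
  obtain ⟨X, hX, hle⟩ := exists_maximalTwoLocal_ge
    (⟨_, pCoreOf_two H, hne, rfl⟩ : IsTwoLocal (normalizer (pCoreOf 2 H : Set G)))
  have hHX : H ≤ X := (le_normalizer_pCoreOf_self H).trans hle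
  have hi : ∀ i, K i ⊔ thompsonSubgroupOf 2 T ≤ X := fun i => by
    refine sup_le ?_ (((thompsonSubgroupOf_le T).trans le_sup_right).trans hHX)
    cases i
    · exact (le_sup_right.trans le_sup_left).trans hHX
    · exact (le_sup_left.trans le_sup_left).trans hHX
  exact P.ne (((P.v true).uq.2.2 X hX (hi true)).symm.trans ((P.v false).uq.2.2 X hX (hi false)))

theorem vP_le_normalizer_W (i : Bool) : vP T K i ≤ normalizer (wOf (K i) : Set G) := (P.v i).P_le_normalizer_W

theorem vP_le_normalizer_Q (i : Bool) : vP T K i ≤ normalizer (wKer T (K i) : Set G) :=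
  sup_le (P.v i).K_le_normalizer_wKer (P.v i).T_le_normalizer_wKer

theorem vW_mul {i : Bool} {g p : G} (hp : p ∈ vP T K i) : vW K (i, g * p) = vW K (i, g) :=
  map_conj_mul_of_mem (P.vP_le_normalizer_W i hp)

theorem vQ_mul {i : Bool} {g p : G} (hp : p ∈ vP T K i) : vQ T K (i, g * p) = vQ T K (i, g) :=
  map_conj_mul_of_mem (P.vP_le_normalizer_Q i hp)

/-- The common edge of two adjacent vertices. -/
theorem exists_edge {m c : Bool × G} (h : vAdj T K m c) : ∃ e : G,
    vW K m = vW K (!c.1, e) ∧ vQ T K m = vQ T K (!c.1, e) ∧ vW K c = vW K (c.1, e) ∧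
      vQ T K c = vQ T K (c.1, e) ∧ ∃ p ∈ vP T K c.1, e = c.2 * p := by
  obtain ⟨h1, p, hp, q, hq, he⟩ := h
  have hm : m.1 = !c.1 := by rw [h1]; simp
  refine ⟨c.2 * q, ?_, ?_, (P.vW_mul hq).symm, (P.vQ_mul hq).symm, q, hq, rfl⟩
  · rw [← hm, ← he]; exact (P.vW_mul hp).symm
  · rw [← hm, ← he]; exact (P.vQ_mul hp).symm

theorem vW_le_vQ_self (a : Bool × G) : vW K a ≤ vQ T K a :=
  map_mono (le_inf (P.W_le_T a.1) (P.W_comm a.1))

theorem vQ_le_edge (i : Bool) (e : G) : vQ T K (i, e) ≤ T.map (MulAut.conj e).toMonoidHom :=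
  map_mono inf_le_left

theorem mem_vQ_of_edge {i : Bool} {e u : G} (hu : u ∈ T.map (MulAut.conj e).toMonoidHom)
    (hc : u ∈ centralizer (vW K (i, e) : Set G)) : u ∈ vQ T K (i, e) := by
  show u ∈ (wKer T (K i)).map (MulAut.conj e).toMonoidHom
  rw [mem_map_conj_iff'] at hu ⊢
  refine mem_inf.2 ⟨hu, mem_centralizer_iff.2 fun w hw => ?_⟩
  have h := mem_centralizer_iff.1 hc (e * w * e⁻¹) ⟨w, hw, rfl⟩
  calc w * (e⁻¹ * u * e) = e⁻¹ * ((e * w * e⁻¹) * u) * e := by group
    _ = e⁻¹ * (u * (e * w * e⁻¹)) * e := by rw [h]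
    _ = e⁻¹ * u * e * w := by group

theorem le_vQ_of_lt {b : ℕ} (hmin : ∀ n, n < b → ∀ a c, VPath T K n a c → vW K a ≤ centralizer (vW K c : Set G))
    {n : ℕ} (hn : n < b) {a c : Bool × G} (h : VPath T K n a c) : vW K a ≤ vQ T K c := by
  induction h with
  | refl a => exact P.vW_le_vQ_self a
  | @tail n a m c hp hadj ih =>
    have hm := ih (by omega)
    obtain ⟨e, -, h2, h3, h4, -⟩ := P.exists_edge hadj
    intro u hu
    rw [h4]
    refine P.mem_vQ_of_edge (P.vQ_le_edge _ _ (h2 ▸ hm hu)) ?_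
    rw [← h3]
    exact hmin _ hn a c (.tail hp hadj) hu

/-- The fixed point of an edge in a four-group. -/
theorem eq_point {i : Bool} {e u d z : G} (hz : z ∈ wOf (K i))
    (huT : u ∈ T.map (MulAut.conj e).toMonoidHom) (hu : u ∉ centralizer (vW K (i, e) : Set G))
    (hd : d ∈ vW K (i, e)) (hd1 : d ≠ 1) (hud : u * d = d * u) (hz1 : z ≠ 1) (hzJ : z ∈ jCenter T) :
    d = e * z * e⁻¹ := by
  obtain ⟨z', hzW, hz1', hz'J, huniq, hfix, hmove⟩ := (P.v i).exists_point
  have hzz : z = z' := (huniq z hz hzJ).resolve_left hz1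
  subst hzz
  rw [mem_map_conj_iff'] at huT
  have hd' : e⁻¹ * d * e ∈ wOf (K i) := mem_map_conj_iff'.1 hd
  have hnc : e⁻¹ * u * e ∉ centralizer (wOf (K i) : Set G) := by
    intro hc
    refine hu (mem_centralizer_iff.2 ?_)
    rintro _ ⟨w, hw, rfl⟩
    show e * w * e⁻¹ * u = u * (e * w * e⁻¹)
    have h := mem_centralizer_iff.1 hc w hw
    calc e * w * e⁻¹ * u = e * (w * (e⁻¹ * u * e)) * e⁻¹ := by group
      _ = e * ((e⁻¹ * u * e) * w) * e⁻¹ := by rw [h]
      _ = u * (e * w * e⁻¹) := by group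
  have h2 : (e⁻¹ * u * e) * (e⁻¹ * d * e) = (e⁻¹ * d * e) * (e⁻¹ * u * e) := by
    calc (e⁻¹ * u * e) * (e⁻¹ * d * e) = e⁻¹ * (u * d) * e := by group
      _ = e⁻¹ * (d * u) * e := by rw [hud]
      _ = _ := by group
  rcases hmove _ huT hnc _ hd' h2 with h | h
  · refine absurd ?_ hd1
    calc d = e * (e⁻¹ * d * e) * e⁻¹ := by group
      _ = 1 := by rw [h]; group
  · calc d = e * (e⁻¹ * d * e) * e⁻¹ := by group
      _ = e * z * e⁻¹ := by rw [h]

/-- A critical pair: each four-group lies in an edge of the other and their commutator is both fixed points. -/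
theorem critical {b : ℕ} (hmin : ∀ n, n < b + 1 → ∀ a c, VPath T K n a c → vW K a ≤ centralizer (vW K c : Set G))
    {a c : Bool × G} (h : VPath T K (b + 1) a c) :
    ∃ m e, VPath T K b a m ∧ vW K m = vW K (!c.1, e) ∧ vQ T K m = vQ T K (!c.1, e) ∧ vW K c = vW K (c.1, e) ∧
      (∃ p ∈ vP T K c.1, e = c.2 * p) ∧ vW K a ≤ T.map (MulAut.conj e).toMonoidHom := by
  cases h with
  | @tail n a m c hp hadj =>
    obtain ⟨e, h1, h2, h3, -, h5⟩ := P.exists_edge hadj
    exact ⟨m, e, hp, h1, h2, h3, h5, fun u hu =>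
      P.vQ_le_edge _ _ (h2 ▸ P.le_vQ_of_lt hmin (Nat.lt_succ_self b) hp hu)⟩

theorem commutator_point {a c : Bool × G} {e e' : G} (hc : vW K c = vW K (c.1, e)) (ha : vW K a = vW K (a.1, e'))
    (hae : vW K a ≤ T.map (MulAut.conj e).toMonoidHom) (hce : vW K c ≤ T.map (MulAut.conj e').toMonoidHom)
    (hnc : ¬ vW K a ≤ centralizer (vW K c : Set G)) {za zc : G} (hza : za ∈ wOf (K a.1)) (hza1 : za ≠ 1)
    (hzaJ : za ∈ jCenter T) (hzc : zc ∈ wOf (K c.1)) (hzc1 : zc ≠ 1) (hzcJ : zc ∈ jCenter T) :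
    e' * za * e'⁻¹ = e * zc * e⁻¹ ∧ e' * za * e'⁻¹ ∈ vW K a ∧
      ∀ u ∈ vW K a, ∀ w ∈ vW K c, u * w * u⁻¹ * w⁻¹ = 1 ∨ u * w * u⁻¹ * w⁻¹ = e' * za * e'⁻¹ := by
  have hnorm : ∀ (i : Bool) (e u : G), u ∈ T.map (MulAut.conj e).toMonoidHom →
      ∀ d ∈ vW K (i, e), u * d * u⁻¹ ∈ vW K (i, e) := by
    intro i e u hu d hd
    show u * d * u⁻¹ ∈ (wOf (K i)).map (MulAut.conj e).toMonoidHom
    rw [mem_map_conj_iff'] at hu ⊢
    have hd' : e⁻¹ * d * e ∈ wOf (K i) := mem_map_conj_iff'.1 hd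
    have := (mem_normalizer_iff.1 ((P.v i).T_le_normalizer_W hu) _).1 hd'
    convert this using 1
    group
  have hab : ∀ (a : Bool × G), ∀ u ∈ vW K a, ∀ w ∈ vW K a, u * w = w * u := by
    rintro a _ ⟨u, hu, rfl⟩ _ ⟨w, hw, rfl⟩
    rw [← map_mul, ← map_mul, CfsgLib.PLocal.comm_of_mem (P.W_elementary a.1).1 hu hw]
  have hcomA : ∀ u ∈ vW K a, ∀ w ∈ vW K c, u * w * u⁻¹ * w⁻¹ ∈ vW K a ∧ u * w * u⁻¹ * w⁻¹ ∈ vW K c := by
    intro u hu w hw
    constructor
    · rw [show u * w * u⁻¹ * w⁻¹ = u * (w * u⁻¹ * w⁻¹) by group]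
      refine mul_mem hu ?_
      rw [ha]
      exact hnorm _ _ _ (hce hw) _ (ha ▸ inv_mem hu)
    · refine mul_mem ?_ (inv_mem hw)
      rw [hc]
      exact hnorm _ _ _ (hae hu) _ (hc ▸ hw)
  have hpA : ∀ u ∈ vW K a, ∀ w ∈ vW K c, u * w * u⁻¹ * w⁻¹ ≠ 1 →
      u * w * u⁻¹ * w⁻¹ = e' * za * e'⁻¹ ∧ u * w * u⁻¹ * w⁻¹ = e * zc * e⁻¹ := by
    intro u hu w hw hd1
    obtain ⟨hdA, hdC⟩ := hcomA u hu w hw
    refine ⟨P.eq_point hza (hce hw) ?_ (ha ▸ hdA) hd1 (hab c w hw _ hdC) hza1 hzaJ,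
      P.eq_point hzc (hae hu) ?_ (hc ▸ hdC) hd1 (hab a u hu _ hdA) hzc1 hzcJ⟩
    · intro hwc
      refine hd1 ?_
      rw [mem_centralizer_iff.1 hwc u (ha ▸ hu)]
      group
    · intro huc
      refine hd1 ?_
      rw [← mem_centralizer_iff.1 huc w (hc ▸ hw)]
      group
  obtain ⟨u, hu, hunc⟩ := SetLike.not_le_iff_exists.1 hnc
  obtain ⟨w, hw, hwu⟩ : ∃ w ∈ vW K c, u * w * u⁻¹ * w⁻¹ ≠ 1 := by
    by_contra h0
    push Not at h0
    exact hunc (mem_centralizer_iff.2 fun w hw => (mul_inv_eq_iff_eq_mul.1 (mul_inv_eq_one.1 (h0 w hw))).symm)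
  obtain ⟨h1, h2⟩ := hpA u hu w hw hwu
  refine ⟨h1.symm.trans h2, h1 ▸ (hcomA u hu w hw).1, fun u' hu' w' hw' => ?_⟩
  by_cases h : u' * w' * u'⁻¹ * w'⁻¹ = 1
  · exact Or.inl h
  · exact Or.inr (hpA u' hu' w' hw' h).1

/-- Some chain has noncommuting ends. -/
theorem exists_noncommuting :
    ∃ n a c, VPath T K n a c ∧ ¬ vW K a ≤ centralizer (vW K c : Set G) := by
  by_contra hall
  push Not at hall
  set H := K true ⊔ K false ⊔ T with hH
  have hreach : ∀ h ∈ H, ∀ j, ∃ n, VPath T K n (true, 1) (j, h) := by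
    intro h hh
    have hH' : H = closure ((K true : Set G) ∪ (K false : Set G) ∪ (T : Set G)) := by
      rw [hH, Subgroup.closure_union, Subgroup.closure_union, closure_eq, closure_eq, closure_eq]
    rw [hH'] at hh
    have hstep : ∀ (g p : G) (i : Bool), p ∈ vP T K i →
        (∀ j, ∃ n, VPath T K n (true, 1) (j, g)) → ∀ j, ∃ n, VPath T K n (true, 1) (j, g * p) := by
      intro g p i hp ih
      obtain ⟨n, hn⟩ := ih i
      have h1 : vAdj T K (i, g) (!i, g * p) := ⟨rfl, p, hp, 1, one_mem _, (mul_one (g * p)).symm⟩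
      have h2 : vAdj T K (!i, g * p) (i, g * p) := ⟨(Bool.not_not i).symm, 1, one_mem _, 1, one_mem _, rfl⟩
      intro j
      by_cases hji : j = i
      · subst hji; exact ⟨n + 1 + 1, .tail (.tail hn h1) h2⟩
      · have : j = !i := by revert hji; cases i <;> cases j <;> simp
        subst this
        exact ⟨n + 1, .tail hn h1⟩
    have hmem : ∀ p ∈ (K true : Set G) ∪ (K false : Set G) ∪ (T : Set G), ∃ i, p ∈ vP T K i := by
      rintro p ((hp | hp) | hp)
      · exact ⟨true, mem_sup_left hp⟩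
      · exact ⟨false, mem_sup_left hp⟩
      · exact ⟨true, mem_sup_right hp⟩
    induction hh using closure_induction_right with
    | one =>
      intro j
      cases j
      · exact ⟨1, .tail (.refl _) ⟨rfl, 1, one_mem _, 1, one_mem _, rfl⟩⟩
      · exact ⟨0, .refl _⟩
    | mul_right x hx p hp ih =>
      obtain ⟨i, hi⟩ := hmem p hp
      exact hstep x p i hi ih
    | mul_inv_cancel x hx p hp ih =>
      obtain ⟨i, hi⟩ := hmem p hp
      exact hstep x p⁻¹ i (inv_mem hi) ih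
  have hcomm : ∀ h ∈ H, ∀ h' ∈ H, vW K (true, h) ≤ centralizer (vW K (true, h') : Set G) := by
    intro h hh h' hh'
    obtain ⟨n, hn⟩ := hreach h hh true
    obtain ⟨k, hk⟩ := hreach h' hh' true
    exact hall _ _ _ (hn.symm.trans hk)
  set U := ⨆ h : H, vW K (true, (h : G)) with hU
  have hW2 : IsPGroup 2 (wOf (K true)) := fun u => ⟨1, Subtype.ext (by simpa using (P.W_elementary true).2 u u.2)⟩
  have hUab : IsMulCommutative U := by
    refine le_centralizer_iff_isMulCommutative.1 (iSup_le fun h => ?_)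
    rw [le_centralizer_iff]
    exact iSup_le fun h' => hcomm h' h'.2 h h.2
  have hU2 : IsPGroup 2 U := by
    have hel : ∀ x ∈ U, x ^ 2 = 1 := by
      intro x hx
      suffices x ∈ U ∧ x ^ 2 = 1 from this.2
      refine Subgroup.iSup_induction _ (C := fun x => x ∈ U ∧ x ^ 2 = 1) hx (fun h y hy => ?_) ⟨one_mem _, one_pow _⟩
        (fun y y' hy hy' => ⟨mul_mem hy.1 hy'.1, by
          rw [Commute.mul_pow (CfsgLib.PLocal.comm_of_mem hUab hy.1 hy'.1), hy.2, hy'.2, one_mul]⟩)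
      refine ⟨le_iSup (fun h : H => vW K (true, (h : G))) h hy, ?_⟩
      obtain ⟨w, hw, rfl⟩ := hy
      rw [← map_pow, (P.W_elementary true).2 w hw, map_one]
    exact fun u => ⟨1, Subtype.ext (by simpa using hel u u.2)⟩
  have hUH : U ≤ H := iSup_le fun h => by
    rintro _ ⟨w, hw, rfl⟩
    exact mul_mem (mul_mem h.2 (mem_sup_left (mem_sup_left (wOf_le_self _ hw)))) (inv_mem h.2)
  have hHU : H ≤ normalizer (U : Set G) := by
    intro g hg
    refine CfsgLib.LocalEvenB.mem_normalizer_of_forall fun x hx => ?_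
    have hle : U ≤ U.comap (MulAut.conj g).toMonoidHom := by
      refine iSup_le fun h => ?_
      rintro _ ⟨w, hw, rfl⟩
      refine le_iSup (fun h : H => vW K (true, (h : G))) ⟨g * h, mul_mem hg h.2⟩ ⟨w, hw, ?_⟩
      show g * (h : G) * w * (g * (h : G))⁻¹ = g * ((h : G) * w * (h : G)⁻¹) * g⁻¹
      group
    exact hle hx
  have hUbot : U ≤ pCoreOf 2 H := by
    intro u hu
    haveI : (U.comap H.subtype).Normal := (normal_subgroupOf_iff_le_normalizer hUH).2 hHU
    exact ⟨⟨u, hUH hu⟩, CfsgLib.Core.le_pCore (p := 2) (hU2.comap_subtype (K := H)) (mem_comap.2 hu), rfl⟩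
  obtain ⟨z, hz, hz1, -⟩ := (P.v true).exists_point
  have := hUbot (le_iSup (fun h : H => vW K (true, (h : G))) 1 ⟨z, hz, rfl⟩)
  rw [hH, P.core_bot, mem_bot] at this
  exact hz1 (by simpa using this)

end VtxPair

end CfsgLib.LocalEvenB.JOver
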