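import Mathlib
import Cfsg.Agent.Lib.LocalEvenB.JOver.CompProps

/-!
# Recognition of the symmetric group on four letters
-/

set_option autoImplicit false
set_option linter.all false

namespace CfsgLib.LocalEvenB.JOver

open Subgroup
open scoped Pointwise

variable {G : Type*} [Group G] [Finite G]

theorem exists_mem_zpowers_prod_two {x a : G} (ha : a * a = 1) (hax : a * x * a⁻¹ = x⁻¹) {c : G}
    (hc : c ∈ zpowers x ⊔ zpowers a) : ∃ y ∈ zpowers x, c = y ∨ c = y * a := by
  have hn : zpowers a ≤ normalizer (zpowers x : Set G) := by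
    rw [zpowers_le]
    refine CfsgLib.LocalEvenB.mem_normalizer_of_forall ?_
    rintro _ ⟨k, rfl⟩
    rw [← conj_zpow, hax]
    exact zpow_mem (inv_mem (mem_zpowers x)) k
  have hc' : c ∈ (zpowers x : Set G) * (zpowers a : Set G) := by
    rw [← coe_mul_of_right_le_normalizer_left (zpowers x) (zpowers a) hn]
    exact hc
  obtain ⟨y, hy, _, ⟨k, rfl⟩, rfl⟩ := hc'
  refine ⟨y, hy, ?_⟩
  have h2 : a ^ (2 : ℤ) = 1 := by rw [zpow_two, ha]
  rcases Int.even_or_odd k with ⟨m, hm⟩ | ⟨m, hm⟩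
  · left
    show y * a ^ k = y
    rw [hm, ← two_mul, zpow_mul, h2, one_zpow, mul_one]
  · right
    show y * a ^ k = y * a
    rw [hm, zpow_add, zpow_mul, h2, one_zpow, one_mul, zpow_one]

/-- A group with a self-centralising four-group, a central part and a dihedral complement. -/
theorem symmetric_four_of {L W H : Subgroup G} {x a : G} (hWL : W ≤ L) (hHL : H ≤ L) (hW4 : Nat.card W = 4)
    (hWn : L ≤ normalizer (W : Set G)) (hHc : L ≤ centralizer (H : Set G)) (hWH : W ⊓ H = ⊥)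
    (hC : L ⊓ centralizer (W : Set G) ≤ W ⊔ H) (hcard : Nat.card L = 24 * Nat.card H)
    (hWc : W ≤ centralizer (W : Set G))
    (hxL : x ∈ L) (hx3 : orderOf x = 3) (haL : a ∈ L) (ha : a * a = 1) (hax : a * x * a⁻¹ = x⁻¹)
    (hxW : x ∉ centralizer (W : Set G)) :
    (Nat.card H = 1 → Nonempty (↥L ≃* Equiv.Perm (Fin 4))) ∧
      (Nat.card H = 2 → Nonempty (↥L ≃* Equiv.Perm (Fin 4) × Multiplicative (ZMod 2))) := by
  classical
  have hHW : H ≤ centralizer (W : Set G) :=
    le_centralizer_iff.1 ((hWL.trans hHc))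
  -- the complement of order six
  set C := zpowers x ⊔ zpowers a with hCdef
  have hCL : C ≤ L := sup_le (zpowers_le.2 hxL) (zpowers_le.2 haL)
  have hZ : L ⊓ centralizer (W : Set G) = W ⊔ H :=
    le_antisymm hC (sup_le (le_inf hWL hWc) (le_inf hHL hHW))
  have hnc : ∀ l ∈ L, ∀ u ∈ centralizer (W : Set G), l * u * l⁻¹ ∈ centralizer (W : Set G) := fun l hl u hu =>
    (mem_normalizer_iff.1 (CfsgLib.Signalizer.normalizer_le_normalizer_centralizer_set _ (hWn hl)) u).1 hu
  have hxpow : ∀ y ∈ zpowers x, y ∈ centralizer (W : Set G) → y = 1 := by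
    intro y hy hyc
    by_contra hy1
    have hle : zpowers y ≤ zpowers x := zpowers_le.2 hy
    have hd := orderOf_dvd_of_mem_zpowers hy
    rw [hx3] at hd
    rcases (Nat.dvd_prime Nat.prime_three).1 hd with h | h
    · exact hy1 (orderOf_eq_one_iff.1 h)
    · have he := eq_of_le_of_card_ge hle (by rw [Nat.card_zpowers, Nat.card_zpowers, h, hx3])
      have hle' : zpowers y ≤ centralizer (W : Set G) := zpowers_le.2 hyc
      exact hxW (hle' (by rw [he]; exact mem_zpowers x))
  have hCC : ∀ c ∈ C, c ∈ centralizer (W : Set G) → c = 1 := by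
    intro c hc hcc
    obtain ⟨y, hy, hc'⟩ := exists_mem_zpowers_prod_two ha hax hc
    rcases hc' with rfl | rfl
    · exact hxpow _ hy hcc
    · exfalso
      have h1 := hnc x hxL _ hcc
      obtain ⟨k, rfl⟩ := hy
      have e : x * (x ^ k * a) * x⁻¹ * (x ^ k * a)⁻¹ = x * x := by
        have hxa : a * x⁻¹ * a⁻¹ = x := by rw [← conj_inv, hax, inv_inv]
        calc x * (x ^ k * a) * x⁻¹ * (x ^ k * a)⁻¹ = x * x ^ k * (a * x⁻¹ * a⁻¹) * (x ^ k)⁻¹ := by group
          _ = x * x ^ k * x * (x ^ k)⁻¹ := by rw [hxa]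
          _ = x * x := by
            have hc1 : x ^ k * x = x * x ^ k := ((Commute.refl x).zpow_left k).eq
            rw [mul_assoc x (x ^ k) x, hc1, ← mul_assoc, mul_inv_cancel_right]
      have h2 : x * x ∈ centralizer (W : Set G) := e ▸ mul_mem h1 (inv_mem hcc)
      have h3 : x * x * x = 1 := by rw [← pow_three', ← hx3]; exact pow_orderOf_eq_one x
      have h4 : x⁻¹ = x * x := inv_eq_of_mul_eq_one_left h3
      rw [← h4] at h2
      exact hxW ((inv_mem_iff (x := x)).1 h2)
  have hCW : W ⊓ C = ⊥ := (eq_bot_iff_forall _).2 fun c hc => hCC c (mem_inf.1 hc).2 (hWc (mem_inf.1 hc).1)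
  have hC6 : Nat.card C = 6 := by
    have hn : zpowers a ≤ normalizer (zpowers x : Set G) := by
      rw [zpowers_le]
      refine CfsgLib.LocalEvenB.mem_normalizer_of_forall ?_
      rintro _ ⟨k, rfl⟩
      rw [← conj_zpow, hax]
      exact zpow_mem (inv_mem (mem_zpowers x)) k
    have h := CfsgLib.PLocal.card_sup_mul_card_inf (zpowers a) (zpowers x) hn
    have hb : zpowers a ⊓ zpowers x = ⊥ := by
      refine (eq_bot_iff_forall _).2 fun u hu => ?_
      have d1 := orderOf_dvd_of_mem_zpowers (mem_inf.1 hu).1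
      have d2 := orderOf_dvd_of_mem_zpowers (mem_inf.1 hu).2
      rw [hx3] at d2
      have d3 : orderOf a ∣ 2 := orderOf_dvd_of_pow_eq_one (by rw [pow_two, ha])
      exact orderOf_eq_one_iff.1 (Nat.eq_one_of_dvd_coprimes (by norm_num : Nat.Coprime 2 3) (d1.trans d3) d2)
    have hoa : orderOf a = 2 := orderOf_eq_prime (p := 2) (by rw [pow_two, ha]) (by
      rintro rfl
      rw [one_mul, inv_one, mul_one] at hax
      have : x * x = 1 := by
        nth_rewrite 1 [hax]
        exact inv_mul_cancel x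
      have hd := orderOf_dvd_of_pow_eq_one (by rw [pow_two, this] : x ^ 2 = 1)
      rw [hx3] at hd
      norm_num at hd)
    rw [hb, card_bot, mul_one, Nat.card_zpowers, Nat.card_zpowers, hoa, hx3] at h
    rw [hCdef, sup_comm]
    omega
  set L₀ := W ⊔ C with hL₀
  have hL₀L : L₀ ≤ L := sup_le hWL hCL
  have h24 : Nat.card L₀ = 24 := by
    have h := CfsgLib.PLocal.card_sup_mul_card_inf C W (hCL.trans hWn)
    rw [inf_comm, hCW, card_bot, mul_one, hC6, hW4] at h
    rw [hL₀, sup_comm]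
    omega
  -- the action on the cosets of the complement
  set C' := C.subgroupOf L₀ with hC'
  have hidx : C'.index = 4 := by
    have h := C'.card_mul_index
    rw [Nat.card_congr (subgroupOfEquivOfLe (le_sup_right : C ≤ L₀)).toEquiv, hC6, h24] at h
    omega
  have hinj : Function.Injective (MulAction.toPermHom ↥L₀ (↥L₀ ⧸ C')) := by
    rw [← MonoidHom.ker_eq_bot_iff, ← Subgroup.normalCore_eq_ker, eq_bot_iff_forall]
    intro c hc
    have hcC : ∀ g : ↥L₀, ((g * c * g⁻¹ : ↥L₀) : G) ∈ C := fun g => mem_subgroupOf.1 (hc g)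
    have hc1 : (c : G) ∈ C := by simpa using hcC 1
    refine Subtype.ext (hCC _ hc1 (mem_centralizer_iff.2 fun w hw => ?_))
    have h1 : w * (c : G) * w⁻¹ * (c : G)⁻¹ ∈ W ⊓ C := by
      refine mem_inf.2 ⟨?_, mul_mem (hcC ⟨w, mem_sup_left hw⟩) (inv_mem hc1)⟩
      rw [show w * (c : G) * w⁻¹ * (c : G)⁻¹ = w * ((c : G) * w⁻¹ * (c : G)⁻¹) by group]
      exact mul_mem hw ((mem_normalizer_iff.1 (hWn (hL₀L c.2)) _).1 (inv_mem hw))
    rw [hCW, mem_bot] at h1
    exact mul_inv_eq_iff_eq_mul.1 (mul_inv_eq_one.1 h1)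
  have hq4 : Nat.card (↥L₀ ⧸ C') = 4 := hidx
  have hbij : Function.Bijective (MulAction.toPermHom ↥L₀ (↥L₀ ⧸ C')) := by
    refine (Nat.bijective_iff_injective_and_card _).2 ⟨hinj, ?_⟩
    rw [h24, Nat.card_perm, hq4]
    rfl
  have e₀ : ↥L₀ ≃* Equiv.Perm (Fin 4) :=
    (MulEquiv.ofBijective _ hbij).trans (Equiv.permCongrHom (Finite.equivFinOfCardEq hq4))
  -- the direct product
  have hb : ∀ u ∈ L₀, u ∈ H → u = 1 := by
    intro u hu huH
    have hu' : u ∈ (W : Set G) * (C : Set G) := by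
      rw [← coe_mul_of_right_le_normalizer_left W C (hCL.trans hWn)]
      exact hu
    obtain ⟨w, hw, c, hc, rfl⟩ := hu'
    have : c = 1 := hCC c hc (by simpa using mul_mem (inv_mem (hWc hw)) (hHW huH))
    subst this
    simp only [mul_one] at huH ⊢
    exact mem_bot.1 (hWH ▸ mem_inf.2 ⟨hw, huH⟩)
  let f : ↥L₀ × ↥H →* ↥L :=
    { toFun := fun p => ⟨(p.1 : G) * p.2, mul_mem (hL₀L p.1.2) (hHL p.2.2)⟩
      map_one' := Subtype.ext (by simp)
      map_mul' := fun p q => Subtype.ext (by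
        show (p.1 : G) * q.1 * ((p.2 : G) * q.2) = (p.1 : G) * p.2 * ((q.1 : G) * q.2)
        have h := mem_centralizer_iff.1 (hHc (hL₀L q.1.2)) (p.2 : G) p.2.2
        rw [mul_assoc (p.1 : G) (q.1 : G), ← mul_assoc (q.1 : G), ← h]
        simp only [mul_assoc]) }
  have hfi : Function.Injective f := by
    rw [← MonoidHom.ker_eq_bot_iff, eq_bot_iff_forall]
    rintro ⟨u, v⟩ h
    have h' : (u : G) * v = 1 := congrArg Subtype.val h
    have hu : (u : G) = 1 := hb u u.2 (by rw [eq_inv_of_mul_eq_one_left h']; exact inv_mem v.2)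
    rw [hu, one_mul] at h'
    exact Prod.ext (Subtype.ext hu) (Subtype.ext h')
  have hfb : Function.Bijective f := by
    refine (Nat.bijective_iff_injective_and_card _).2 ⟨hfi, ?_⟩
    rw [Nat.card_prod, h24, hcard]
  refine ⟨fun h1 => ?_, fun h2 => ?_⟩
  · have hLL : L₀ = L := eq_of_le_of_card_ge hL₀L (by rw [h24, hcard, h1])
    exact hLL ▸ ⟨e₀⟩
  · haveI : Fact (Nat.Prime 2) := ⟨Nat.prime_two⟩
    refine ⟨(MulEquiv.ofBijective f hfb).symm.trans (MulEquiv.prodCongr e₀ (mulEquivOfPrimeCardEq h2 ?_))⟩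
    simp

end CfsgLib.LocalEvenB.JOver
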