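import Cfsg.Agent.Lib.LocalEvenB.JOver.SylowPair
import Cfsg.Agent.Lib.LocalEvenB.JOver.SmallIso

/-!
# The shape of two noncommuting vertices
-/

set_option autoImplicit false
set_option linter.all false

namespace CfsgLib.LocalEvenB.JOver

open Subgroup Cfsg
open scoped commutatorElement Pointwise

variable {G : Type*} [Group G] [Finite G] {T A B LA LB : Subgroup G}

theorem comm_of_sq {Q : Subgroup G} (h : ∀ q ∈ Q, q * q = 1) {p q : G} (hp : p ∈ Q) (hq : q ∈ Q) :
    p * q = q * p := by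
  have hpq := h _ (mul_mem hp hq)
  have h1 : p⁻¹ = p := inv_eq_of_mul_eq_one_left (h p hp)
  have h2 : q⁻¹ = q := inv_eq_of_mul_eq_one_left (h q hq)
  calc p * q = (p * q)⁻¹ := (inv_eq_of_mul_eq_one_left hpq).symm
    _ = q * p := by rw [mul_inv_rev, h1, h2]

/-- Two vertices with noncommuting four-groups and different overgroups. -/
structure NcPair (T A B LA LB : Subgroup G) : Prop where
  va : Vtx T A LA
  vb : Vtx T B LB
  ne : LA ≠ LB
  nc : ¬ wOf A ≤ centralizer (wOf B : Set G)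

theorem NcPair.symm (N : NcPair T A B LA LB) : NcPair T B A LB LA :=
  ⟨N.vb, N.va, N.ne.symm, fun h => N.nc (le_centralizer_iff.1 h)⟩

/-- A common point gives noncommuting four-groups. -/
theorem ncPair_of_common {K L : Bool → Subgroup G} (P : VtxPair T K L) {z : G} (hz : ∀ i, IsPoint T (K i) z) :
    NcPair T (K true) (K false) (L true) (L false) :=
  ⟨P.v true, P.v false, P.ne, not_commute_of_common P hz⟩

namespace NcPair

variable (N : NcPair T A B LA LB)
include N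

theorem W_le_ker : wOf A ≤ wKer T A := le_inf (W_le_T_of_vtx N.va) (W_self_comm N.va)

theorem exists_moving : ∃ w ∈ wOf A, w ∉ centralizer (wOf B : Set G) := SetLike.not_le_iff_exists.1 N.nc

theorem decomp {q : G} (hq : q ∈ wKer T A) :
    ∃ d ∈ wKer T A ⊓ wKer T B, ∃ w ∈ wOf A, q = d * w := by
  by_cases hqc : q ∈ centralizer (wOf B : Set G)
  · exact ⟨q, mem_inf.2 ⟨hq, mem_inf.2 ⟨(mem_inf.1 hq).1, hqc⟩⟩, 1, one_mem _, (mul_one q).symm⟩
  obtain ⟨w, hw, hwc⟩ := N.exists_moving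
  refine ⟨q * w, mem_inf.2 ⟨mul_mem hq (N.W_le_ker hw), mem_inf.2 ⟨mul_mem (mem_inf.1 hq).1 (W_le_T_of_vtx N.va hw),
    N.vb.mul_centralizes (mem_inf.1 hq).1 (W_le_T_of_vtx N.va hw) hqc hwc⟩⟩, w, hw, ?_⟩
  rw [mul_assoc, N.va.W_sq w hw, mul_one]

theorem T_eq_sup : wKer T A ⊔ wKer T B = T := by
  refine le_antisymm (sup_le inf_le_left inf_le_left) fun t ht => ?_
  by_cases htc : t ∈ centralizer (wOf A : Set G)
  · exact mem_sup_left (mem_inf.2 ⟨ht, htc⟩)
  obtain ⟨w, hw, hwc⟩ := N.symm.exists_moving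
  have h1 : t * w ∈ wKer T A := mem_inf.2
    ⟨mul_mem ht (W_le_T_of_vtx N.vb hw), N.va.mul_centralizes ht (W_le_T_of_vtx N.vb hw) htc hwc⟩
  have : t * w * w ∈ wKer T A ⊔ wKer T B := mul_mem (mem_sup_left h1) (mem_sup_right (N.symm.W_le_ker hw))
  rwa [mul_assoc, N.vb.W_sq w hw, mul_one] at this

/-- The kernels are elementary. -/
theorem ker_sq : ∀ q ∈ wKer T A, q * q = 1 := by
  set X := Subgroup.closure ((fun d => d * d) '' ((wKer T A ⊓ wKer T B : Subgroup G) : Set G)) with hX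
  have hsq : ∀ {A B LA LB : Subgroup G}, NcPair T A B LA LB → ∀ q ∈ wKer T A,
      q * q ∈ Subgroup.closure ((fun d => d * d) '' ((wKer T A ⊓ wKer T B : Subgroup G) : Set G)) := by
    intro A B LA LB N q hq
    obtain ⟨d, hd, w, hw, rfl⟩ := N.decomp hq
    refine Subgroup.subset_closure ⟨d, hd, ?_⟩
    have h := mem_centralizer_iff.1 (mem_inf.1 (mem_inf.1 hd).1).2 w hw
    show d * d = d * w * (d * w)
    calc d * d = d * d * (w * w) := by rw [N.va.W_sq w hw, mul_one]
      _ = d * (d * w) * w := by group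
      _ = d * (w * d) * w := by rw [h]
      _ = _ := by group
  have hXT : X ≤ T := (Subgroup.closure_le _).2 (by
    rintro _ ⟨d, hd, rfl⟩
    exact mul_mem (mem_inf.1 (mem_inf.1 hd).1).1 (mem_inf.1 (mem_inf.1 hd).1).1)
  have hn : A ⊔ B ⊔ T ≤ normalizer (X : Set G) := by
    intro g hg
    refine CfsgLib.LocalEvenB.mem_normalizer_of_forall ?_
    have key : ∀ g ∈ (A : Set G) ∪ B ∪ T, X ≤ X.comap (MulAut.conj g).toMonoidHom := by
      intro g hg
      refine (Subgroup.closure_le _).2 ?_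
      rintro _ ⟨d, hd, rfl⟩
      show g * (d * d) * g⁻¹ ∈ X
      rw [show g * (d * d) * g⁻¹ = (g * d * g⁻¹) * (g * d * g⁻¹) by group]
      rcases hg with (hg | hg) | hg
      · exact hsq N _ (N.va.conj_ker hg (mem_inf.1 hd).1)
      · rw [hX, inf_comm]
        exact hsq N.symm _ (N.vb.conj_ker hg (mem_inf.1 hd).2)
      · exact hsq N _ ((mem_normalizer_iff.1 (N.va.T_le_normalizer_wKer hg) d).1 (mem_inf.1 hd).1)
    intro u hu
    have hle : A ⊔ B ⊔ T ≤ normalizer (X : Set G) := by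
      refine sup_le (sup_le ?_ ?_) ?_ <;> intro g hg <;>
        refine CfsgLib.LocalEvenB.mem_normalizer_of_forall fun u hu => ?_
      · exact key g (Or.inl (Or.inl hg)) hu
      · exact key g (Or.inl (Or.inr hg)) hu
      · exact key g (Or.inr hg) hu
    exact (mem_normalizer_iff.1 (hle hg) u).1 hu
  have hXb : X ≤ pCoreOf 2 (A ⊔ B ⊔ T) :=
    CfsgLib.LocalEvenB.le_pCoreOf (hXT.trans le_sup_right) (N.va.T_two.to_le hXT) hn
  rw [pair_core_bot N.va N.vb N.ne] at hXb
  exact fun q hq => mem_bot.1 (hXb (hsq N q hq))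

theorem inf_eq_jCenter : wKer T A ⊓ wKer T B = jCenter T := by
  rw [← jCenter_eq_omegaCenter N.va N.vb N.ne]
  refine le_antisymm (fun d hd => mem_omegaCenterOf (mem_inf.1 (mem_inf.1 hd).1).1 (fun r hr => ?_)
    (by rw [pow_two]; exact N.ker_sq d (mem_inf.1 hd).1)) fun u hu => ?_
  · have hle : T ≤ centralizer ({d} : Set G) := by
      rw [← N.T_eq_sup]
      exact sup_le (fun q hq => mem_centralizer_singleton_iff.2 (comm_of_sq N.ker_sq hq (mem_inf.1 hd).1))
        (fun q hq => mem_centralizer_singleton_iff.2 (comm_of_sq N.symm.ker_sq hq (mem_inf.1 hd).2))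
    exact mem_centralizer_singleton_iff.1 (hle hr)
  · have huT := omegaCenterOf_le_self T hu
    exact mem_inf.2
      ⟨mem_inf.2 ⟨huT, mem_centralizer_iff.2 fun w hw => centralizes_omegaCenterOf hu (W_le_T_of_vtx N.va hw)⟩,
        mem_inf.2 ⟨huT, mem_centralizer_iff.2 fun w hw => centralizes_omegaCenterOf hu (W_le_T_of_vtx N.vb hw)⟩⟩

theorem card_eq : Nat.card T = 4 * Nat.card ↥(jCenter T) := by
  have h := CfsgLib.PLocal.card_sup_mul_card_inf (wKer T A) (wKer T B)
    (inf_le_left.trans N.vb.T_le_normalizer_wKer)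
  have h1 := N.va.card_T
  have h2 := N.vb.card_T
  rw [N.T_eq_sup, N.inf_eq_jCenter] at h
  have hp : 0 < Nat.card T := Nat.card_pos
  nlinarith

theorem card_ker : Nat.card ↥(wKer T A) = 2 * Nat.card ↥(jCenter T) := by
  have h1 := N.va.card_T
  have h2 := N.card_eq
  omega

theorem nonabelian : ∃ u ∈ T, ∃ v ∈ T, u * v ≠ v * u := by
  obtain ⟨u, hu, huc⟩ := N.exists_moving
  by_contra h0
  push Not at h0
  exact huc (mem_centralizer_iff.2 fun w hw => h0 w (W_le_T_of_vtx N.vb hw) u (W_le_T_of_vtx N.va hu))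

theorem ker_isBig : IsBig T (wKer T A) := by
  refine ⟨inf_le_left, ⟨le_centralizer_iff_isMulCommutative.1 fun p hp => mem_centralizer_iff.2 fun q hq =>
    comm_of_sq N.ker_sq hq hp, fun q hq => by rw [pow_two]; exact N.ker_sq q hq⟩, fun C hC hCe => ?_⟩
  have h := relIndex_mul_relIndex (⊥ : Subgroup G) C T bot_le hC
  rw [relIndex_bot_left, relIndex_bot_left, N.va.card_T] at h
  have hne : C.relIndex T ≠ 1 := by
    intro h1
    obtain ⟨u, hu, v, hv, huv⟩ := N.nonabelian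
    exact huv (CfsgLib.PLocal.comm_of_mem hCe.1 (relIndex_eq_one.1 h1 hu) (relIndex_eq_one.1 h1 hv))
  have hp : 0 < Nat.card ↥(wKer T A) := Nat.card_pos
  have h0 : C.relIndex T ≠ 0 := fun h0 => by rw [h0] at h; omega
  have h2 : Nat.card C * 2 ≤ Nat.card C * C.relIndex T := Nat.mul_le_mul_left _ (by omega)
  omega

theorem thompson_eq : thompsonSubgroupOf 2 T = T :=
  le_antisymm (thompsonSubgroupOf_le T)
    (N.T_eq_sup.ge.trans (sup_le (le_thompsonSubgroupOf N.ker_isBig) (le_thompsonSubgroupOf N.symm.ker_isBig)))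

/-- The involutions of `T` lie in the kernels. -/
theorem mem_or_mem_of_sq {t : G} (ht : t ∈ T) (ht2 : t * t = 1) : t ∈ wKer T A ∨ t ∈ wKer T B := by
  by_contra h0
  push Not at h0
  have htA : t ∉ centralizer (wOf A : Set G) := fun h => h0.1 (mem_inf.2 ⟨ht, h⟩)
  have htB : t ∉ centralizer (wOf B : Set G) := fun h => h0.2 (mem_inf.2 ⟨ht, h⟩)
  obtain ⟨w, hw, hwc⟩ := N.symm.exists_moving
  have h1 : t * w ∈ wKer T A := mem_inf.2
    ⟨mul_mem ht (W_le_T_of_vtx N.vb hw), N.va.mul_centralizes ht (W_le_T_of_vtx N.vb hw) htA hwc⟩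
  have h2 := N.ker_sq _ h1
  have hw2 := N.vb.W_sq w hw
  have h3 : t * w = w * t := by
    have h4 : (t * w)⁻¹ = t * w := inv_eq_of_mul_eq_one_left h2
    rw [← h4, mul_inv_rev, inv_eq_of_mul_eq_one_left ht2, inv_eq_of_mul_eq_one_left hw2]
  obtain ⟨z, -, -, -, huniq, hfix, hmove⟩ := N.vb.exists_point
  rcases hmove t ht htB w hw h3 with h | h
  · exact hwc (h ▸ one_mem _)
  · refine hwc (mem_centralizer_iff.2 fun v hv => ?_)
    subst h
    exact hfix v (W_le_T_of_vtx N.va hv)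

/-- A single component in each overgroup. -/
theorem single : ∀ E, IsJComponent T E → E ≤ LA → E = A := by
  intro E hE hEL
  by_contra hne
  have hEA := le_centralizer_wOf N.va.set N.va.jc N.va.le hE hEL hne
  have hAE := le_centralizer_wOf N.va.set hE hEL N.va.jc N.va.le (Ne.symm hne)
  have hWET : wOf E ≤ T := by
    refine (wOf_le_core N.va.set hE hEL).trans ?_
    obtain ⟨h1, h2, h3⟩ := N.va.set.syl
    intro q hq
    obtain ⟨q', hq', rfl⟩ := hq
    exact CfsgLib.Core.pCore_le_sylow ((h2.comap_subtype (K := LA)).toSylow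
      (fun hd => Nat.not_even_iff_odd.2 h3 (even_iff_two_dvd.2 hd))) hq'
  have hWEQ : wOf E ≤ wKer T A := le_inf hWET ((wOf_le_self E).trans hEA)
  have hb : wOf E ⊓ wOf A = ⊥ := by
    refine (eq_bot_iff_forall _).2 fun u hu => ?_
    by_contra hu1
    obtain ⟨x, hx, hxo, hxc⟩ := N.va.exists_odd
    exact hxc (mem_centralizer_iff.2 fun w hw => (four_odd_fixed N.va.W_card N.va.W_sq (N.va.K_le_normalizer_W hx)
      hxo (mem_inf.1 hu).2 hu1 (mem_centralizer_iff.1 (hAE hx) u (mem_inf.1 hu).1).symm w hw).symm)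
  have h := CfsgLib.PLocal.card_sup_mul_card_inf (wOf E) (wOf A)
    (hWET.trans N.va.T_le_normalizer_W)
  rw [hb, card_bot, mul_one, N.va.W_card, show Nat.card ↥(wOf E) = 4 from hE.2.2.2.2.1] at h
  have h2 := card_le_of_le (sup_le hWEQ N.W_le_ker : wOf E ⊔ wOf A ≤ wKer T A)
  have h3 := N.card_ker
  have h4 := card_jCenter_le_four N.va N.vb N.ne
  omega

theorem L_le_normalizer : LA ≤ normalizer (A : Set G) := by
  intro g hg
  obtain ⟨h1, h2⟩ := isJComponent_map N.va.set N.va.jc N.va.le hg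
  exact CfsgLib.LocalEvenB.map_conj_eq_self_iff_mem_normalizer.1 (N.single _ h1 h2)

theorem ker_eq_sup : wKer T A = wOf A ⊔ jFix T A := by
  refine (eq_of_le_of_card_ge (sup_le N.W_le_ker (le_trans inf_le_left
    (N.inf_eq_jCenter.ge.trans inf_le_left))) ?_).symm
  have hb : wOf A ⊓ jFix T A = ⊥ := by rw [inf_comm]; exact jFix_inf_wOf N.va.T_two N.va.jc
  have h := CfsgLib.PLocal.card_sup_mul_card_inf (jFix T A) (wOf A)
    ((inf_le_left.trans ((jCenter_le T).trans (thompsonSubgroupOf_le T))).trans N.va.T_le_normalizer_W)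
  rw [inf_comm, hb, card_bot, mul_one, N.va.W_card, sup_comm] at h
  show _ ≤ Nat.card ↥(wOf A ⊔ jFix T A : Subgroup G)
  have h2 := N.card_ker
  have h3 := card_jCenter N.va.T_two N.va.jc
  omega

theorem not_mem_of_odd {x : G} (hxo : Odd (orderOf x)) (hxc : x ∉ centralizer (wOf A : Set G)) : x * x ∉ T := by
  intro h
  obtain ⟨k, hk⟩ := N.va.T_two ⟨x * x, h⟩
  have hk' : (x * x) ^ 2 ^ k = 1 := congrArg Subtype.val hk
  rw [← pow_two, ← pow_mul, ← pow_succ'] at hk'
  have h1 := Nat.eq_one_of_dvd_coprimes ((Nat.coprime_two_left.2 hxo).pow_left (k + 1))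
    (orderOf_dvd_of_pow_eq_one hk') dvd_rfl
  exact hxc (orderOf_eq_one_iff.1 h1 ▸ one_mem _)

theorem core_eq : pCoreOf 2 LA = wKer T A := by
  have hRT : pCoreOf 2 LA ≤ T := by
    obtain ⟨h1, h2, h3⟩ := N.va.set.syl
    intro q hq
    obtain ⟨q', hq', rfl⟩ := hq
    exact CfsgLib.Core.pCore_le_sylow ((h2.comap_subtype (K := LA)).toSylow
      (fun hd => Nat.not_even_iff_odd.2 h3 (even_iff_two_dvd.2 hd))) hq'
  have hle : pCoreOf 2 LA ≤ wKer T A := by
    intro r hr
    refine mem_inf.2 ⟨hRT hr, ?_⟩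
    by_contra hrc
    obtain ⟨x, hx, hxo, hxc⟩ := N.va.exists_odd
    apply N.not_mem_of_odd hxo hxc
    have h1 : r * x * r⁻¹ * x⁻¹ ∈ T := by
      refine hRT ?_
      rw [show r * x * r⁻¹ * x⁻¹ = r * (x * r⁻¹ * x⁻¹) by group]
      exact mul_mem hr ((mem_normalizer_iff.1 (le_normalizer_pCoreOf_self LA (N.va.le hx)) _).1 (inv_mem hr))
    have h2 : r * x * r⁻¹ * x ∈ T := (mem_inf.1 (N.va.inverts (hRT hr) hrc hx hxo)).1
    have := mul_mem (inv_mem h1) h2
    rwa [show (r * x * r⁻¹ * x⁻¹)⁻¹ * (r * x * r⁻¹ * x) = x * x by group] at this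
  refine le_antisymm hle fun q hq => N.va.set.self (mem_centralizer_iff.2 fun r hr => ?_)
  exact comm_of_sq N.ker_sq (hle hr) hq

theorem ker_inf_centralizer : wKer T A ⊓ centralizer (A : Set G) = jFix T A := by
  have hsub : jFix T A ≤ wKer T A := N.ker_eq_sup ▸ le_sup_right
  refine le_antisymm (fun u hu => ?_) (le_inf hsub inf_le_right)
  obtain ⟨huQ, huA⟩ := mem_inf.1 hu
  have hu' : u ∈ (wOf A : Set G) * (jFix T A : Set G) := by
    rw [← coe_mul_of_right_le_normalizer_left (wOf A) (jFix T A)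
      ((hsub.trans inf_le_left).trans N.va.T_le_normalizer_W), ← N.ker_eq_sup]
    exact huQ
  obtain ⟨w, hw, v, hv, hwv⟩ := hu'
  subst hwv
  have hwA : w ∈ centralizer (A : Set G) := by simpa using mul_mem huA (inv_mem (mem_inf.1 hv).2)
  by_cases hw1 : w = 1
  · subst hw1
    simpa using hv
  obtain ⟨x, hx, hxo, hxc⟩ := N.va.exists_odd
  exact absurd (mem_centralizer_iff.2 fun y hy => (four_odd_fixed N.va.W_card N.va.W_sq
    (N.va.K_le_normalizer_W hx) hxo hw hw1 (mem_centralizer_iff.1 hwA x hx) y hy).symm) hxc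

theorem inf_centralizer_le : LA ⊓ centralizer (wOf A : Set G) ≤ wKer T A := by
  intro c hc
  obtain ⟨hcL, hcW⟩ := mem_inf.1 hc
  rw [← N.core_eq]
  refine N.va.set.self ?_
  rw [N.core_eq, N.ker_eq_sup]
  have hcH : c ∈ normalizer (jFix T A : Set G) := by
    rw [← N.ker_inf_centralizer]
    refine inf_normalizer_le_normalizer_inf (mem_inf.2 ⟨?_,
      CfsgLib.Signalizer.normalizer_le_normalizer_centralizer_set _ (N.L_le_normalizer hcL)⟩)
    rw [← N.core_eq]
    exact le_normalizer_pCoreOf_self LA hcL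
  have hle : wOf A ⊔ jFix T A ≤ centralizer ({c} : Set G) :=
    sup_le (fun w hw => mem_centralizer_singleton_iff.2 (mem_centralizer_iff.1 hcW w hw))
      (fun u hu => mem_centralizer_singleton_iff.2 (fixed_of_card_two
        (card_jFix_le_two N.va.T_two N.vb.jc N.vb.uq N.va.uq N.ne.symm) hcH hu).symm)
  exact mem_centralizer_iff.2 fun u hu => mem_centralizer_singleton_iff.1 (hle hu)

theorem L_eq : LA = A ⊔ T := by
  refine le_antisymm (fun l hl => ?_) (sup_le N.va.le N.va.set.syl.1)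
  obtain ⟨e, he, n, hnL, hnJ, hnB, rfl⟩ := single_decomp N.va N.single hl
  rw [N.thompson_eq] at hnJ
  refine mul_mem (mem_sup_left he) (mem_sup_right ?_)
  obtain ⟨z, hzW, hz1, hzJ, huniq, hfix, hmove⟩ := N.va.exists_point
  have hncZ : n ∈ centralizer (jCenter T : Set G) :=
    centralizes_jCenter N.va.T_two N.va.jc (card_jFix_le_two N.va.T_two N.vb.jc N.vb.uq N.va.uq N.ne.symm)
      (by rwa [N.thompson_eq]) hnB
  have hnz : n * z = z * n := (mem_centralizer_iff.1 hncZ z hzJ).symm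
  by_cases hnW : n ∈ centralizer (wOf A : Set G)
  · exact (mem_inf.1 (N.inf_centralizer_le (mem_inf.2 ⟨hnL, hnW⟩))).1
  obtain ⟨a, ha, hac⟩ := N.va.exists_not_centralizing
  have hnN : n ∈ normalizer (wOf A : Set G) := normalizer_le_normalizer_wOf A hnB
  obtain ⟨u, hu, hu1, huz⟩ : ∃ u ∈ wOf A, u ≠ 1 ∧ u ≠ z := by
    by_contra h0
    push Not at h0
    exact hnW (mem_centralizer_iff.2 fun w hw => by
      by_cases h : w = 1
      · rw [h, one_mul, mul_one]
      · rw [h0 w hw h]; exact hnz.symm)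
  have key : ∀ g ∈ normalizer (wOf A : Set G), g * z = z * g → g ∉ centralizer (wOf A : Set G) →
      g * u * g⁻¹ = z * u := by
    intro g hg hgz hgc
    have hgu : g * u * g⁻¹ ∈ wOf A := (mem_normalizer_iff.1 hg u).1 hu
    rcases four_cases N.va.W_card hzW hu hz1 hu1 huz.symm (N.va.W_sq z hzW) hgu with h | h | h | h
    · exact absurd (conj_eq_one_iff.1 h) hu1
    · refine absurd ((MulAut.conj g).injective ?_) huz
      show g * u * g⁻¹ = g * z * g⁻¹
      rw [h, hgz, mul_inv_cancel_right]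
    · exact absurd (mem_centralizer_iff.2 fun w hw => (four_fixed N.va.W_card N.va.W_sq hzW hu hz1 hu1 huz.symm
        hgz (mul_inv_eq_iff_eq_mul.1 h) w hw).symm) hgc
    · exact h
  have e1 := key n hnN hnz hnW
  have e2 := key a (N.va.T_le_normalizer_W ha) (hfix a ha) hac
  have hanc : a⁻¹ * n ∈ centralizer (wOf A : Set G) := by
    refine mem_centralizer_iff.2 fun w hw => (four_fixed N.va.W_card N.va.W_sq hzW hu hz1 hu1 huz.symm ?_ ?_ w hw).symm
    · calc a⁻¹ * n * z = a⁻¹ * (n * z) := by group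
        _ = a⁻¹ * (a * z * a⁻¹ * n) := by rw [hnz, hfix a ha, mul_inv_cancel_right]
        _ = z * (a⁻¹ * n) := by group
    · refine mul_inv_eq_iff_eq_mul.1 ?_
      calc a⁻¹ * n * u * (a⁻¹ * n)⁻¹ = a⁻¹ * (n * u * n⁻¹) * a := by group
        _ = a⁻¹ * (a * u * a⁻¹) * a := by rw [e1, ← e2]
        _ = u := by group
  have := (mem_inf.1 (N.inf_centralizer_le
    (mem_inf.2 ⟨mul_mem (inv_mem (N.va.set.syl.1 ha)) hnL, hanc⟩))).1
  have := mul_mem ha this
  rwa [mul_inv_cancel_left] at this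

theorem card_L : Nat.card LA = 6 * Nat.card ↥(wKer T A) := by
  have h := CfsgLib.PLocal.card_sup_mul_card_inf T A N.va.norm
  have hb : T ⊓ A = pCoreOf 2 A := by
    refine le_antisymm (fun t ht => ?_) (le_inf N.va.core_le_T (map_subtype_le _))
    obtain ⟨htT, htA⟩ := mem_inf.1 ht
    by_contra hne
    have h3 := N.va.pow_three_mem htA
    obtain ⟨k, hk⟩ := N.va.T_two ⟨t, htT⟩
    have hk' : t ^ 2 ^ k = 1 := congrArg Subtype.val hk
    apply hne
    have hcop : Nat.Coprime (2 ^ k) 3 := (by norm_num : Nat.Coprime 2 3).pow_left k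
    obtain ⟨m, hm⟩ := exists_pow_eq_self_of_coprime (x := t) (n := 3)
      (hcop.symm.coprime_dvd_right (orderOf_dvd_of_pow_eq_one hk'))
    exact hm ▸ pow_mem h3 m
  have h1 := relIndex_mul_relIndex (⊥ : Subgroup G) (pCoreOf 2 A) A bot_le (map_subtype_le _)
  rw [relIndex_bot_left, relIndex_bot_left, N.va.jc.2.2.1] at h1
  rw [hb, sup_comm, ← N.L_eq, ← h1, N.va.card_T] at h
  have hp : 0 < Nat.card ↥(pCoreOf 2 A) := Nat.card_pos
  refine Nat.eq_of_mul_eq_mul_right hp ?_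
  rw [← h]
  ring

theorem relIndex_ker : (wKer T A).relIndex LA = 6 := by
  have h := relIndex_mul_relIndex (⊥ : Subgroup G) (wKer T A) LA bot_le
    (inf_le_left.trans N.va.set.syl.1)
  rw [relIndex_bot_left, relIndex_bot_left, N.card_L, mul_comm] at h
  exact Nat.eq_of_mul_eq_mul_right Nat.card_pos h

/-- An element of order three inverted by an involution. -/
theorem exists_dihedral : ∃ x a : G, x ∈ LA ∧ orderOf x = 3 ∧ a ∈ LA ∧ a * a = 1 ∧ a * x * a⁻¹ = x⁻¹ ∧
    x ∉ centralizer (wOf A : Set G) := by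
  obtain ⟨a, ha, hac⟩ := N.symm.exists_moving
  have haT := W_le_T_of_vtx N.vb ha
  have ha2 := N.vb.W_sq a ha
  obtain ⟨x, hx, hxo, hxc⟩ := N.va.exists_odd
  set y := a * x * a⁻¹ * x⁻¹ with hy
  have hyA : y ∈ A := mul_mem ((mem_normalizer_iff.1 (N.va.norm haT) x).1 hx) (inv_mem hx)
  have hyc : y ∉ centralizer (wOf A : Set G) := by
    intro hyc
    apply N.not_mem_of_odd hxo hxc
    have h1 : y ∈ T := (mem_inf.1 (N.inf_centralizer_le (mem_inf.2 ⟨N.va.le hyA, hyc⟩))).1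
    have h2 : a * x * a⁻¹ * x ∈ T := (mem_inf.1 (N.va.inverts haT hac hx hxo)).1
    have := mul_mem (inv_mem h1) h2
    rwa [hy, show (a * x * a⁻¹ * x⁻¹)⁻¹ * (a * x * a⁻¹ * x) = x * x by group] at this
  have hay : a * y * a⁻¹ = y⁻¹ := by
    have hai : a⁻¹ = a := inv_eq_of_mul_eq_one_left ha2
    calc a * y * a⁻¹ = (a * a) * x * (a⁻¹ * x⁻¹ * a⁻¹) := by rw [hy]; group
      _ = x * (a * x⁻¹ * a⁻¹) := by
          rw [ha2, one_mul]
          conv_lhs => arg 2; arg 1; arg 1; rw [hai]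
      _ = y⁻¹ := by rw [hy]; group
  obtain ⟨k, hk⟩ := N.va.T_two ⟨y ^ 3, N.va.core_le_T (N.va.pow_three_mem hyA)⟩
  have hk' : (y ^ 3) ^ 2 ^ k = 1 := congrArg Subtype.val hk
  set u := y ^ 2 ^ k with hu
  have hu3 : u ^ 3 = 1 := by rw [hu, ← pow_mul, mul_comm, pow_mul, hk']
  have huc : u ∉ centralizer (wOf A : Set G) := by
    intro h
    apply hyc
    have h3 : y ^ 3 ∈ centralizer (wOf A : Set G) :=
      (mem_inf.1 (N.va.core_le (N.va.pow_three_mem hyA))).2
    have hg : Nat.gcd (2 ^ k) 3 = 1 := (by norm_num : Nat.Coprime 2 3).pow_left k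
    have h4 := Nat.gcd_eq_gcd_ab (2 ^ k) 3
    rw [hg] at h4
    rw [← zpow_one y, show (1 : ℤ) = ((2 ^ k : ℕ) : ℤ) * Nat.gcdA (2 ^ k) 3 + ((3 : ℕ) : ℤ) * Nat.gcdB (2 ^ k) 3
      from h4, zpow_add, zpow_mul, zpow_mul, zpow_natCast, zpow_natCast]
    exact mul_mem (zpow_mem h _) (zpow_mem h3 _)
  have hu1 : u ≠ 1 := fun h => huc (h ▸ one_mem _)
  refine ⟨u, a, N.va.le (pow_mem hyA _), orderOf_eq_prime (p := 3) hu3 hu1, N.va.set.syl.1 haT, ha2, ?_, huc⟩
  rw [hu, ← conj_pow, hay, inv_pow]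

/-- The overgroup is `S₄` or `S₄ × 2`. -/
theorem iso : (Nat.card ↥(jCenter T) = 2 → Nonempty (↥LA ≃* Equiv.Perm (Fin 4))) ∧
    (Nat.card ↥(jCenter T) = 4 → Nonempty (↥LA ≃* Equiv.Perm (Fin 4) × Multiplicative (ZMod 2))) := by
  obtain ⟨x, a, hxL, hx3, haL, ha, hax, hxW⟩ := N.exists_dihedral
  have hc := card_jCenter N.va.T_two N.va.jc
  have hsub : jFix T A ≤ wKer T A := N.ker_eq_sup ▸ le_sup_right
  have hLH : LA ≤ centralizer (jFix T A : Set G) := by
    rw [N.L_eq]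
    exact sup_le (fun k hk => mem_centralizer_iff.2 fun u hu =>
      ((mem_centralizer_iff.1 (mem_inf.1 hu).2 k hk)).symm)
      ((T_centralizes_jCenter N.va N.vb N.ne).trans (centralizer_le fun u hu => (mem_inf.1 hu).1))
  have h := symmetric_four_of (W := wOf A) (H := jFix T A) ((W_le_T_of_vtx N.va).trans N.va.set.syl.1)
    (hsub.trans (inf_le_left.trans N.va.set.syl.1)) N.va.W_card
    (N.L_le_normalizer.trans (normalizer_le_normalizer_wOf A)) hLH
    (by rw [inf_comm]; exact jFix_inf_wOf N.va.T_two N.va.jc)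
    (N.inf_centralizer_le.trans N.ker_eq_sup.le)
    (by rw [N.card_L, N.card_ker, hc]; ring) (W_self_comm N.va) hxL hx3 haL ha hax hxW
  exact ⟨fun h2 => h.1 (by omega), fun h4 => h.2 (by omega)⟩

end NcPair

end CfsgLib.LocalEvenB.JOver
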