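import Cfsg.Agent.Lib.LocalEvenB.JOver.Four

/-!
# Maximal straddling 2-subgroups
-/

set_option autoImplicit false
set_option linter.all false

namespace CfsgLib.LocalEvenB.JOver

open Subgroup Cfsg
open scoped commutatorElement

variable {G : Type*} [Group G] [Finite G]

theorem straddling_eq {M T U : Subgroup G} (hT : T ∈ maxStraddlingTwoSubgroups M)
    (hU : U ∈ straddlingTwoSubgroups M) (hJ : thompsonSubgroupOf 2 T ≤ U) :
    thompsonSubgroupOf 2 U = thompsonSubgroupOf 2 T ∧ Nat.card U ≤ Nat.card T := by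
  obtain ⟨h1, h2⟩ := hT.2 U hU
  have h3 := rank_le_of_thompson_le hJ
  have he : maxElemAbelianOrder U = maxElemAbelianOrder T := le_antisymm h1 h3
  obtain ⟨h4, h5⟩ := h2 he
  have hle : thompsonSubgroupOf 2 T ≤ thompsonSubgroupOf 2 U := by
    refine thompsonSubgroupOf_le_iff.2 fun A hA => le_thompsonSubgroupOf
      ⟨(le_thompsonSubgroupOf hA).trans hJ, hA.elem, fun C hC hCe => ?_⟩
    obtain ⟨B, hB⟩ := exists_isBig U
    have := hB.max C hC hCe
    have := maxElemAbelianOrder_eq hA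
    have := maxElemAbelianOrder_eq hB
    omega
  have heq := eq_of_le_of_card_ge hle h4
  exact ⟨heq.symm, h5 (by rw [heq])⟩

theorem normalizer_thompson_le {M T : Subgroup G} (S : Sylow 2 G)
    (hMJ : normalizer (thompsonSubgroupOf 2 (S : Subgroup G) : Set G) ≤ M)
    (hT : T ∈ maxStraddlingTwoSubgroups M) : normalizer (thompsonSubgroupOf 2 T : Set G) ≤ M := by
  haveI : Fact (Nat.Prime 2) := ⟨Nat.prime_two⟩
  obtain ⟨hT2, hT1, hTM, -⟩ := hT.1
  by_contra hno
  set J := thompsonSubgroupOf 2 T with hJ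
  have hTN : T ≤ normalizer (J : Set G) := fun t ht =>
    normalizer_le_normalizer_thompsonSubgroupOf (p := 2) T (le_normalizer ht)
  have hloc : IsTwoLocal (normalizer (J : Set G)) :=
    ⟨J, hT2.to_le (thompsonSubgroupOf_le T), thompsonSubgroupOf_ne_bot hT2 hT1, rfl⟩
  have hmax : ∀ U : Subgroup G, IsPGroup 2 U → U ≤ M ⊓ normalizer (J : Set G) → T ≤ U → U = T := by
    intro U hU2 hUle hTU
    have hU : U ∈ straddlingTwoSubgroups M := ⟨hU2, fun h => hT1 (le_bot_iff.1 (h ▸ hTU)), hUle.trans inf_le_left,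
      _, hloc, hUle.trans inf_le_right, hno⟩
    exact (eq_of_le_of_card_ge hTU (straddling_eq hT hU ((thompsonSubgroupOf_le T).trans hTU)).2).symm
  obtain ⟨T', hT', hTT'⟩ := exists_sylowTwoIn_ge hT2 hTM
  have hTT : T = T' := by
    by_contra hne
    have hlt : T.subgroupOf T' < ⊤ := lt_top_iff_ne_top.2 fun h => hne (le_antisymm hTT' (subgroupOf_eq_top.1 h))
    haveI := hT'.2.1.isNilpotent
    have hgrow := Group.normalizerCondition_of_isNilpotent _ hlt
    obtain ⟨g, hg, hgT⟩ := SetLike.exists_of_lt hgrow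
    let U := (normalizer ((T.subgroupOf T') : Set ↥T')).map T'.subtype
    have hUJ : U ≤ normalizer (J : Set G) := by
      rintro _ ⟨u, hu, rfl⟩
      refine normalizer_le_normalizer_thompsonSubgroupOf (p := 2) T ?_
      refine CfsgLib.LocalEvenB.mem_normalizer_of_forall fun t ht => ?_
      exact (mem_normalizer_iff.1 hu ⟨t, hTT' ht⟩).1 ht
    have := hmax U (hT'.2.1.to_le (map_subtype_le _)) (le_inf ((map_subtype_le _).trans hT'.1) hUJ)
      (fun t ht => ⟨⟨t, hTT' ht⟩, le_normalizer (mem_subgroupOf.2 ht), rfl⟩)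
    exact hgT (this.le (mem_map_of_mem _ hg))
  subst hTT
  have hSM : (S : Subgroup G) ≤ M := fun s hs =>
    hMJ (normalizer_le_normalizer_thompsonSubgroupOf (p := 2) (S : Subgroup G) (le_normalizer hs))
  have hS : IsSylowTwoIn (S : Subgroup G) M := by
    refine ⟨hSM, S.2, Nat.odd_iff.2 ?_⟩
    have h1 : (S : Subgroup G).relIndex M ∣ (S : Subgroup G).index := relIndex_dvd_index_of_le hSM
    have h2 := S.not_dvd_index
    have h3 : ¬ 2 ∣ (S : Subgroup G).relIndex M := fun h => h2 (h.trans h1)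
    omega
  obtain ⟨m, hm, hmT⟩ := sylowTwoIn_conj hS hT'
  apply hno
  intro g hg
  have hJm : J = (thompsonSubgroupOf 2 (S : Subgroup G)).map (MulAut.conj m).toMonoidHom := by
    rw [hJ, ← hmT, thompson_map_conj]
  have hmem : m⁻¹ * g * m ∈ M := by
    refine hMJ (CfsgLib.LocalEvenB.mem_normalizer_of_forall fun x hx => ?_)
    have hx' : m * x * m⁻¹ ∈ J := hJm ▸ ⟨x, hx, rfl⟩
    have h1 := (mem_normalizer_iff.1 hg _).1 hx'
    rw [hJm, CfsgLib.LocalEvenB.mem_map_conj] at h1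
    convert h1 using 1
    group
  have := mul_mem (mul_mem hm hmem) (inv_mem hm)
  simpa [mul_assoc] using this

/-- A 2-local subgroup outside `M` with a Sylow 2-subgroup containing the Thompson subgroup. -/
theorem max_straddling_overgroup (hL : Cfsg.IsCharacteristicTwoType G)
    (hN : ∀ N : Subgroup G, Cfsg.IsTwoLocal N → Group.IsSolvable ↥N)
    (hZ : ∀ S : Sylow 2 G, centralizer (omegaCenterOf (S : Subgroup G) : Set G) ≤ normalizer ((S : Subgroup G) : Set G))
    {M T : Subgroup G} (S : Sylow 2 G)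
    (hMJ : normalizer (thompsonSubgroupOf 2 (S : Subgroup G) : Set G) ≤ M) (hT : T ∈ maxStraddlingTwoSubgroups M)
    {L : Subgroup G} (hL2 : IsTwoLocal L) (hLM : ¬ L ≤ M) {T₀ : Subgroup G} (hT₀ : IsSylowTwoIn T₀ L)
    (hJT₀ : thompsonSubgroupOf 2 T ≤ T₀) :
    thompsonSubgroupOf 2 T₀ = thompsonSubgroupOf 2 T ∧ T₀ ∈ straddlingTwoSubgroups M ∧ Setting L T₀ := by
  haveI : Fact (Nat.Prime 2) := ⟨Nat.prime_two⟩
  have hNJ := normalizer_thompson_le S hMJ hT
  obtain ⟨hT2, hT1, hTM, -⟩ := hT.1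
  set J := thompsonSubgroupOf 2 T with hJ
  have hJne : J ≠ ⊥ := thompsonSubgroupOf_ne_bot hT2 hT1
  have hstr : ∀ U : Subgroup G, J ≤ U → U ≤ T₀ → U ≤ M → U ∈ straddlingTwoSubgroups M := fun U h1 h2 h3 =>
    ⟨hT₀.2.1.to_le h2, fun h => hJne (le_bot_iff.1 (h ▸ h1)), h3, L, hL2, h2.trans hT₀.1, hLM⟩
  set U := T₀ ⊓ M with hU
  have hJU : J ≤ U := le_inf hJT₀ ((thompsonSubgroupOf_le T).trans hTM)
  have hUJ : thompsonSubgroupOf 2 U = J := (straddling_eq hT (hstr U hJU inf_le_left inf_le_right) hJU).1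
  have hUT : U = T₀ := by
    by_contra hne
    have hlt : U.subgroupOf T₀ < ⊤ :=
      lt_top_iff_ne_top.2 fun h => hne (le_antisymm inf_le_left (subgroupOf_eq_top.1 h))
    haveI := hT₀.2.1.isNilpotent
    obtain ⟨g, hg, hgU⟩ := SetLike.exists_of_lt
      (Group.normalizerCondition_of_isNilpotent _ hlt)
    apply hgU
    refine mem_subgroupOf.2 (mem_inf.2 ⟨g.2, hNJ ?_⟩)
    rw [← hUJ]
    refine normalizer_le_normalizer_thompsonSubgroupOf (p := 2) U ?_
    refine CfsgLib.LocalEvenB.mem_normalizer_of_forall fun t ht => ?_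
    exact (mem_normalizer_iff.1 hg ⟨t, (mem_inf.1 ht).1⟩).1 ht
  have hTM₀ : T₀ ≤ M := hUT.ge.trans inf_le_right
  have hJ₀ : thompsonSubgroupOf 2 T₀ = J := hUT ▸ hUJ
  refine ⟨hJ₀, hstr T₀ hJT₀ le_rfl hTM₀, hT₀, ?_, self_of_isTwoLocal hL hL2, hN L hL2, hZ⟩
  intro hle
  apply hLM
  have hQT : pCoreOf 2 L ≤ T₀ := by
    intro q hq
    obtain ⟨q', hq', rfl⟩ := hq
    exact CfsgLib.Core.pCore_le_sylow ((hT₀.2.1.comap_subtype (K := L)).toSylow
      (fun hd => Nat.not_even_iff_odd.2 hT₀.2.2 (even_iff_two_dvd.2 hd))) hq'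
  have he := thompson_eq_of_between hQT hle
  intro l hl
  refine hNJ ?_
  rw [← hJ₀, ← he]
  exact normalizer_le_normalizer_thompsonSubgroupOf (p := 2) _ (le_normalizer_pCoreOf_self L hl)

theorem sylow_of_le {M T : Subgroup G} (hT : T ∈ maxStraddlingTwoSubgroups M) {L : Subgroup G}
    (hTL : T ≤ L)
    (h : ∀ T₀, IsSylowTwoIn T₀ L → thompsonSubgroupOf 2 T ≤ T₀ → T₀ ∈ straddlingTwoSubgroups M) :
    IsSylowTwoIn T L := by
  obtain ⟨T₁, hT₁, hTT₁⟩ := exists_sylowTwoIn_ge hT.1.1 hTL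
  have hJ := (thompsonSubgroupOf_le (p := 2) T).trans hTT₁
  rwa [eq_of_le_of_card_ge hTT₁ (straddling_eq hT (h T₁ hT₁ hJ) hJ).2]

/-- Some component lies outside `M`, which needs to contain the normalizer of `J(T)` in `L` only. -/
theorem exists_component_outside' {L T M : Subgroup G} (h : Setting L T) (hTM : T ≤ M)
    (hNJ : L ⊓ normalizer (thompsonSubgroupOf 2 T : Set G) ≤ M) (hLM : ¬ L ≤ M) :
    ∃ K, IsJComponent T K ∧ K ≤ L ∧ ¬ K ≤ M := by
  classical
  obtain ⟨F⟩ := nonempty_frame h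
  choose K hK hKL hKC hKi using exists_jComponent h F
  by_contra hne
  push Not at hne
  have hKM : ∀ i, K i ≤ M := fun i => hne _ (hK i) (hKL i)
  apply hLM
  have hQT : pCoreOf 2 L ≤ T := by
    obtain ⟨h1, h2, h3⟩ := h.syl
    intro q hq
    obtain ⟨q', hq', rfl⟩ := hq
    exact CfsgLib.Core.pCore_le_sylow ((h2.comap_subtype (K := L)).toSylow
      (fun hd => Nat.not_even_iff_odd.2 h3 (even_iff_two_dvd.2 hd))) hq'
  -- even parts are realized inside `M`
  have hev : ∀ v : Fin F.n → Equiv.Perm (Fin 3), (∀ k, Equiv.Perm.sign (v k) = 1) →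
      ∃ e : ↥F.Y, (e : G) ∈ M ∧ F.φ e = v := by
    intro v hv
    suffices ∀ s : Finset (Fin F.n), ∃ e : ↥F.Y, (e : G) ∈ M ∧ ∀ k, F.φ e k = if k ∈ s then v k else 1 by
      obtain ⟨e, he, hek⟩ := this Finset.univ
      exact ⟨e, he, funext fun k => by rw [hek, if_pos (Finset.mem_univ k)]⟩
    intro s
    induction s using Finset.induction_on with
    | empty => exact ⟨1, one_mem _, fun k => by simp⟩
    | insert i s hi ih =>
      obtain ⟨e', he', hek'⟩ := ih
      obtain ⟨e, he, hei⟩ := (hKC i).exists_exp (hKi i) (v i) (hv i)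
      refine ⟨e * e', mul_mem (hKM i he) he', fun k => ?_⟩
      rw [map_mul, Pi.mul_apply, hek']
      by_cases hk : k = i
      · subst hk; rw [hei, if_neg hi, if_pos (Finset.mem_insert_self _ _), mul_one]
      · rw [(hKi i).1 e he k hk, one_mul]
        simp [hk]
  have hYM : F.Y ≤ M := by
    intro y hy
    obtain ⟨j, hj, hjs⟩ := F.exists_J_sign fun k => Equiv.Perm.sign (F.φ ⟨y, hy⟩ k)
    obtain ⟨e, he, hev'⟩ := hev (F.φ (j⁻¹ * ⟨y, hy⟩)) fun k => by
      rw [map_mul, map_inv, Pi.mul_apply, Pi.inv_apply, map_mul, map_inv, hjs k, inv_mul_cancel]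
    set r : ↥F.Y := e⁻¹ * (j⁻¹ * ⟨y, hy⟩) with hr
    have hr1 : F.φ r = 1 := by rw [hr, map_mul, map_inv, hev', inv_mul_cancel]
    have hrM : (r : G) ∈ M := by
      refine hNJ (mem_inf.2 ⟨F.Y_le r.2, ?_⟩)
      have hJQ : thompsonSubgroupOf 2 ((thompsonSubgroupOf 2 T) ⊔ pCoreOf 2 L) = (thompsonSubgroupOf 2 T) :=
        thompson_eq_of_between (sup_le (thompsonSubgroupOf_le T) hQT) le_sup_left
      suffices hn : (r : G) ∈ normalizer (((thompsonSubgroupOf 2 T) ⊔ pCoreOf 2 L : Subgroup G) : Set G) by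
        have key := normalizer_le_normalizer_thompsonSubgroupOf (p := 2) _ hn
        rw [hJQ] at key
        exact key
      refine CfsgLib.LocalEvenB.mem_normalizer_of_forall fun x hx => ?_
      have hle : (thompsonSubgroupOf 2 T) ⊔ pCoreOf 2 L ≤ ((thompsonSubgroupOf 2 T) ⊔ pCoreOf 2 L).comap (MulAut.conj (r : G)).toMonoidHom := by
        refine sup_le (fun z hz => ?_) (fun z hz => mem_sup_right (F.Q_normal _ (F.Y_le r.2) z hz))
        show (r : G) * z * (r : G)⁻¹ ∈ (thompsonSubgroupOf 2 T) ⊔ pCoreOf 2 L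
        have h1 := F.ker_comm r ⟨z, F.J_le hz⟩ hr1
        rw [show (r : G) * z * (r : G)⁻¹ = ⁅(r : G), z⁆ * z by simp [commutatorElement_def, mul_assoc]]
        exact mul_mem (mem_sup_right h1) (mem_sup_left hz)
      exact hle hx
    rw [show y = (j : G) * ((e : G) * (r : G)) by simp [hr]]
    exact mul_mem (hTM (thompsonSubgroupOf_le T hj)) (mul_mem he hrM)
  intro l hl
  have hTL := h.syl.1
  have hY : IsSylowTwoIn (T ⊓ F.Y) F.Y := by
    refine ⟨inf_le_right, h.syl.2.1.to_le inf_le_left, ?_⟩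
    rw [inf_relIndex_right]
    haveI : (F.Y.subgroupOf L).Normal := ⟨fun y hy g => F.Y_normal g g.2 y hy⟩
    have hd : (T.subgroupOf L).relIndex (F.Y.subgroupOf L) ∣ (T.subgroupOf L).index :=
      CfsgLib.HallGen.relIndex_dvd_index_right _ _
    rw [relIndex_subgroupOf F.Y_le] at hd
    exact Odd.of_dvd_nat h.syl.2.2 hd
  have hY' : IsSylowTwoIn ((T ⊓ F.Y).map (MulAut.conj l).toMonoidHom) F.Y := by
    have := isSylowTwoIn_map (MulAut.conj l) hY
    rwa [show F.Y.map (MulAut.conj l).toMonoidHom = F.Y from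
      CfsgLib.LocalEvenB.map_conj_eq_self_iff_mem_normalizer.2
        (CfsgLib.LocalEvenB.mem_normalizer_of_forall fun y hy => F.Y_normal l hl y hy)] at this
  obtain ⟨y, hy, hyl⟩ := sylowTwoIn_conj hY' hY
  rw [CfsgLib.LocalEvenB.map_conj_map_conj, CfsgLib.LocalEvenB.map_conj_eq_self_iff_mem_normalizer] at hyl
  have hylM : y * l ∈ M := by
    refine hNJ (mem_inf.2 ⟨mul_mem (F.Y_le hy) hl, ?_⟩)
    have := normalizer_le_normalizer_thompsonSubgroupOf (p := 2) (T ⊓ F.Y) hyl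
    rwa [thompson_eq_of_between inf_le_left (le_inf (thompsonSubgroupOf_le T) F.J_le)] at this
  have := mul_mem (inv_mem (hYM hy)) hylM
  simpa [mul_assoc] using this

/-- Some component lies outside `M`. -/
theorem exists_component_outside {L T M : Subgroup G} (h : Setting L T) (hTM : T ≤ M)
    (hNJ : normalizer (thompsonSubgroupOf 2 T : Set G) ≤ M) (hLM : ¬ L ≤ M) :
    ∃ K, IsJComponent T K ∧ K ≤ L ∧ ¬ K ≤ M :=
  exists_component_outside' h hTM (inf_le_right.trans hNJ) hLM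

end CfsgLib.LocalEvenB.JOver
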