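import Cfsg.Agent.Lib.LocalEvenB.JOver.TLess
import Cfsg.Agent.Lib.Techniques.InvolutionCosets
import Cfsg.Agent.S2947

/-!
# A second overgroup over a Sylow 2-subgroup
-/

set_option autoImplicit false
set_option linter.all false

namespace CfsgLib.LocalEvenB.JOver

open Subgroup Cfsg
open scoped commutatorElement Pointwise

variable {G : Type*} [Group G] [Finite G]

theorem isSylowTwoIn_of_sylow (S : Sylow 2 G) {X : Subgroup G} (hSX : (S : Subgroup G) ≤ X) :
    IsSylowTwoIn (S : Subgroup G) X :=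
  ⟨hSX, S.isPGroup', Odd.of_dvd_nat (Nat.odd_iff.2 (Nat.two_dvd_ne_zero.1 S.not_dvd_index))
    (relIndex_dvd_index_of_le hSX)⟩

theorem mem_maxStraddling_map {L T : Subgroup G} {l : G} (hl : l ∈ L) (hT : T ∈ maxStraddlingTwoSubgroups L) :
    T.map (MulAut.conj l).toMonoidHom ∈ maxStraddlingTwoSubgroups L := by
  obtain ⟨⟨hT2, hT1, hTL, X, hX, hTX, hXL⟩, hmax⟩ := hT
  have hLl : L.map (MulAut.conj l).toMonoidHom = L :=
    CfsgLib.LocalEvenB.map_conj_eq_self_iff_mem_normalizer.2 (le_normalizer hl)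
  refine ⟨⟨hT2.map _, fun h => hT1 ?_, hLl ▸ map_mono hTL, _, isTwoLocal_map hX l, map_mono hTX, fun h => hXL ?_⟩,
    fun U hU => ?_⟩
  · rwa [map_eq_bot_iff_of_injective _ (MulAut.conj l).injective] at h
  · rw [← hLl] at h
    exact (map_le_map_iff_of_injective (MulAut.conj l).injective).1 h
  · rw [maxElemAbelianOrder_map_conj, thompson_map_conj, card_map_of_injective (MulAut.conj l).injective,
      card_map_of_injective (MulAut.conj l).injective]
    exact hmax U hU

theorem wKer_map_eq {T K : Subgroup G} {g : G} (hg : g ∈ normalizer (T : Set G)) :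
    (wKer T K).map (MulAut.conj g).toMonoidHom = wKer T (K.map (MulAut.conj g).toMonoidHom) := by
  rw [wKer, wKer, ← wOf_map, map_inf_eq _ _ _ (MulAut.conj g).injective, centralizer_map_equiv,
    CfsgLib.LocalEvenB.map_conj_eq_self_iff_mem_normalizer.2 hg]

namespace Vtx

variable {T K L : Subgroup G} (v : Vtx T K L)
include v

/-- The component is transitive on the nontrivial elements of its four-group. -/
theorem exists_orbit {z u : G} (hz : IsPoint T K z) (hu : u ∈ wOf K) (hu1 : u ≠ 1) (huz : u ≠ z) :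
    ∃ x ∈ K, x ∉ centralizer (wOf K : Set G) ∧ u = x * z * x⁻¹ := by
  obtain ⟨x, hx, hxo, hxc⟩ := v.exists_odd
  have hxW := v.K_le_normalizer_W hx
  have hnf : ∀ w ∈ wOf K, w ≠ 1 → x * w * x⁻¹ ≠ w := fun w hw hw1 h => hxc (mem_centralizer_iff.2 fun y hy =>
    (four_odd_fixed v.W_card v.W_sq hxW hxo hw hw1 (mul_inv_eq_iff_eq_mul.1 h) y hy).symm)
  set p := x * z * x⁻¹ with hp
  set q := x * p * x⁻¹ with hq
  have hpW : p ∈ wOf K := (mem_normalizer_iff.1 hxW z).1 hz.2.1
  have hqW : q ∈ wOf K := (mem_normalizer_iff.1 hxW p).1 hpW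
  have hp1 : p ≠ 1 := fun h => hz.2.2 (conj_eq_one_iff.1 h)
  have hq1 : q ≠ 1 := fun h => hp1 (conj_eq_one_iff.1 h)
  have hpz : p ≠ z := hnf z hz.2.1 hz.2.2
  have hqp : q ≠ p := hnf p hpW hp1
  have hqe : q = (x * x) * z * (x * x)⁻¹ := by rw [hq, hp]; group
  have hqz : q ≠ z := by
    intro h
    refine hnf z hz.2.1 hz.2.2 ?_
    obtain ⟨k, hk⟩ := exists_pow_eq_self_of_coprime (x := x) (n := 2) (Nat.coprime_two_left.2 hxo)
    refine mul_inv_eq_iff_eq_mul.2 ?_
    have h2 : Commute (x ^ 2) z := by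
      rw [pow_two]
      exact mul_inv_eq_iff_eq_mul.1 (hqe.symm.trans h)
    exact (hk ▸ h2.pow_left k).eq
  have hc : ∀ y ∈ K, y * z * y⁻¹ ≠ z → y ∉ centralizer (wOf K : Set G) := by
    intro y _ hy hyc
    exact hy (by rw [← mem_centralizer_iff.1 hyc z hz.2.1, mul_inv_cancel_right])
  have hq3 : q = z * p := by
    rcases four_cases v.W_card hz.2.1 hpW hz.2.2 hp1 hpz.symm (v.W_sq z hz.2.1) hqW with h | h | h | h
    · exact absurd h hq1
    · exact absurd h hqz
    · exact absurd h hqp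
    · exact h
  rcases four_cases v.W_card hz.2.1 hpW hz.2.2 hp1 hpz.symm (v.W_sq z hz.2.1) hu with h | h | h | h
  · exact absurd h hu1
  · exact absurd h huz
  · exact ⟨x, hx, hxc, h⟩
  · exact ⟨x * x, mul_mem hx hx, hc _ (mul_mem hx hx) (hqe ▸ hqz), by rw [h, ← hq3, hqe]⟩

end Vtx

/-- An overgroup of a small vertex cannot be moved into one with a larger Sylow subgroup. -/
theorem not_map_le {T' L LA : Subgroup G} (S : Sylow 2 G) (hs : IsSylowTwoIn (S : Subgroup G) L)
    (hL : IsTwoLocal L) (hsA : IsSylowTwoIn T' LA) (hLA : IsMaximalTwoLocal LA)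
    (hlt : Nat.card T' < Nat.card (S : Subgroup G)) (x : G) : ¬ LA.map (MulAut.conj x).toMonoidHom ≤ L := by
  intro h
  have e := (isMaximalTwoLocal_map hLA x).2 L hL h
  have h2 := isSylowTwoIn_map (MulAut.conj x) hsA
  rw [← e] at h2
  obtain ⟨l, -, hlS⟩ := sylowTwoIn_conj hs h2
  have e1 : Nat.card ↥((S : Subgroup G).map (MulAut.conj l).toMonoidHom) = Nat.card (S : Subgroup G) :=
    card_map_of_injective (MulAut.conj l).injective
  have e2 : Nat.card ↥(T'.map (MulAut.conj x).toMonoidHom) = Nat.card T' :=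
    card_map_of_injective (MulAut.conj x).injective
  rw [hlS, e2] at e1
  omega

/-- An involution of a small pair with centralizer in `L` is the common point. -/
theorem eq_point_of_centralizer_le {T' A B LA LB L : Subgroup G} (N : NcPair T' A B LA LB) (S : Sylow 2 G)
    (hs : Setting L (S : Subgroup G)) (hL : IsMaximalTwoLocal L)
    (hlt : Nat.card T' < Nat.card (S : Subgroup G)) (hT'L : T' ≤ L) (hA : ¬ A ≤ L)
    (hNL : normalizer (thompsonSubgroupOf 2 (S : Subgroup G) : Set G) ≤ L) {z : G}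
    (hzA : IsPoint T' A z) (hzB : IsPoint T' B z) (hzS : ∀ s ∈ (S : Subgroup G), s * z = z * s)
    (hzL : centralizer ({z} : Set G) ≤ L)
    {u : G} (hu : u ∈ wKer T' A) (hu1 : u ≠ 1) (huL : centralizer ({u} : Set G) ≤ L) : u = z := by
  by_contra huz
  -- centralizers of fixed parts cannot lie in `L`
  have key : ∀ {A B LA LB : Subgroup G}, NcPair T' A B LA LB → ∀ h ∈ jFix T' A, h ≠ 1 → ∀ x : G,
      ¬ centralizer ({x * h * x⁻¹} : Set G) ≤ L := by
    intro A B LA LB N h hh h1 x hle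
    refine not_map_le S hs.syl hL.1 N.va.set.syl N.va.uq.1 hlt x (le_trans ?_ hle)
    rintro _ ⟨l, hl, rfl⟩
    have hlh : h * l = l * h := by
      refine mem_centralizer_iff.1 ?_ h hh
      have hle : LA ≤ centralizer (jFix T' A : Set G) := by
        rw [N.L_eq]
        exact sup_le (fun k hk => mem_centralizer_iff.2 fun v hv =>
          (mem_centralizer_iff.1 (mem_inf.1 hv).2 k hk).symm)
          ((T_centralizes_jCenter N.va N.vb N.ne).trans (centralizer_le fun v hv => (mem_inf.1 hv).1))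
      exact hle hl
    rw [mem_centralizer_singleton_iff]
    show x * l * x⁻¹ * (x * h * x⁻¹) = x * h * x⁻¹ * (x * l * x⁻¹)
    calc x * l * x⁻¹ * (x * h * x⁻¹) = x * (l * h) * x⁻¹ := by group
      _ = x * (h * l) * x⁻¹ := by rw [hlh]
      _ = _ := by group
  have hzZ : z ∈ jCenter T' := hzA.1
  -- the elements of the center
  have hcen : ∀ v ∈ jCenter T', v ≠ 1 → v ≠ z → ∀ x : G, ¬ centralizer ({x * v * x⁻¹} : Set G) ≤ L := by
    intro v hv hv1 hvz x hle
    have h3 := two_lt_card_jCenter hv hzZ hv1 hzA.2.2 hvz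
    obtain ⟨h, hh, hh1⟩ := jFix_nontrivial_of_four N.va h3
    obtain ⟨h', hh', hh'1⟩ := jFix_nontrivial_of_four N.vb h3
    have hc := card_jCenter N.va.T_two N.va.jc
    have hH := card_jFix_le_two N.va.T_two N.vb.jc N.vb.uq N.va.uq N.ne.symm
    have h4 : Nat.card ↥(jCenter T') = 4 := by omega
    have hzh : z ≠ h := fun e => N.va.not_mem_jFix_point hzA (e ▸ hh)
    have hsq := N.va.W_sq z hzA.2.1
    rcases four_cases h4 hzZ (mem_inf.1 hh).1 hzA.2.2 hh1 hzh hsq hv with e | e | e | e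
    · exact hv1 e
    · exact hvz e
    · exact key N h hh hh1 x (e ▸ hle)
    · rcases four_cases h4 hzZ (mem_inf.1 hh).1 hzA.2.2 hh1 hzh hsq (mem_inf.1 hh').1 with f | f | f | f
      · exact hh'1 f
      · exact N.vb.not_mem_jFix_point hzB (f ▸ hh')
      · exact hh1 (mem_bot.1 (jFix_inf_jFix N.va.uq N.vb.uq N.ne ▸ mem_inf.2 ⟨hh, f ▸ hh'⟩))
      · exact key N.symm h' hh' hh'1 x (by rw [f, ← e]; exact hle)
  have hu' : u ∈ (wOf A : Set G) * (jFix T' A : Set G) := by
    have hsub : jFix T' A ≤ wKer T' A := N.ker_eq_sup ▸ le_sup_right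
    rw [← coe_mul_of_right_le_normalizer_left (wOf A) (jFix T' A)
      ((hsub.trans inf_le_left).trans N.va.T_le_normalizer_W), ← N.ker_eq_sup]
    exact hu
  obtain ⟨w, hw, v, hv, rfl⟩ := hu'
  simp only at hu hu1 huL huz
  by_cases hwz : w = 1 ∨ w = z
  · have hmem : w * v ∈ jCenter T' := by
      refine mul_mem ?_ (mem_inf.1 hv).1
      rcases hwz with h | h <;> rw [h]
      · exact one_mem _
      · exact hzZ
    exact hcen _ hmem hu1 huz 1 (by simpa using huL)
  push Not at hwz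
  obtain ⟨x, hx, hxc, rfl⟩ := N.va.exists_orbit hzA hw hwz.1 hwz.2
  have hxv : x * v * x⁻¹ = v := by
    rw [mem_centralizer_iff.1 (mem_inf.1 hv).2 x hx, mul_inv_cancel_right]
  have e : x * z * x⁻¹ * v = x * (z * v) * x⁻¹ := by
    calc x * z * x⁻¹ * v = x * z * x⁻¹ * (x * v * x⁻¹) := by rw [hxv]
      _ = _ := by group
  rw [e] at huL
  by_cases hv1 : v = 1
  · subst hv1
    rw [mul_one] at huL
    have hxS : (S : Subgroup G).map (MulAut.conj x).toMonoidHom ≤ L := by
      rintro _ ⟨s, hs', rfl⟩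
      refine huL (mem_centralizer_singleton_iff.2 ?_)
      show x * s * x⁻¹ * (x * z * x⁻¹) = x * z * x⁻¹ * (x * s * x⁻¹)
      calc x * s * x⁻¹ * (x * z * x⁻¹) = x * (s * z) * x⁻¹ := by group
        _ = x * (z * s) * x⁻¹ := by rw [hzS s hs']
        _ = _ := by group
    obtain ⟨l, hl, hlS⟩ := sylowTwoIn_conj hs.syl
      (isSylowTwoIn_of_card hs.syl hxS (card_map_of_injective (MulAut.conj x).injective))
    have hn : l⁻¹ * x ∈ normalizer ((S : Subgroup G) : Set G) := by
      refine CfsgLib.LocalEvenB.map_conj_eq_self_iff_mem_normalizer.1 ?_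
      rw [← CfsgLib.LocalEvenB.map_conj_map_conj, ← hlS, map_conj_map_inv]
    have hxL : x ∈ L := by
      have := mul_mem hl (hNL (CfsgLib.LocalEvenB.normalizer_le_normalizer_thompsonSubgroupOf (p := 2) _ hn))
      rwa [mul_inv_cancel_left] at this
    exact hA ((N.va.K_eq_sup hx hxc).ge.trans (sup_le (zpowers_le.2 hxL) (N.va.core_le_T.trans hT'L)))
  · refine hcen (z * v) (mul_mem hzZ (mem_inf.1 hv).1) ?_ ?_ x huL
    · intro h
      refine N.va.not_mem_jFix_point hzA ?_
      rw [eq_inv_of_mul_eq_one_left h]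
      exact inv_mem hv
    · intro h
      exact hv1 (by simpa using h)

/-- An invariant subgroup meeting a small pair in its point cannot leave it. -/
theorem no_invariant_sub {T' A B LA LB : Subgroup G} (N : NcPair T' A B LA LB) (S : Sylow 2 G)
    (hTS : T' ≤ (S : Subgroup G)) {z : G} (hzA : IsPoint T' A z) {V : Subgroup G}
    (hVS : V ≤ (S : Subgroup G)) (hVn : T' ≤ normalizer (V : Set G)) (hVT : ¬ V ≤ T')
    (hVz : ∀ u ∈ V, u ∈ T' → u = 1 ∨ u = z) : False := by
  have hR : IsPGroup 2 (V ⊔ T' : Subgroup G) := S.isPGroup'.to_le (sup_le hVS hTS)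
  obtain ⟨g, hgR, hgN, hgT, -⟩ := exists_swap hR le_sup_right (fun h => hVT (h ▸ le_sup_left))
  have hg' : g ∈ (V : Set G) * (T' : Set G) := by
    rw [← coe_mul_of_right_le_normalizer_left V T' hVn]
    exact hgR
  obtain ⟨w, hw, t, ht, rfl⟩ := hg'
  have hwT : w ∉ T' := fun h => hgT (mul_mem h ht)
  have hwN : w ∈ normalizer (T' : Set G) := by
    have := mul_mem hgN (inv_mem (le_normalizer ht))
    simpa using this
  have hwW : w ∈ normalizer (wOf A : Set G) := by
    refine CfsgLib.LocalEvenB.mem_normalizer_of_forall fun v hv => ?_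
    have hvT := W_le_T_of_vtx N.va hv
    have h1 : w * v * w⁻¹ * v⁻¹ ∈ T' := mul_mem ((mem_normalizer_iff.1 hwN v).1 hvT) (inv_mem hvT)
    have h2 : w * v * w⁻¹ * v⁻¹ ∈ V := by
      rw [show w * v * w⁻¹ * v⁻¹ = w * (v * w⁻¹ * v⁻¹) by group]
      exact mul_mem hw ((mem_normalizer_iff.1 (hVn hvT) _).1 (inv_mem hw))
    have h3 : w * v * w⁻¹ * v⁻¹ ∈ wOf A := by
      rcases hVz _ h2 h1 with h | h <;> rw [h]
      · exact one_mem _
      · exact hzA.2.1
    simpa using mul_mem h3 hv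
  have hloc : IsTwoLocal (normalizer (wOf A : Set G)) := by
    refine ⟨wOf A, IsPGroup.of_card (n := 2) (by rw [N.va.W_card]; rfl), fun h => ?_, rfl⟩
    have := N.va.W_card
    rw [h, card_bot] at this
    omega
  have he := N.va.uq.1.2 _ hloc (N.L_le_normalizer.trans (normalizer_le_normalizer_wOf A))
  exact hwT (inter_le_of_sylowTwoIn N.va.set.syl S.isPGroup' hTS (mem_inf.2 ⟨he.le hwW, hVS hw⟩))

/-- A maximal straddling subgroup of an overgroup of the Sylow subgroup is a Sylow subgroup. -/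
theorem straddling_eq_sylow (hG : ZNHyp G) (S : Sylow 2 G) {L K : Subgroup G} (hL : IsMaximalTwoLocal L)
    (hs : Setting L (S : Subgroup G)) (hK : IsJComponent (S : Subgroup G) K) (hKL : K ≤ L)
    (hNL : normalizer (thompsonSubgroupOf 2 (S : Subgroup G) : Set G) ≤ L) {T' : Subgroup G}
    (hT : T' ∈ maxStraddlingTwoSubgroups L) (hTS : T' ≤ (S : Subgroup G)) : T' = (S : Subgroup G) := by
  by_contra hne
  obtain ⟨hT2, hT1, hTL, X₀, hX₀, hTX₀, hX₀L⟩ := hT.1
  obtain ⟨g, hgS, hgN, hgT, hg2⟩ := exists_swap S.isPGroup' hTS hne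
  obtain ⟨X, hX, hX₀X⟩ := exists_maximalTwoLocal_ge hX₀
  have hXL : ¬ X ≤ L := fun h => hX₀L (hX₀X.trans h)
  have hTX : T' ≤ X := hTX₀.trans hX₀X
  have hsy := sylow_of_le hT hTX fun T₀ h1 h2 =>
    (max_straddling_overgroup hG.ch hG.solv hG.hZ S hNL hT hX.1 hXL h1 h2).2.1
  have hset := (max_straddling_overgroup hG.ch hG.solv hG.hZ S hNL hT hX.1 hXL hsy (thompsonSubgroupOf_le T')).2.2
  have hNJ' := normalizer_thompson_le S hNL hT
  obtain ⟨E, hE, hEX, hEL⟩ := exists_component_outside hset hTL hNJ' hXL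
  have hUE := uq_outside hG S hNL hT hE hEL hX (sup_le hEX ((thompsonSubgroupOf_le T').trans hTX))
  have hgX : g ∉ X := fun h => hgT (inter_le_of_sylowTwoIn hsy S.isPGroup' hTS (mem_inf.2 ⟨h, hgS⟩))
  have hgJ := CfsgLib.LocalEvenB.normalizer_le_normalizer_thompsonSubgroupOf (p := 2) T' hgN
  obtain ⟨-, vE⟩ := swap_pair hG hset hX hE hEX hUE hgJ hgX
  obtain ⟨N, z, hzA, hzB, hgz⟩ := swap_common vE hgN hgX hg2
  have hlt : Nat.card T' < Nat.card (S : Subgroup G) :=
    lt_of_le_of_ne (card_le_of_le hTS) fun h => hne (eq_of_le_of_card_ge hTS h.ge)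
  -- fixed elements of the center of the pair
  have hfixed : ∀ u ∈ jCenter T', g * u = u * g → u = 1 ∨ u = z := by
    intro u hu hgu
    by_contra h0
    push Not at h0
    have h3 := two_lt_card_jCenter hu hzA.1 h0.1 hzA.2.2 h0.2
    obtain ⟨h, hh, hh1⟩ := jFix_nontrivial_of_four N.va h3
    have hc := card_jCenter N.va.T_two N.va.jc
    have hH := card_jFix_le_two N.va.T_two N.vb.jc N.vb.uq N.va.uq N.ne.symm
    have h4 : Nat.card ↥(jCenter T') = 4 := by omega
    have hh' := map_jFix hgJ hh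
    have hgh : g * h * g⁻¹ = h := by
      rcases four_cases h4 hzA.1 hu hzA.2.2 h0.1 (Ne.symm h0.2) (N.va.W_sq z hzA.2.1) (mem_inf.1 hh).1
        with e | e | e | e
      · exact absurd e hh1
      · exact absurd (e ▸ hh) (N.va.not_mem_jFix_point hzA)
      · rw [e, hgu, mul_inv_cancel_right]
      · rw [e, mul_inv_eq_iff_eq_mul, ← mul_assoc, hgz, mul_assoc, hgu, ← mul_assoc]
    rw [hgh] at hh'
    exact hh1 (mem_bot.1 (jFix_inf_jFix N.va.uq N.vb.uq N.ne ▸ mem_inf.2 ⟨hh, hh'⟩))
  -- the point is central in `S`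
  have hzS : ∀ s ∈ (S : Subgroup G), s * z = z * s := by
    have hZne : omegaCenterOf (S : Subgroup G) ≠ ⊥ := by
      intro h0
      have hc := hG.hZ S
      rw [h0] at hc
      have htop : normalizer ((S : Subgroup G) : Set G) = ⊤ := top_unique (le_trans (fun x _ =>
        mem_centralizer_iff.2 fun y hy => by rw [mem_bot.1 hy, one_mul, mul_one]) hc)
      exact hs.jnot ((thompsonSubgroupOf_le _).trans
        (CfsgLib.LocalEvenB.le_pCoreOf hs.syl.1 S.isPGroup' (le_top.trans htop.ge)))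
    obtain ⟨y, hy, hy1⟩ := (Subgroup.bot_or_exists_ne_one _).resolve_left hZne
    have hy' : y ∈ jCenter T' := omegaCenterOf_le_jCenter T' (omegaCenter_sylow_le hset S hTS hy)
    have hyz : y = z := (hfixed y hy' (centralizes_omegaCenterOf hy hgS)).resolve_left hy1
    subst hyz
    exact fun s hs' => centralizes_omegaCenterOf hy hs'
  -- four-groups in `T'`
  have hfour : ∀ V : Subgroup G, Nat.card V = 4 → (∀ v ∈ V, v * v = 1) → g ∈ normalizer (V : Set G) →
      V ≤ T' → V ≤ jCenter T' := by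
    intro V _ hV2 hVg hVT
    rw [← N.inf_eq_jCenter]
    have hcases : V ≤ wKer T' E ∨ V ≤ wKer T' (E.map (MulAut.conj g).toMonoidHom) := by
      by_contra h0
      push Not at h0
      obtain ⟨a, ha, haA⟩ := SetLike.not_le_iff_exists.1 h0.1
      obtain ⟨b, hb, hbB⟩ := SetLike.not_le_iff_exists.1 h0.2
      have ha' := (N.mem_or_mem_of_sq (hVT ha) (hV2 a ha)).resolve_left haA
      have hb' := (N.mem_or_mem_of_sq (hVT hb) (hV2 b hb)).resolve_right hbB
      rcases N.mem_or_mem_of_sq (hVT (mul_mem ha hb)) (hV2 _ (mul_mem ha hb)) with h | h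
      · exact haA (by simpa using mul_mem h (inv_mem hb'))
      · exact hbB (by simpa using mul_mem (inv_mem ha') h)
    have hmap : V.map (MulAut.conj g).toMonoidHom = V :=
      CfsgLib.LocalEvenB.map_conj_eq_self_iff_mem_normalizer.2 hVg
    have hgg : (E.map (MulAut.conj g).toMonoidHom).map (MulAut.conj g).toMonoidHom = E :=
      map_conj_twice vE.norm hg2
    rcases hcases with h | h
    · refine le_inf h ?_
      rw [← hmap, ← wKer_map_eq hgN]
      exact map_mono h
    · refine le_inf ?_ h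
      rw [← hmap, ← hgg, ← wKer_map_eq hgN]
      exact map_mono h
  by_cases hJ : thompsonSubgroupOf 2 T' = thompsonSubgroupOf 2 (S : Subgroup G)
  · -- the four-group of `K`
    have hES := isJComponent_congr hJ.symm hE
    have hUE' : IsUniqueOver (S : Subgroup G) E X := ⟨hX, by rw [← hJ]; exact hUE.2.1,
      fun Y hY hle => hUE.2.2 Y hY (by rw [hJ]; exact hle)⟩
    have vK := vtx_sylow hG S hs hL hK hKL hES hUE' (fun e => hEL (e ▸ hEX))
    obtain ⟨zK, hzK⟩ := vK.exists_isPoint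
    have hjc : jCenter T' = jCenter (S : Subgroup G) := jCenter_congr hJ
    have hzKz : zK = z := (hfixed zK (hjc ▸ hzK.1) (vK.point_fixed hzK hgS)).resolve_left hzK.2.2
    by_cases hWT : wOf K ≤ T'
    · have h1 := hfour _ vK.W_card vK.W_sq (vK.T_le_normalizer_W hgS) hWT
      have h2 := card_jCenter_inf_wOf vK.T_two hK
      rw [inf_eq_right.2 (hjc ▸ h1), vK.W_card] at h2
      omega
    · refine no_invariant_sub N S hTS hzA (W_le_T_of_vtx vK) (hTS.trans vK.T_le_normalizer_W) hWT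
        fun u hu huT => ?_
      by_contra h0
      push Not at h0
      exact hWT (mem_of_two_points vK.W_card vK.W_sq hu (hzKz ▸ hzK.2.1) huT
        (W_le_T_of_vtx N.va hzA.2.1) h0.1 hzA.2.2 h0.2)
  · -- all 2-local subgroups over `J(S)` lie in `L`
    have hall : ∀ Y : Subgroup G, IsTwoLocal Y → thompsonSubgroupOf 2 (S : Subgroup G) ≤ Y → Y ≤ L := by
      intro Y hY hJY
      by_contra hYL
      obtain ⟨T₀, hT₀, hJT₀⟩ := exists_sylowTwoIn_ge (S.isPGroup'.to_le (thompsonSubgroupOf_le _)) hJY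
      have hJ₀ := thompson_eq_of_sylow S hT₀.2.1 hJT₀
      have hT₀L : T₀ ≤ L := fun t ht => hNL (by
        rw [← hJ₀]
        exact CfsgLib.LocalEvenB.normalizer_le_normalizer_thompsonSubgroupOf (p := 2) T₀ (le_normalizer ht))
      have hJne : thompsonSubgroupOf 2 (S : Subgroup G) ≠ ⊥ := fun h => hs.jnot (h ▸ bot_le)
      obtain ⟨h1, h2⟩ := hT.2 T₀ ⟨hT₀.2.1, fun h => hJne (le_bot_iff.1 (h ▸ hJT₀)), hT₀L, Y, hY, hT₀.1, hYL⟩
      have h3 := rank_le_of_thompson_le hJT₀
      have h4 := maxElemAbelianOrder_mono hTS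
      obtain ⟨h5, -⟩ := h2 (by omega)
      rw [hJ₀] at h5
      exact hJ (eq_of_le_of_card_ge (thompson_mono hTS (by omega)) h5)
    have hJS : ∀ v ∈ jCenter (S : Subgroup G), v ≠ 1 → centralizer ({v} : Set G) ≤ L := fun v hv hv1 =>
      hall _ (isTwoLocal_centralizer ((jCenter_elementary _).2 v hv) hv1) fun j hj =>
        mem_centralizer_singleton_iff.2 (mem_centralizer_iff.1 (jCenter_centralizes _ hj) v hv).symm
    have hzL : centralizer ({z} : Set G) ≤ L :=
      hall _ (isTwoLocal_centralizer ((jCenter_elementary T').2 z hzA.1) hzA.2.2) fun j hj =>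
        mem_centralizer_singleton_iff.2 (hzS j (thompsonSubgroupOf_le _ hj))
    obtain ⟨V, hVS, hVn, hV2, hV4, hVc⟩ : ∃ V : Subgroup G, V ≤ (S : Subgroup G) ∧
        (S : Subgroup G) ≤ normalizer (V : Set G) ∧ (∀ v ∈ V, v * v = 1) ∧ 4 ≤ Nat.card V ∧
        ∀ v ∈ V, v ≠ 1 → centralizer ({v} : Set G) ≤ L := by
      have hc := card_jCenter S.isPGroup' hK
      by_cases h4 : 4 ≤ Nat.card ↥(jCenter (S : Subgroup G))
      · exact ⟨_, (jCenter_le _).trans (thompsonSubgroupOf_le _), fun s hs' => jCenter_fixed_normal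
          (CfsgLib.LocalEvenB.normalizer_le_normalizer_thompsonSubgroupOf (p := 2) _ (le_normalizer hs')),
          fun v hv => by rw [← pow_two]; exact (jCenter_elementary _).2 v hv, h4, hJS⟩
      have hH : jFix (S : Subgroup G) K = ⊥ := by
        rw [← Subgroup.card_eq_one]
        have : 0 < Nat.card ↥(jFix (S : Subgroup G) K) := Nat.card_pos
        omega
      have hsingle : ∀ E', IsJComponent (S : Subgroup G) E' → E' ≤ L → E' = K := by
        intro E' hE' hE'L
        by_contra hne'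
        have h2 := card_jCenter_inf_wOf S.isPGroup' hE'
        have hle : jCenter (S : Subgroup G) ⊓ wOf E' ≤ jFix (S : Subgroup G) K :=
          le_inf inf_le_left (inf_le_right.trans (le_centralizer_iff.1
            (le_centralizer_wOf hs hE' hE'L hK hKL (Ne.symm hne'))))
        have := card_le_of_le hle
        rw [hH, card_bot, h2] at this
        omega
      have vK : Vtx (S : Subgroup G) K L := by
        refine ⟨hK, fun s hs' => ?_, hs, hKL, uq_sylow hG S hK hL
          (sup_le hKL ((thompsonSubgroupOf_le _).trans hs.syl.1))⟩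
        obtain ⟨h1, h2⟩ := isJComponent_map hs hK hKL (hs.syl.1 hs')
        exact CfsgLib.LocalEvenB.map_conj_eq_self_iff_mem_normalizer.1 (hsingle _ h1 h2)
      obtain ⟨zK, hzK⟩ := vK.exists_isPoint
      refine ⟨wOf K, W_le_T_of_vtx vK, vK.T_le_normalizer_W, vK.W_sq, vK.W_card.ge, fun v hv hv1 => ?_⟩
      by_cases hvz : v = zK
      · exact hvz ▸ hJS zK hzK.1 hzK.2.2
      obtain ⟨x, hx, -, rfl⟩ := vK.exists_orbit hzK hv hv1 hvz
      intro c hc
      rw [mem_centralizer_singleton_iff] at hc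
      have hc' : x⁻¹ * c * x ∈ L := hJS zK hzK.1 hzK.2.2 (mem_centralizer_singleton_iff.2 (by
        calc x⁻¹ * c * x * zK = x⁻¹ * (c * (x * zK * x⁻¹)) * x := by group
          _ = x⁻¹ * (x * zK * x⁻¹ * c) * x := by rw [hc]
          _ = zK * (x⁻¹ * c * x) := by group))
      have := mul_mem (mul_mem (hKL hx) hc') (inv_mem (hKL hx))
      rwa [show x * (x⁻¹ * c * x) * x⁻¹ = c by group] at this
    have hgL : g ∈ L := hs.syl.1 hgS
    have hEgL : ¬ E.map (MulAut.conj g).toMonoidHom ≤ L := by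
      intro h
      apply hEL
      intro e he
      have h1 := h ⟨e, he, rfl⟩
      have := mul_mem (mul_mem (inv_mem hgL) h1) hgL
      simpa [mul_assoc] using this
    have hVz : ∀ u ∈ V, u ∈ T' → u = 1 ∨ u = z := by
      intro u hu huT
      by_cases hu1 : u = 1
      · exact Or.inl hu1
      refine Or.inr ?_
      rcases N.mem_or_mem_of_sq huT (hV2 u hu) with h | h
      · exact eq_point_of_centralizer_le N S hs hL hlt hTL hEL hNL hzA hzB hzS hzL h hu1 (hVc u hu hu1)
      · exact eq_point_of_centralizer_le N.symm S hs hL hlt hTL hEgL hNL hzB hzA hzS hzL h hu1 (hVc u hu hu1)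
    refine no_invariant_sub N S hTS hzA hVS (hTS.trans hVn) (fun hVT => ?_) hVz
    have hle : V ≤ zpowers z := fun u hu => by
      rcases hVz u hu (hVT hu) with h | h <;> rw [h]
      · exact one_mem _
      · exact mem_zpowers z
    have := card_le_of_le hle
    rw [Nat.card_zpowers, orderOf_eq_prime ((jCenter_elementary T').2 z hzA.1) hzA.2.2] at this
    omega

/-- Some 2-local subgroup straddles an overgroup of a Sylow subgroup. -/
theorem straddling_nonempty (hG : ZNHyp G) (hO : Cfsg.pCore 2 G = ⊥) (S : Sylow 2 G) {L : Subgroup G}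
    (hL : IsMaximalTwoLocal L) (hs : Setting L (S : Subgroup G))
    (hNL : normalizer (thompsonSubgroupOf 2 (S : Subgroup G) : Set G) ≤ L) :
    (straddlingTwoSubgroups L).Nonempty := by
  by_contra hemp
  rw [Set.not_nonempty_iff_eq_empty] at hemp
  obtain ⟨hLtop, hLeven, hLodd⟩ :=
    (Cfsg.Agent.S2947.result hG.ch hG.solv hG.hZ hO S L hL.1 hNL).2 hemp
  have hconjL : ∀ (g x : G), x ∈ L → orderOf x = 2 → g * x * g⁻¹ ∈ L → g ∈ L := by
    intro g x hx hx2 hgx
    by_contra hg
    have hd : orderOf (g * x * g⁻¹) ∣ Nat.card ↥(L ⊓ L.map (MulAut.conj g).toMonoidHom) :=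
      Subgroup.orderOf_dvd_natCard _ (mem_inf.2 ⟨hgx, x, hx, rfl⟩)
    rw [CfsgLib.Signalizer.orderOf_conj, hx2] at hd
    exact Nat.not_even_iff_odd.2 (hLodd g hg) (even_iff_two_dvd.2 hd)
  have hC : ∀ i ∈ L, orderOf i = 2 → centralizer ({i} : Set G) ≤ L := fun i hi hi2 c hc =>
    hconjL c i hi hi2 (by rw [mem_centralizer_singleton_iff.1 hc, mul_inv_cancel_right]; exact hi)
  have hcore : Odd (Nat.card L.normalCore) := by
    have hNQ : L.normalCore ⊓ pCoreOf 2 L = ⊥ := by
      have hle : L.normalCore ⊓ pCoreOf 2 L ≤ pCoreOf 2 L.normalCore := by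
        refine CfsgLib.LocalEvenB.le_pCoreOf inf_le_left ((pCoreOf_two L).to_le inf_le_right) ?_
        exact (le_inf le_normalizer ((normalCore_le L).trans (le_normalizer_pCoreOf_self L))).trans
          inf_normalizer_le_normalizer_inf
      have h1 : pCoreOf 2 L.normalCore ≤ ⊥ := by
        rw [← hO]
        haveI hn : (pCoreOf 2 L.normalCore).Normal := by
          refine ⟨fun u hu g => ?_⟩
          have hmap : L.normalCore.map (MulAut.conj g).toMonoidHom = L.normalCore :=
            CfsgLib.LocalEvenB.map_conj_eq_self_iff_mem_normalizer.2 (by rw [normalizer_eq_top]; exact mem_top g)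
          have h2 := pCoreOf_map_inj (p := 2) (MulAut.conj g).toMonoidHom (MulAut.conj g).injective L.normalCore
          rw [hmap] at h2
          have h3 : g * u * g⁻¹ ∈ (pCoreOf 2 L.normalCore).map (MulAut.conj g).toMonoidHom := ⟨u, hu, rfl⟩
          rwa [h2] at h3
        exact CfsgLib.Core.le_pCore (p := 2) (pCoreOf_two _)
      exact eq_bot_iff.2 (hle.trans h1)
    have hNC : L.normalCore ≤ pCoreOf 2 L := by
      refine le_trans (fun n hn => mem_centralizer_iff.2 fun q hq => ?_) hs.self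
      have h : n * q * n⁻¹ * q⁻¹ ∈ L.normalCore ⊓ pCoreOf 2 L := by
        refine mem_inf.2 ⟨?_, mul_mem ((mem_normalizer_iff.1
          (le_normalizer_pCoreOf_self L (normalCore_le L hn)) q).1 hq) (inv_mem hq)⟩
        rw [show n * q * n⁻¹ * q⁻¹ = n * (q * n⁻¹ * q⁻¹) by group]
        exact mul_mem hn ((inferInstance : L.normalCore.Normal).conj_mem _ (inv_mem hn) q)
      rw [hNQ, mem_bot] at h
      exact (mul_inv_eq_iff_eq_mul.1 (mul_inv_eq_one.1 h)).symm
    rw [eq_bot_iff.2 ((le_inf le_rfl hNC).trans hNQ.le), card_bot]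
    exact odd_one
  have hconj : ∀ x y : G, orderOf x = 2 → orderOf y = 2 → IsConj x y := fun x y hx hy =>
    CfsgLib.Techniques.all_involutions_conj hC hLeven hcore hx hy
  have hZne : omegaCenterOf (S : Subgroup G) ≠ ⊥ := by
    intro h0
    have hc := hG.hZ S
    rw [h0] at hc
    have htop : normalizer ((S : Subgroup G) : Set G) = ⊤ := top_unique (le_trans (fun x _ =>
      mem_centralizer_iff.2 fun y hy => by rw [mem_bot.1 hy, one_mul, mul_one]) hc)
    exact hs.jnot ((thompsonSubgroupOf_le _).trans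
      (CfsgLib.LocalEvenB.le_pCoreOf hs.syl.1 S.isPGroup' (le_top.trans htop.ge)))
  obtain ⟨y, hy, hy1⟩ := (Subgroup.bot_or_exists_ne_one _).resolve_left hZne
  have hy2 := orderOf_eq_prime (p := 2) ((JData.omegaCenter_elementary _).2 y hy) hy1
  have hQS : pCoreOf 2 L ≤ (S : Subgroup G) := by
    intro q hq
    obtain ⟨q', hq', rfl⟩ := hq
    exact CfsgLib.Core.pCore_le_sylow ((S.isPGroup'.comap_subtype (K := L)).toSylow
      (fun hd => Nat.not_even_iff_odd.2 hs.syl.2.2 (even_iff_two_dvd.2 hd))) hq'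
  have hyQ : y ∈ omegaCenterOf (pCoreOf 2 L) := by
    have hc : ∀ q ∈ pCoreOf 2 L, q * y = y * q := fun q hq => centralizes_omegaCenterOf hy (hQS hq)
    exact mem_omegaCenterOf (hs.self (mem_centralizer_iff.2 hc)) hc ((JData.omegaCenter_elementary _).2 y hy)
  apply hs.jnot
  refine thompsonSubgroupOf_le_iff.2 fun A hA a ha => ?_
  by_cases ha1 : a = 1
  · rw [ha1]; exact one_mem _
  have ha2 := orderOf_eq_prime (p := 2) (hA.elem.2 a ha) ha1
  have haL : a ∈ L := hs.syl.1 (hA.le ha)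
  obtain ⟨c, hc⟩ := isConj_iff.1 (hconj y a hy2 ha2)
  have hcL : c ∈ L := hconjL c y (hs.syl.1 (omegaCenterOf_le_self _ hy)) hy2 (hc ▸ haL)
  refine omegaCenterOf_le_self _ ?_
  rw [← hc]
  exact (mem_normalizer_iff.1 (mem_normalizer_omegaCenterOf (le_normalizer_pCoreOf_self L hcL)) y).1 hyQ

/-- A second maximal overgroup over a Sylow 2-subgroup. -/
theorem exists_second_sylow (hG : ZNHyp G) (hO : Cfsg.pCore 2 G = ⊥) (S : Sylow 2 G) {L K : Subgroup G}
    (hL : IsMaximalTwoLocal L) (hs : Setting L (S : Subgroup G)) (hK : IsJComponent (S : Subgroup G) K)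
    (hKL : K ≤ L) :
    ∃ D LD, L ≠ LD ∧ Vtx (S : Subgroup G) K L ∧ Vtx (S : Subgroup G) D LD := by
  have hU := uq_sylow hG S hK hL (sup_le hKL ((thompsonSubgroupOf_le _).trans hs.syl.1))
  by_cases hNL : normalizer (thompsonSubgroupOf 2 (S : Subgroup G) : Set G) ≤ L
  · obtain ⟨T₁, hT₁, hmax⟩ := Set.exists_max_image (straddlingTwoSubgroups L)
      (fun U => toLex (maxElemAbelianOrder U, toLex (Nat.card ↥(thompsonSubgroupOf 2 U), Nat.card U)))
      (Set.toFinite _) (straddling_nonempty hG hO S hL hs hNL)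
    have hT₁max : T₁ ∈ maxStraddlingTwoSubgroups L := by
      refine ⟨hT₁, fun U hU => ?_⟩
      have h := hmax U hU
      simp only [Prod.Lex.le_iff, ofLex_toLex] at h
      rcases h with h | ⟨h1, h⟩
      · exact ⟨h.le, fun e => absurd e h.ne⟩
      refine ⟨h1.le, fun _ => ?_⟩
      rcases h with h | ⟨h2, h3⟩
      · exact ⟨h.le, fun e => absurd e h.ne⟩
      · exact ⟨h2.le, fun _ => h3⟩
    obtain ⟨T₂, hT₂, hT₁T₂⟩ := exists_sylowTwoIn_ge hT₁.1 hT₁.2.2.1
    obtain ⟨l, hl, hlT⟩ := sylowTwoIn_conj hT₂ hs.syl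
    have hT' := mem_maxStraddling_map hl hT₁max
    have hTS : T₁.map (MulAut.conj l).toMonoidHom ≤ (S : Subgroup G) := hlT ▸ map_mono hT₁T₂
    have heq := straddling_eq_sylow hG S hL hs hK hKL hNL hT' hTS
    rw [heq] at hT'
    obtain ⟨-, -, -, X₀, hX₀, hSX₀, hX₀L⟩ := hT'.1
    obtain ⟨X, hX, hX₀X⟩ := exists_maximalTwoLocal_ge hX₀
    have hXL : ¬ X ≤ L := fun h => hX₀L (hX₀X.trans h)
    obtain ⟨-, -, hset⟩ := max_straddling_overgroup hG.ch hG.solv hG.hZ S hNL hT' hX.1 hXL
      (isSylowTwoIn_of_sylow S (hSX₀.trans hX₀X)) (thompsonSubgroupOf_le _)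
    obtain ⟨D, hD, hDX, hDL⟩ := exists_component_outside hset hs.syl.1 hNL hXL
    have hne : L ≠ X := fun e => hDL (e ▸ hDX)
    have hUD := uq_sylow hG S hD hX (sup_le hDX ((thompsonSubgroupOf_le _).trans hset.syl.1))
    exact ⟨D, X, hne, vtx_sylow hG S hs hL hK hKL hD hUD hne, vtx_sylow hG S hset hX hD hDX hK hU hne.symm⟩
  · obtain ⟨u, hu, huL⟩ := SetLike.not_le_iff_exists.1 hNL
    obtain ⟨hne, vK⟩ := swap_pair hG hs hL hK hKL hU hu huL
    exact ⟨_, _, hne, vK, vK.conj (normalizer_thompson_le_sylow hG S vK (isJComponent_conj_normalizer hK hu)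
      (isUniqueOver_map hU hu) hne hu)⟩

end CfsgLib.LocalEvenB.JOver
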