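import Cfsg.Agent.Lib.LocalEvenB.JOver.Crossing

/-!
# Two components of a Sylow 2-subgroup with different overgroups
-/

set_option autoImplicit false
set_option linter.all false

namespace CfsgLib.LocalEvenB.JOver

open Subgroup Cfsg
open scoped commutatorElement Pointwise

variable {G : Type*} [Group G] [Finite G]

/-- 2-groups over the Thompson subgroup of a Sylow subgroup share it. -/
theorem thompson_eq_of_sylow (S : Sylow 2 G) {U : Subgroup G} (hU : IsPGroup 2 U)
    (hJ : thompsonSubgroupOf 2 (S : Subgroup G) ≤ U) :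
    thompsonSubgroupOf 2 U = thompsonSubgroupOf 2 (S : Subgroup G) := by
  haveI : Fact (Nat.Prime 2) := ⟨Nat.prime_two⟩
  obtain ⟨P, hUP⟩ := hU.exists_le_sylow
  obtain ⟨g, hg⟩ := MulAction.exists_smul_eq G S P
  have hP : (S : Subgroup G).map (MulAut.conj g).toMonoidHom = (P : Subgroup G) := by rw [← hg]; rfl
  have hr : maxElemAbelianOrder (P : Subgroup G) = maxElemAbelianOrder (S : Subgroup G) := by
    rw [← hP, maxElemAbelianOrder_map_conj]
  have h1 := rank_le_of_thompson_le hJ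
  have h2 := maxElemAbelianOrder_mono hUP
  have hle : thompsonSubgroupOf 2 (S : Subgroup G) ≤ thompsonSubgroupOf 2 U := by
    refine thompsonSubgroupOf_le_iff.2 fun A hA => le_thompsonSubgroupOf
      ⟨(le_thompsonSubgroupOf hA).trans hJ, hA.elem, fun C hC hCe => ?_⟩
    obtain ⟨B, hB⟩ := exists_isBig U
    have h3 := hB.max C hC hCe
    have h4 := maxElemAbelianOrder_eq hA
    have h5 := maxElemAbelianOrder_eq hB
    omega
  have h6 := thompson_mono hUP (by omega)
  refine (eq_of_le_of_card_ge hle ?_).symm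
  refine (card_le_of_le h6).trans ?_
  rw [← hP, thompson_map_conj, card_map_of_injective (MulAut.conj g).injective]

/-- Subgroups over a component meet the hypotheses on overgroups. -/
theorem setting_of_component (hG : ZNHyp G) {T T₀ K X : Subgroup G} (hK : IsJComponent T K)
    (hX : IsTwoLocal X) (hKX : K ≤ X) (hT₀ : IsSylowTwoIn T₀ X)
    (hJ : thompsonSubgroupOf 2 T₀ = thompsonSubgroupOf 2 T) : Setting X T₀ := by
  refine ⟨hT₀, fun hle => ?_, self_of_isTwoLocal hG.ch hX, hG.solv X hX, hG.hZ⟩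
  rw [hJ] at hle
  have hKQ : K ≤ pCoreOf 2 X := by
    refine hK.2.1.ge.trans (commutator_le.2 fun k hk j hj => ?_)
    rw [commutatorElement_def]
    exact mul_mem ((mem_normalizer_iff.1 (le_normalizer_pCoreOf_self X (hKX hk)) j).1 (hle hj)) (inv_mem (hle hj))
  have htop : Cfsg.pCore 2 ↥K = ⊤ :=
    top_unique (CfsgLib.Core.le_pCore (p := 2) (((pCoreOf_two X).to_le hKQ).of_equiv topEquiv.symm))
  have hidx := hK.2.2.1
  rw [pCoreOf, htop, ← MonoidHom.range_eq_map, K.range_subtype, relIndex_self] at hidx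
  omega

/-- All components of a Sylow 2-subgroup have unique maximal overgroups. -/
theorem uq_sylow (hG : ZNHyp G) (S : Sylow 2 G) {K L : Subgroup G} (hK : IsJComponent (S : Subgroup G) K)
    (hL : IsMaximalTwoLocal L) (hKL : K ⊔ thompsonSubgroupOf 2 (S : Subgroup G) ≤ L) :
    IsUniqueOver (S : Subgroup G) K L := by
  refine ⟨hL, hKL, fun X hX hKX => unique_of_settings S.isPGroup' hK (fun Y hY hKY => ?_) hX hL hKX hKL⟩
  obtain ⟨T₀, hT₀, hJT₀⟩ :=
    exists_sylowTwoIn_ge (S.isPGroup'.to_le (thompsonSubgroupOf_le _)) (le_sup_right.trans hKY)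
  have hJ := thompson_eq_of_sylow S hT₀.2.1 hJT₀
  exact ⟨T₀, hJ, setting_of_component hG hK hY.1 (le_sup_left.trans hKY) hT₀ hJ⟩

/-- A component in an overgroup of a Sylow subgroup is a vertex when there is another overgroup. -/
theorem vtx_sylow (hG : ZNHyp G) (S : Sylow 2 G) {K L D LD : Subgroup G} (hs : Setting L (S : Subgroup G))
    (hL : IsMaximalTwoLocal L) (hK : IsJComponent (S : Subgroup G) K) (hKL : K ≤ L)
    (hD : IsJComponent (S : Subgroup G) D) (hUD : IsUniqueOver (S : Subgroup G) D LD) (hne : L ≠ LD) :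
    Vtx (S : Subgroup G) K L := by
  have hU := uq_sylow hG S hK hL (sup_le hKL ((thompsonSubgroupOf_le _).trans hs.syl.1))
  exact ⟨hK, norm_of_second hG hs hK hKL hU hD hUD hne, hs, hKL, hU⟩

variable {T A B LA LB : Subgroup G}

/-- With a second overgroup, `T` centralises `Ω₁(Z(J(T)))`. -/
theorem T_centralizes_jCenter' (va : Vtx T A LA) (hD : IsJComponent T B) (hUD : IsUniqueOver T B LB) (hne : LA ≠ LB) :
    T ≤ centralizer (jCenter T : Set G) := fun t ht =>
  centralizes_jCenter va.T_two va.jc (card_jFix_le_two va.T_two hD hUD va.uq hne.symm)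
    (CfsgLib.LocalEvenB.normalizer_le_normalizer_thompsonSubgroupOf (p := 2) T (le_normalizer ht)) (va.norm ht)

theorem jCenter_eq_omegaCenter' (va : Vtx T A LA) (hD : IsJComponent T B) (hUD : IsUniqueOver T B LB)
    (hne : LA ≠ LB) : omegaCenterOf T = jCenter T :=
  le_antisymm (omegaCenterOf_le_jCenter T) fun u hu => mem_omegaCenterOf
    ((jCenter_le T).trans (thompsonSubgroupOf_le T) hu)
    (fun r hr => (mem_centralizer_iff.1 (T_centralizes_jCenter' va hD hUD hne hr) u hu).symm)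
    ((jCenter_elementary T).2 u hu)

theorem T_centralizes_jCenter (va : Vtx T A LA) (vb : Vtx T B LB) (hne : LA ≠ LB) :
    T ≤ centralizer (jCenter T : Set G) := T_centralizes_jCenter' va vb.jc vb.uq hne

theorem jCenter_eq_omegaCenter (va : Vtx T A LA) (vb : Vtx T B LB) (hne : LA ≠ LB) :
    omegaCenterOf T = jCenter T := jCenter_eq_omegaCenter' va vb.jc vb.uq hne

theorem card_jCenter_le_four (va : Vtx T A LA) (vb : Vtx T B LB) (hne : LA ≠ LB) :
    Nat.card ↥(jCenter T) ≤ 4 := by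
  rw [card_jCenter va.T_two va.jc]
  have := card_jFix_le_two va.T_two vb.jc vb.uq va.uq hne.symm
  omega

theorem eq_of_mem_jFix_small (hc : Nat.card ↥(jFix T A) ≤ 2) {u w : G} (hu : u ∈ jFix T A) (hw : w ∈ jFix T A)
    (hu1 : u ≠ 1) (hw1 : w ≠ 1) : u = w := by
  by_contra hne
  have hinj : Function.Injective ![(1 : jFix T A), ⟨u, hu⟩, ⟨w, hw⟩] := by
    intro i j hij
    fin_cases i <;> fin_cases j <;> simp_all [Subtype.ext_iff, eq_comm]
  have := Nat.card_le_card_of_injective _ hinj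
  simp at this
  omega

/-- Of two different points one is fixed by the other component. -/
theorem cross_or (va : Vtx T A LA) (vb : Vtx T B LB) (hne : LA ≠ LB) {za zb : G} (hza : IsPoint T A za)
    (hzb : IsPoint T B zb) (hz : za ≠ zb) : za ∈ jFix T B ∨ zb ∈ jFix T A := by
  have h3 := two_lt_card_jCenter hza.1 hzb.1 hza.2.2 hzb.2.2 hz
  have hH := card_jFix_le_two va.T_two vb.jc vb.uq va.uq hne.symm
  have hc := card_jCenter va.T_two va.jc
  have h4 : Nat.card ↥(jCenter T) = 4 := by omega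
  have hsq : za * za = 1 := va.W_sq za hza.2.1
  obtain ⟨ha, hha, hha1⟩ := jFix_nontrivial_of_four va h3
  obtain ⟨hb, hhb, hhb1⟩ := jFix_nontrivial_of_four vb h3
  rcases four_cases h4 hza.1 hzb.1 hza.2.2 hzb.2.2 hz hsq (mem_inf.1 hha).1 with e | e | e | e
  · exact absurd e hha1
  · exact absurd (e ▸ hha) (va.not_mem_jFix_point hza)
  · exact Or.inr (e ▸ hha)
  rcases four_cases h4 hza.1 hzb.1 hza.2.2 hzb.2.2 hz hsq (mem_inf.1 hhb).1 with f | f | f | f
  · exact absurd f hhb1
  · exact Or.inl (f ▸ hhb)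
  · exact absurd (f ▸ hhb) (vb.not_mem_jFix_point hzb)
  · exfalso
    have hmem : ha ∈ jFix T A ⊓ jFix T B := mem_inf.2 ⟨hha, by rw [e, ← f]; exact hhb⟩
    rw [jFix_inf_jFix va.uq vb.uq hne] at hmem
    exact hha1 (mem_bot.1 hmem)

/-- The normalizer of `J(S)` normalises `S` when there are two overgroups. -/
theorem normalizer_thompson_le_sylow (hG : ZNHyp G) (S : Sylow 2 G) {A B LA LB : Subgroup G}
    (va : Vtx (S : Subgroup G) A LA) (hB : IsJComponent (S : Subgroup G) B) (hUB : IsUniqueOver (S : Subgroup G) B LB)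
    (hne : LA ≠ LB) :
    normalizer (thompsonSubgroupOf 2 (S : Subgroup G) : Set G) ≤ normalizer ((S : Subgroup G) : Set G) := by
  haveI : Fact (Nat.Prime 2) := ⟨Nat.prime_two⟩
  intro u hu
  set R := (S : Subgroup G).map (MulAut.conj u).toMonoidHom with hR
  have hc : R ≤ centralizer (jCenter (S : Subgroup G) : Set G) := by
    rintro _ ⟨s, hs, rfl⟩
    refine mem_centralizer_iff.2 fun v hv => ?_
    have hv' : u⁻¹ * v * u ∈ jCenter (S : Subgroup G) :=
      (mem_normalizer_iff''.1 (jCenter_fixed_normal hu) v).1 hv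
    have h := mem_centralizer_iff.1 (T_centralizes_jCenter' va hB hUB hne hs) _ hv'
    show v * (u * s * u⁻¹) = u * s * u⁻¹ * v
    calc v * (u * s * u⁻¹) = u * ((u⁻¹ * v * u) * s) * u⁻¹ := by group
      _ = u * (s * (u⁻¹ * v * u)) * u⁻¹ := by rw [h]
      _ = _ := by group
  have hRN : R ≤ normalizer ((S : Subgroup G) : Set G) := by
    refine le_trans ?_ (hG.hZ S)
    rw [← jCenter_eq_omegaCenter' va hB hUB hne] at hc
    exact hc
  have hsup : IsPGroup 2 (R ⊔ (S : Subgroup G) : Subgroup G) :=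
    IsPGroup.to_sup_of_normal_right' (S.isPGroup'.map _) S.isPGroup' hRN
  have hle : R ≤ (S : Subgroup G) := le_sup_left.trans (S.is_maximal' hsup le_sup_right).le
  exact CfsgLib.LocalEvenB.map_conj_eq_self_iff_mem_normalizer.1
    (eq_of_le_of_card_ge hle (card_map_of_injective (MulAut.conj u).injective).ge)

/-- Some pair of components of a Sylow subgroup has a common point. -/
theorem exists_common_sylow (hG : ZNHyp G) (S : Sylow 2 G) {K L : Bool → Subgroup G}
    (P : VtxPair (S : Subgroup G) K L) :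
    ∃ K' L' : Bool → Subgroup G, VtxPair (S : Subgroup G) K' L' ∧
      ∃ z, ∀ i, IsPoint (S : Subgroup G) (K' i) z := by
  by_contra hno
  have hinj : ∀ D LD D' LD' z, Vtx (S : Subgroup G) D LD → Vtx (S : Subgroup G) D' LD' →
      IsPoint (S : Subgroup G) D z → IsPoint (S : Subgroup G) D' z → LD = LD' := by
    intro D LD D' LD' z v v' h h'
    by_contra hne
    exact hno ⟨fun i => bif i then D else D', fun i => bif i then LD else LD',
      ⟨fun i => by cases i <;> assumption, hne⟩, z, fun i => by cases i <;> assumption⟩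
  -- only one component in an overgroup fixing the point of another vertex
  have hsingle : ∀ {A LA B LB : Subgroup G} {za : G}, Vtx (S : Subgroup G) A LA → Vtx (S : Subgroup G) B LB →
      LA ≠ LB → IsPoint (S : Subgroup G) A za → za ∈ jFix (S : Subgroup G) B →
      ∀ E, IsJComponent (S : Subgroup G) E → E ≤ LB → E = B := by
    intro A LA B LB za va vb hne hza hzaB E hE hEL
    by_contra hEB
    have ve := vtx_sylow hG S vb.set vb.uq.1 hE hEL va.jc va.uq hne.symm
    obtain ⟨y, hy⟩ := ve.exists_isPoint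
    have hyB : y ∈ jFix (S : Subgroup G) B := mem_inf.2 ⟨hy.1, mem_centralizer_iff.2 fun k hk =>
      (mem_centralizer_iff.1 (le_centralizer_wOf vb.set hE hEL vb.jc vb.le (Ne.symm hEB) hk) y hy.2.1).symm⟩
    have := eq_of_mem_jFix_small (card_jFix_le_two va.T_two va.jc va.uq vb.uq hne) hyB hzaB hy.2.2 hza.2.2
    exact hne (hinj _ _ _ _ _ va ve hza (this ▸ hy))
  choose z hz using fun i => (P.v i).exists_isPoint
  have hzne : ∀ i, z i ≠ z (!i) := fun i h =>
    P.L_ne i (hinj _ _ _ _ _ (P.v i) (P.v (!i)) (hz i) (h ▸ hz (!i)))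
  obtain ⟨i, j, h, hh, hnc⟩ := P.exists_triple hz
  by_cases hi : z i ∈ jFix (S : Subgroup G) (K (!i))
  · exact no_crossing (P.v i) (P.v (!i)) (P.L_ne i) (hz i) hi (hsingle (P.v i) (P.v (!i)) (P.L_ne i) (hz i) hi)
      (fun D LD v hD => (hinj _ _ _ _ _ (P.v i) v (hz i) hD).symm) (P.v j) (hz j) hh hnc
  have ho : z (!i) ∈ jFix (S : Subgroup G) (K i) :=
    (cross_or (P.v i) (P.v (!i)) (P.L_ne i) (hz i) (hz (!i)) (hzne i)).resolve_left hi
  set X := centralizer ({z i} : Set G) with hXdef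
  have hXloc : IsTwoLocal X := isTwoLocal_centralizer ((jCenter_elementary _).2 _ (hz i).1) (hz i).2.2
  have hSX : (S : Subgroup G) ≤ X := fun s hs => mem_centralizer_singleton_iff.2 ((P.v i).point_fixed (hz i) hs)
  have hodd : Odd ((S : Subgroup G).relIndex X) :=
    Odd.of_dvd_nat (Nat.odd_iff.2 (Nat.two_dvd_ne_zero.1 S.not_dvd_index)) (relIndex_dvd_index_of_le hSX)
  have hsX : IsSylowTwoIn (S : Subgroup G) X := ⟨hSX, S.isPGroup', hodd⟩
  by_cases hJ : thompsonSubgroupOf 2 (S : Subgroup G) ≤ pCoreOf 2 X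
  · have hXN : X ≤ normalizer (thompsonSubgroupOf 2 (S : Subgroup G) : Set G) := by
      have hQS : pCoreOf 2 X ≤ (S : Subgroup G) := by
        intro q hq
        obtain ⟨q', hq', rfl⟩ := hq
        exact CfsgLib.Core.pCore_le_sylow ((S.isPGroup'.comap_subtype (K := X)).toSylow
          (fun hd => Nat.not_even_iff_odd.2 hodd (even_iff_two_dvd.2 hd))) hq'
      rw [← thompson_eq_of_between hQS hJ]
      exact fun x hx => CfsgLib.LocalEvenB.normalizer_le_normalizer_thompsonSubgroupOf (p := 2) _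
        (le_normalizer_pCoreOf_self X hx)
    have hTh : (S : Subgroup G).map (MulAut.conj h).toMonoidHom ≤ X := by
      rintro _ ⟨t, ht, rfl⟩
      refine mem_centralizer_singleton_iff.2 ?_
      show h * t * h⁻¹ * z i = z i * (h * t * h⁻¹)
      rw [hh]
      calc h * t * h⁻¹ * (h * z j * h⁻¹) = h * (t * z j) * h⁻¹ := by group
        _ = h * (z j * t) * h⁻¹ := by rw [(P.v j).point_fixed (hz j) ht]
        _ = h * z j * h⁻¹ * (h * t * h⁻¹) := by group
    obtain ⟨c, hc, hcS⟩ := sylowTwoIn_conj hsX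
      (isSylowTwoIn_of_card hsX hTh (card_map_of_injective (MulAut.conj h).injective))
    have hhJ : h ∈ normalizer (thompsonSubgroupOf 2 (S : Subgroup G) : Set G) := by
      refine CfsgLib.LocalEvenB.map_conj_eq_self_iff_mem_normalizer.1 ?_
      rw [← thompson_map_conj, ← hcS, thompson_map_conj]
      exact CfsgLib.LocalEvenB.map_conj_eq_self_iff_mem_normalizer.2 (hXN hc)
    have hhS := normalizer_thompson_le_sylow hG S (P.v true) (P.v false).jc (P.v false).uq P.ne hhJ
    have vc := (P.v j).conj hhS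
    have hzc := isPoint_conj (hz j) hhJ
    rw [← hh] at hzc
    have hL := hinj _ _ _ _ _ (P.v i) vc (hz i) hzc
    have hK := component_eq_of_point (P.v i) vc.jc (hL ▸ vc.le) (hz i) hzc
    apply hnc
    rw [wOf_map, hK]
    exact W_self_comm (P.v i)
  · have hs : Setting X (S : Subgroup G) :=
      ⟨hsX, hJ, self_of_isTwoLocal hG.ch hXloc, hG.solv X hXloc, hG.hZ⟩
    obtain ⟨F⟩ := nonempty_frame hs
    obtain ⟨K₃, hK₃, hK₃X, -, -⟩ := exists_jComponent hs F ⟨0, F.n_pos⟩
    obtain ⟨L₃, hL₃, hXL⟩ := exists_maximalTwoLocal_ge hXloc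
    have hS₃ : IsSylowTwoIn (S : Subgroup G) L₃ := ⟨hSX.trans hXL, S.isPGroup',
      Odd.of_dvd_nat (Nat.odd_iff.2 (Nat.two_dvd_ne_zero.1 S.not_dvd_index))
        (relIndex_dvd_index_of_le (hSX.trans hXL))⟩
    have hs₃ := setting_of_component hG hK₃ hL₃.1 (hK₃X.trans hXL) hS₃ rfl
    have hz₃ : z i ∈ jFix (S : Subgroup G) K₃ := mem_inf.2 ⟨(hz i).1, mem_centralizer_iff.2 fun k hk =>
      mem_centralizer_singleton_iff.1 (hK₃X hk)⟩
    have hL₃i : L₃ ≠ L i := by
      intro he
      have hKne : K₃ ≠ K i := fun e => (P.v i).not_mem_jFix_point (hz i) (e ▸ hz₃)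
      have hLio : L₃ ≠ L (!i) := he ▸ P.L_ne i
      have v₃ := vtx_sylow hG S hs₃ hL₃ hK₃ (hK₃X.trans hXL) (P.v (!i)).jc (P.v (!i)).uq hLio
      obtain ⟨y, hy⟩ := v₃.exists_isPoint
      have hyi : y ∈ jFix (S : Subgroup G) (K i) := mem_inf.2 ⟨hy.1, mem_centralizer_iff.2 fun k hk =>
        (mem_centralizer_iff.1 (le_centralizer_wOf hs₃ hK₃ (hK₃X.trans hXL) (P.v i).jc (he ▸ (P.v i).le)
          (Ne.symm hKne) hk) y hy.2.1).symm⟩
      have := eq_of_mem_jFix_small (card_jFix_le_two (P.v i).T_two (P.v (!i)).jc (P.v (!i)).uq (P.v i).uq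
        (P.L_ne i).symm) hyi ho hy.2.2 (hz (!i)).2.2
      exact hLio (hinj _ _ _ _ _ v₃ (P.v (!i)) (this ▸ hy) (hz (!i)))
    have v₃ := vtx_sylow hG S hs₃ hL₃ hK₃ (hK₃X.trans hXL) (P.v i).jc (P.v i).uq hL₃i
    exact no_crossing (P.v i) v₃ hL₃i.symm (hz i) hz₃ (hsingle (P.v i) v₃ hL₃i.symm (hz i) hz₃)
      (fun D LD v hD => (hinj _ _ _ _ _ (P.v i) v (hz i) hD).symm) (P.v j) (hz j) hh hnc

end CfsgLib.LocalEvenB.JOver
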