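import Cfsg.Agent.Lib.LocalEvenB.JOver.Shape

/-!
# A vertex moved by the normalizer of `T`
-/

set_option autoImplicit false
set_option linter.all false

namespace CfsgLib.LocalEvenB.JOver

open Subgroup Cfsg
open scoped commutatorElement Pointwise

variable {G : Type*} [Group G] [Finite G]

theorem uq_outside (hG : ZNHyp G) {M T : Subgroup G} (S : Sylow 2 G)
    (hMJ : normalizer (thompsonSubgroupOf 2 (S : Subgroup G) : Set G) ≤ M) (hT : T ∈ maxStraddlingTwoSubgroups M)
    {K L : Subgroup G} (hK : IsJComponent T K) (hKM : ¬ K ≤ M) (hL : IsMaximalTwoLocal L)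
    (hKL : K ⊔ thompsonSubgroupOf 2 T ≤ L) : IsUniqueOver T K L :=
  ⟨hL, hKL, fun X hX hKX => unique_maximal_overgroup hG.ch hG.solv hG.hZ S hMJ hT hK hKM hX hL hKX hKL⟩

theorem inter_le_of_sylowTwoIn {L T R : Subgroup G} (h : IsSylowTwoIn T L) (hR : IsPGroup 2 R) (hTR : T ≤ R) :
    L ⊓ R ≤ T := by
  haveI : Fact (Nat.Prime 2) := ⟨Nat.prime_two⟩
  intro x hx
  let P : Sylow 2 ↥L := (h.2.1.comap_subtype (K := L)).toSylow
    (fun hd => Nat.not_even_iff_odd.2 h.2.2 (even_iff_two_dvd.2 hd))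
  have hle : (P : Subgroup ↥L) ≤ R.subgroupOf L := fun y hy => hTR (mem_subgroupOf.1 hy)
  have e : R.subgroupOf L = P := P.is_maximal' (hR.comap_subtype (K := L)) hle
  have hx' : (⟨x, (mem_inf.1 hx).1⟩ : ↥L) ∈ (P : Subgroup ↥L) := by
    rw [← e]
    exact mem_subgroupOf.2 (mem_inf.1 hx).2
  exact mem_subgroupOf.1 hx'

/-- A 2-element normalising `T` with square in `T`. -/
theorem exists_swap {T R : Subgroup G} (hR : IsPGroup 2 R) (hTR : T ≤ R) (hne : T ≠ R) :
    ∃ g ∈ R, g ∈ normalizer (T : Set G) ∧ g ∉ T ∧ g * g ∈ T := by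
  haveI : Fact (Nat.Prime 2) := ⟨Nat.prime_two⟩
  have hlt : T.subgroupOf R < ⊤ := lt_top_iff_ne_top.2 fun h => hne (le_antisymm hTR (subgroupOf_eq_top.1 h))
  haveI := hR.isNilpotent
  obtain ⟨g, hg, hgT⟩ := SetLike.exists_of_lt (Group.normalizerCondition_of_isNilpotent _ hlt)
  have hgN : (g : G) ∈ normalizer (T : Set G) := CfsgLib.LocalEvenB.mem_normalizer_of_forall fun t ht =>
    (mem_normalizer_iff.1 hg ⟨t, hTR ht⟩).1 ht
  have hgT' : (g : G) ∉ T := fun h => hgT (mem_subgroupOf.2 h)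
  classical
  obtain ⟨a, ha⟩ := hR g
  have hex : ∃ n, (g : G) ^ 2 ^ n ∈ T := ⟨a, by
    rw [show (g : G) ^ 2 ^ a = 1 from congrArg Subtype.val ha]; exact one_mem _⟩
  obtain ⟨b, hb⟩ : ∃ b, Nat.find hex = b + 1 := by
    rcases Nat.eq_zero_or_eq_succ_pred (Nat.find hex) with h | h
    · exact absurd (by simpa [h] using Nat.find_spec hex) hgT'
    · exact ⟨_, h⟩
  refine ⟨(g : G) ^ 2 ^ b, pow_mem g.2 _, pow_mem hgN _, Nat.find_min hex (by omega), ?_⟩
  have h := Nat.find_spec hex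
  rw [hb, pow_succ, pow_mul, pow_two] at h
  exact h

theorem map_jFix {T K : Subgroup G} {g u : G} (hg : g ∈ normalizer (thompsonSubgroupOf 2 T : Set G))
    (hu : u ∈ jFix T K) : g * u * g⁻¹ ∈ jFix T (K.map (MulAut.conj g).toMonoidHom) := by
  refine mem_inf.2 ⟨(mem_normalizer_iff.1 (jCenter_fixed_normal hg) u).1 (mem_inf.1 hu).1,
    mem_centralizer_iff.2 ?_⟩
  rintro _ ⟨k, hk, rfl⟩
  show g * k * g⁻¹ * (g * u * g⁻¹) = g * u * g⁻¹ * (g * k * g⁻¹)
  calc g * k * g⁻¹ * (g * u * g⁻¹) = g * (k * u) * g⁻¹ := by group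
    _ = g * (u * k) * g⁻¹ := by rw [mem_centralizer_iff.1 (mem_inf.1 hu).2 k hk]
    _ = _ := by group

theorem map_conj_twice {T K : Subgroup G} (hn : T ≤ normalizer (K : Set G)) {g : G} (hg : g * g ∈ T) :
    (K.map (MulAut.conj g).toMonoidHom).map (MulAut.conj g).toMonoidHom = K := by
  rw [CfsgLib.LocalEvenB.map_conj_map_conj]
  exact CfsgLib.LocalEvenB.map_conj_eq_self_iff_mem_normalizer.2 (hn hg)

/-- A moved component gives a pair. -/
theorem swap_pair (hG : ZNHyp G) {T K L : Subgroup G} (hs : Setting L T) (hL : IsMaximalTwoLocal L)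
    (hK : IsJComponent T K) (hKL : K ≤ L) (hU : IsUniqueOver T K L) {g : G}
    (hg : g ∈ normalizer (thompsonSubgroupOf 2 T : Set G)) (hgL : g ∉ L) :
    L ≠ L.map (MulAut.conj g).toMonoidHom ∧ Vtx T K L := by
  have hne : L ≠ L.map (MulAut.conj g).toMonoidHom := fun h => hgL
    ((normalizer_of_maximal hL (pCoreOf_ne_bot_of_setting hs)).le
      (CfsgLib.LocalEvenB.map_conj_eq_self_iff_mem_normalizer.1 h.symm))
  exact ⟨hne, hK, norm_of_second hG hs hK hKL hU (isJComponent_conj_normalizer hK hg) (isUniqueOver_map hU hg) hne,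
    hs, hKL, hU⟩

/-- A vertex and its image under an element with square in `T` share their point. -/
theorem swap_common {T A LA : Subgroup G} (va : Vtx T A LA) {g : G} (hg : g ∈ normalizer (T : Set G))
    (hgL : g ∉ LA) (hg2 : g * g ∈ T) :
    NcPair T A (A.map (MulAut.conj g).toMonoidHom) LA (LA.map (MulAut.conj g).toMonoidHom) ∧
      ∃ z, IsPoint T A z ∧ IsPoint T (A.map (MulAut.conj g).toMonoidHom) z ∧ g * z = z * g := by
  have hgJ := CfsgLib.LocalEvenB.normalizer_le_normalizer_thompsonSubgroupOf (p := 2) T hg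
  have vb := va.conj hg
  set B := A.map (MulAut.conj g).toMonoidHom with hB
  set LB := LA.map (MulAut.conj g).toMonoidHom with hLB
  have hne : LA ≠ LB := fun h => hgL
    ((normalizer_of_maximal va.uq.1 (pCoreOf_ne_bot_of_setting va.set)).le
      (CfsgLib.LocalEvenB.map_conj_eq_self_iff_mem_normalizer.1 h.symm))
  obtain ⟨za, hza⟩ := va.exists_isPoint
  have hzb := isPoint_conj hza hgJ
  set zb := g * za * g⁻¹ with hzbdef
  have hzz : g * zb * g⁻¹ = za := by
    rw [hzbdef, show g * (g * za * g⁻¹) * g⁻¹ = (g * g) * za * (g * g)⁻¹ by group, va.point_fixed hza hg2,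
      mul_inv_cancel_right]
  let K : Bool → Subgroup G := fun i => bif i then A else B
  let L : Bool → Subgroup G := fun i => bif i then LA else LB
  have P : VtxPair T K L := ⟨fun i => by cases i <;> assumption, hne⟩
  by_cases heq : za = zb
  · have N := ncPair_of_common P (z := za) (fun i => by
      cases i
      · exact heq ▸ hzb
      · exact hza)
    exact ⟨N, za, hza, heq ▸ hzb, by rw [← mul_inv_eq_iff_eq_mul]; exact heq.symm⟩
  exfalso
  have hBg : B.map (MulAut.conj g).toMonoidHom = A := map_conj_twice va.norm hg2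
  have hcross : za ∈ jFix T B ∧ zb ∈ jFix T A := by
    rcases cross_or va vb hne hza hzb heq with h | h
    · exact ⟨h, hBg ▸ map_jFix hgJ h⟩
    · have h2 := map_jFix hgJ h
      rw [hzz] at h2
      exact ⟨h2, h⟩
  let z : Bool → G := fun i => bif i then za else zb
  have hz : ∀ i, IsPoint T (K i) (z i) := fun i => by cases i <;> assumption
  have hfix : ∀ i, z i ∈ jFix T (K (!i)) := fun i => by
    cases i
    · exact hcross.2
    · exact hcross.1
  have hswap : ∀ i, g * z i * g⁻¹ = z (!i) := fun i => by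
    cases i
    · exact hzz
    · rfl
  refine P.no_two_way hz hfix fun i D LD vd hzd => ?_
  by_contra hLD
  have hzo : IsPoint T (K (!i)) (z (!i)) := hz (!i)
  have hfixo : z (!i) ∈ jFix T (K i) := by simpa using hfix (!i)
  have hz12 : z i ≠ z (!i) := fun h => (P.v (!i)).not_mem_jFix_point hzo (h ▸ hfix i)
  have h3 := two_lt_card_jCenter (hz i).1 hzo.1 (hz i).2.2 hzo.2.2 hz12
  have hH := card_jFix_le_two va.T_two vb.jc vb.uq va.uq hne.symm
  have hcard := card_jCenter va.T_two va.jc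
  have h4 : Nat.card ↥(jCenter T) = 4 := by omega
  obtain ⟨c, hc, hc1⟩ := jFix_nontrivial_of_four vd h3
  rcases four_cases h4 (hz i).1 hzo.1 (hz i).2.2 hzo.2.2 hz12 ((P.v i).W_sq _ (hz i).2.1) (mem_inf.1 hc).1
    with e | e | e | e
  · exact hc1 e
  · exact vd.not_mem_jFix_point hzd (e ▸ hc)
  · exact hc1 (mem_bot.1 (jFix_inf_jFix vd.uq (P.v i).uq hLD ▸ mem_inf.2 ⟨hc, e ▸ hfixo⟩))
  · -- the third involution is fixed by `g`
    have hgc : g * c * g⁻¹ = c := by
      have h2 : g * z (!i) * g⁻¹ = z i := by simpa using hswap (!i)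
      rw [e, show g * (z i * z (!i)) * g⁻¹ = (g * z i * g⁻¹) * (g * z (!i) * g⁻¹) by group, hswap i, h2]
      exact CfsgLib.PLocal.comm_of_mem (jCenter_elementary T).1 hzo.1 (hz i).1
    have vg := vd.conj hg
    have hc' : c ∈ jFix T (D.map (MulAut.conj g).toMonoidHom) := hgc ▸ map_jFix hgJ hc
    by_cases hLg : LD = LD.map (MulAut.conj g).toMonoidHom
    · have hgD : g ∈ LD := (normalizer_of_maximal vd.uq.1 (pCoreOf_ne_bot_of_setting vd.set)).le
        (CfsgLib.LocalEvenB.map_conj_eq_self_iff_mem_normalizer.1 hLg.symm)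
      haveI : Fact (Nat.Prime 2) := ⟨Nat.prime_two⟩
      have hR : IsPGroup 2 (zpowers g ⊔ T : Subgroup G) := by
        refine IsPGroup.to_sup_of_normal_right' ?_ va.T_two (zpowers_le.2 hg)
        obtain ⟨k, hk⟩ := va.T_two ⟨g * g, hg2⟩
        have hk' : (g * g) ^ 2 ^ k = 1 := congrArg Subtype.val hk
        rw [← pow_two, ← pow_mul, ← pow_succ'] at hk'
        intro u
        refine ⟨k + 1, Subtype.ext ?_⟩
        obtain ⟨m, hm⟩ := mem_zpowers_iff.1 u.2
        rw [SubmonoidClass.coe_pow, ← hm, ← zpow_natCast, zpow_comm, zpow_natCast, hk', one_zpow]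
        rfl
      exact hgL (va.set.syl.1 (inter_le_of_sylowTwoIn vd.set.syl hR le_sup_right
        (mem_inf.2 ⟨hgD, mem_sup_left (mem_zpowers g)⟩)))
    · exact hc1 (mem_bot.1 (jFix_inf_jFix vd.uq vg.uq hLg ▸ mem_inf.2 ⟨hc, hc'⟩))

end CfsgLib.LocalEvenB.JOver
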