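import Cfsg.Prelude.Def_JComponents
import Cfsg.Agent.Lib.LocalEvenB.ThompsonOf

/-!
# Largest elementary abelian subgroups of a subgroup, inside the ambient group
-/

set_option autoImplicit false
set_option linter.all false

namespace CfsgLib.LocalEvenB.JOver

open Subgroup Cfsg CfsgLib.PLocal

variable {G : Type*} [Group G] [Finite G]

/-- `A` is an elementary abelian subgroup of largest order of `T`. -/
structure IsBig (T A : Subgroup G) : Prop where
  le : A ≤ T
  elem : IsElementaryAbelian 2 A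
  max : ∀ B : Subgroup G, B ≤ T → IsElementaryAbelian 2 B → Nat.card B ≤ Nat.card A

theorem exists_isBig (T : Subgroup G) : ∃ A, IsBig T A := by
  obtain ⟨A, hA, hmax⟩ := Set.exists_max_image {A : Subgroup G | A ≤ T ∧ IsElementaryAbelian 2 A}
    (fun A => Nat.card A) (Set.toFinite _) ⟨⊥, bot_le, elementary_bot⟩
  exact ⟨A, hA.1, hA.2, fun B h1 h2 => hmax B ⟨h1, h2⟩⟩

theorem isBig_iff {T A : Subgroup G} :
    IsBig T A ↔ A ≤ T ∧ A.subgroupOf T ∈ maxElementaryAbelianSubgroups 2 T := by
  constructor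
  · intro h
    refine ⟨h.le, elementary_comap T.subtype T.subtype_injective h.elem, fun B hB => ?_⟩
    rw [← card_map_of_injective T.subtype T.subtype_injective (A.subgroupOf T),
      ← card_map_of_injective T.subtype T.subtype_injective B, subgroupOf_map_subtype, inf_eq_left.2 h.le]
    exact h.max _ (map_subtype_le B) (elementary_map T.subtype hB)
  · rintro ⟨hle, hA⟩
    have he : (A.subgroupOf T).map T.subtype = A := by rw [subgroupOf_map_subtype, inf_eq_left.2 hle]
    refine ⟨hle, he ▸ elementary_map T.subtype hA.1, fun B hB hBe => ?_⟩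
    have h := hA.2 (B.subgroupOf T) (elementary_comap T.subtype T.subtype_injective hBe)
    rw [← card_map_of_injective T.subtype T.subtype_injective (A.subgroupOf T), he,
      ← card_map_of_injective T.subtype T.subtype_injective (B.subgroupOf T), subgroupOf_map_subtype,
      inf_eq_left.2 hB] at h
    exact h

theorem le_thompsonSubgroupOf {T A : Subgroup G} (h : IsBig T A) : A ≤ thompsonSubgroupOf 2 T := by
  intro x hx
  exact ⟨⟨x, h.le hx⟩, le_thompson (isBig_iff.1 h).2 hx, rfl⟩

theorem thompsonSubgroupOf_le_iff {T N : Subgroup G} :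
    thompsonSubgroupOf 2 T ≤ N ↔ ∀ A, IsBig T A → A ≤ N := by
  refine ⟨fun h A hA => (le_thompsonSubgroupOf hA).trans h, fun h => ?_⟩
  rw [thompsonSubgroupOf, map_le_iff_le_comap]
  refine sSup_le fun A hA => map_le_iff_le_comap.1 (h _ (isBig_iff.2 ⟨map_subtype_le A, ?_⟩))
  rwa [subgroupOf, comap_map_eq_self_of_injective T.subtype_injective]

theorem thompsonSubgroupOf_ne_bot {T : Subgroup G} (hT : IsPGroup 2 T) (h : T ≠ ⊥) :
    thompsonSubgroupOf 2 T ≠ ⊥ := by
  haveI : Fact (Nat.Prime 2) := ⟨Nat.prime_two⟩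
  obtain ⟨k, hk⟩ := hT.exists_card_eq
  have hk0 : k ≠ 0 := fun h0 => h (Subgroup.card_eq_one.1 (by rw [hk, h0, pow_zero]))
  intro hb
  refine thompson_ne_bot (G := T) (p := 2) (hk ▸ dvd_pow_self 2 hk0) ?_
  rwa [thompsonSubgroupOf, map_eq_bot_iff_of_injective _ T.subtype_injective] at hb

/-- A subgroup between the Thompson subgroup and `T` has the same one. -/
theorem thompson_eq_of_between {U T : Subgroup G} (hU : U ≤ T) (hJ : thompsonSubgroupOf 2 T ≤ U) :
    thompsonSubgroupOf 2 U = thompsonSubgroupOf 2 T := by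
  obtain ⟨A₀, hA₀⟩ := exists_isBig T
  have hA₀U : A₀ ≤ U := (le_thompsonSubgroupOf hA₀).trans hJ
  refine le_antisymm (thompsonSubgroupOf_le_iff.2 fun A hA => le_thompsonSubgroupOf
    ⟨hA.le.trans hU, hA.elem, fun B h1 h2 => (hA₀.max B h1 h2).trans (hA.max A₀ hA₀U hA₀.elem)⟩) ?_
  exact thompsonSubgroupOf_le_iff.2 fun A hA => le_thompsonSubgroupOf
    ⟨(le_thompsonSubgroupOf hA).trans hJ, hA.elem, fun B h1 h2 => hA.max B (h1.trans hU) h2⟩

theorem maxElemAbelianOrder_eq {T A : Subgroup G} (h : IsBig T A) :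
    maxElemAbelianOrder T = Nat.card A := by
  have hmem := (isBig_iff.1 h).2
  have hc : Nat.card (A.subgroupOf T) = Nat.card A := Nat.card_congr (subgroupOfEquivOfLe h.le).toEquiv
  have hset : ((fun A : Subgroup ↥T => Nat.card ↥A) '' maxElementaryAbelianSubgroups 2 ↥T) = {Nat.card A} := by
    ext k
    constructor
    · rintro ⟨B, hB, rfl⟩
      exact hc ▸ le_antisymm (hmem.2 B hB.1) (hB.2 _ hmem.1)
    · rintro rfl
      exact ⟨_, hmem, hc⟩
  rw [maxElemAbelianOrder, hset, csSup_singleton]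

theorem maxElemAbelianOrder_mono {U T : Subgroup G} (hU : U ≤ T) :
    maxElemAbelianOrder U ≤ maxElemAbelianOrder T := by
  obtain ⟨A, hA⟩ := exists_isBig U
  obtain ⟨B, hB⟩ := exists_isBig T
  rw [maxElemAbelianOrder_eq hA, maxElemAbelianOrder_eq hB]
  exact hB.max A (hA.le.trans hU) hA.elem

/-- When `U ≤ T` have equal rank, `J(U) ≤ J(T)`. -/
theorem thompson_mono {U T : Subgroup G} (hU : U ≤ T) (hr : maxElemAbelianOrder T ≤ maxElemAbelianOrder U) :
    thompsonSubgroupOf 2 U ≤ thompsonSubgroupOf 2 T := by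
  obtain ⟨B, hB⟩ := exists_isBig T
  refine thompsonSubgroupOf_le_iff.2 fun A hA => le_thompsonSubgroupOf
    ⟨hA.le.trans hU, hA.elem, fun C h1 h2 => ?_⟩
  rw [maxElemAbelianOrder_eq hA, maxElemAbelianOrder_eq hB] at hr
  exact (hB.max C h1 h2).trans hr

/-- When the largest elementary abelian subgroups of `U` (one of them) fit into `T`. -/
theorem rank_le_of_thompson_le {U T : Subgroup G} (h : thompsonSubgroupOf 2 U ≤ T) :
    maxElemAbelianOrder U ≤ maxElemAbelianOrder T := by
  obtain ⟨A, hA⟩ := exists_isBig U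
  obtain ⟨B, hB⟩ := exists_isBig T
  rw [maxElemAbelianOrder_eq hA, maxElemAbelianOrder_eq hB]
  exact hB.max A ((le_thompsonSubgroupOf hA).trans h) hA.elem

theorem thompson_map_conj (g : G) (T : Subgroup G) :
    thompsonSubgroupOf 2 (T.map (MulAut.conj g).toMonoidHom) =
      (thompsonSubgroupOf 2 T).map (MulAut.conj g).toMonoidHom := by
  have key : ∀ (g : G) (T : Subgroup G), thompsonSubgroupOf 2 T ≤
      (thompsonSubgroupOf 2 (T.map (MulAut.conj g).toMonoidHom)).comap (MulAut.conj g).toMonoidHom := by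
    intro g T
    refine thompsonSubgroupOf_le_iff.2 fun A hA => map_le_iff_le_comap.1 (le_thompsonSubgroupOf
      ⟨map_mono hA.le, elementary_map _ hA.elem, fun B hB hBe => ?_⟩)
    have hB' : B.map (MulAut.conj g).symm.toMonoidHom ≤ T := by
      rintro _ ⟨b, hb, rfl⟩
      obtain ⟨t, ht, rfl⟩ := hB hb
      simpa [mul_assoc] using ht
    have := hA.max _ hB' (elementary_map _ hBe)
    rwa [card_map_of_injective _ (MulEquiv.injective _), ← card_map_of_injective (MulAut.conj g).toMonoidHom
      (MulEquiv.injective _) A] at this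
  refine le_antisymm ?_ (map_le_iff_le_comap.2 (key g T))
  intro x hx
  have := key g⁻¹ (T.map (MulAut.conj g).toMonoidHom) hx
  rw [mem_comap, Subgroup.map_map] at this
  have e : ((MulAut.conj g⁻¹).toMonoidHom.comp (MulAut.conj g).toMonoidHom) = MonoidHom.id G := by
    refine MonoidHom.ext fun y => ?_
    show g⁻¹ * (g * y * g⁻¹) * g⁻¹⁻¹ = y
    group
  rw [e, Subgroup.map_id] at this
  exact ⟨_, this, by simp [mul_assoc]⟩

end CfsgLib.LocalEvenB.JOver
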