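import Cfsg.Agent.Lib.LocalEvenB.JOver.Straddling
import Cfsg.Agent.Lib.LocalEvenB.CharP

/-!
# Uniqueness of the maximal 2-local overgroup of a component
-/

set_option autoImplicit false
set_option linter.all false

namespace CfsgLib.LocalEvenB.JOver

open Subgroup Cfsg
open scoped commutatorElement

/-- Components only see the Thompson subgroup. -/
theorem isJComponent_congr {G : Type*} [Group G] {T T' K : Subgroup G}
    (h : thompsonSubgroupOf 2 T' = thompsonSubgroupOf 2 T) (hK : IsJComponent T K) : IsJComponent T' K := by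
  obtain ⟨h1, h2, h3, h4, h5, h6⟩ := hK
  refine ⟨h1, by rw [h]; exact h2, h3, fun S hS hJS => ?_, h5, h6⟩
  rw [h] at hS hJS ⊢
  exact h4 S hS hJS

variable {G : Type*} [Group G] [Finite G]

theorem exists_maximalTwoLocal_ge {X : Subgroup G} (hX : IsTwoLocal X) :
    ∃ L, IsMaximalTwoLocal L ∧ X ≤ L := by
  obtain ⟨L, hL, hmax⟩ := Set.exists_max_image {L : Subgroup G | IsTwoLocal L ∧ X ≤ L} (fun L => Nat.card L)
    (Set.toFinite _) ⟨X, hX, le_rfl⟩
  exact ⟨L, ⟨hL.1, fun N hN hLN => (eq_of_le_of_card_ge hLN (hmax N ⟨hN, hL.2.trans hLN⟩)).symm⟩, hL.2⟩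

/-- A component inside an overgroup is a factor. -/
theorem comp_of_jComponent {L T : Subgroup G} (F : Frame L (thompsonSubgroupOf 2 T) (pCoreOf 2 L))
    {D : Subgroup G} (hD : IsJComponent T D) (hDL : D ≤ L) : Comp F D :=
  comp_of_comm F hDL hD.1 hD.2.1 hD.2.2.1

/-- Conjugates of components inside an overgroup are components. -/
theorem isJComponent_map {L T : Subgroup G} (h : Setting L T) {D : Subgroup G} (hD : IsJComponent T D)
    (hDL : D ≤ L) {l : G} (hl : l ∈ L) :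
    IsJComponent T (D.map (MulAut.conj l).toMonoidHom) ∧ D.map (MulAut.conj l).toMonoidHom ≤ L := by
  obtain ⟨F⟩ := nonempty_frame h
  have hC' := (comp_of_jComponent F hD hDL).conj hl
  obtain ⟨j, hj⟩ := hC'.exists_index
  obtain ⟨E, hE, hEL, hEC, hEi⟩ := exists_jComponent h F j
  rw [hEC.eq_of_same_index hC' hEi hj]
  exact ⟨hE, hEL⟩

theorem wOf_le_core {L T : Subgroup G} (h : Setting L T) {D : Subgroup G} (hD : IsJComponent T D) (hDL : D ≤ L) :
    wOf D ≤ pCoreOf 2 L := by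
  obtain ⟨F⟩ := nonempty_frame h
  have hC := comp_of_jComponent F hD hDL
  obtain ⟨S', hd⟩ := exists_jData h.syl.2.1 hD
  intro w hw
  have hwc : w ∈ pCoreOf 2 D := omegaCenterOf_le_self _ (hd.W_le_omega hw)
  exact (hC.core_ker (y := ⟨w, hC.le (map_subtype_le _ hwc)⟩) hwc).2

/-- Different components in an overgroup centralise each other's four-group. -/
theorem le_centralizer_wOf {L T : Subgroup G} (h : Setting L T) {D E : Subgroup G} (hD : IsJComponent T D)
    (hDL : D ≤ L) (hE : IsJComponent T E) (hEL : E ≤ L) (hne : E ≠ D) : E ≤ centralizer (wOf D : Set G) := by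
  obtain ⟨F⟩ := nonempty_frame h
  have hDC := comp_of_jComponent F hD hDL
  have hEC := comp_of_jComponent F hE hEL
  obtain ⟨i, hi⟩ := hDC.exists_index
  obtain ⟨j, hj⟩ := hEC.exists_index
  obtain ⟨S', hd⟩ := exists_jData h.syl.2.1 hD
  obtain ⟨c, hcK, hco, hcc⟩ := hd.exists_odd_not_centralizing
  refine hDC.centralizes hEC hi hj (fun hij => ?_) hd.wcard hd.wsq hd.Q_centralizes_W hcK hco hcc
  subst hij
  exact hne (hDC.eq_of_same_index hEC hi hj)

/-- The join of the four-groups of the components inside `L`. -/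
def wAll (T L : Subgroup G) : Subgroup G :=
  ⨆ D : {D : Subgroup G // IsJComponent T D ∧ D ≤ L}, wOf (D : Subgroup G)

theorem le_normalizer_wAll {L T : Subgroup G} (h : Setting L T) : L ≤ normalizer (wAll T L : Set G) := by
  intro l hl
  refine CfsgLib.LocalEvenB.mem_normalizer_of_forall fun x hx => ?_
  have hle : wAll T L ≤ (wAll T L).comap (MulAut.conj l).toMonoidHom := by
    refine iSup_le fun D => map_le_iff_le_comap.1 ?_
    rw [wOf_map]
    exact le_iSup_of_le (⟨_, isJComponent_map h D.2.1 D.2.2 hl⟩ : {D : Subgroup G // IsJComponent T D ∧ D ≤ L})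
      le_rfl
  exact hle hx

/-- A maximal 2-local overgroup is the normalizer of the join of its four-groups. -/
theorem eq_normalizer_wAll {L T : Subgroup G} (h : Setting L T) (hmax : IsMaximalTwoLocal L) {K : Subgroup G}
    (hK : IsJComponent T K) (hKL : K ≤ L) : L = normalizer (wAll T L : Set G) := by
  have hle : wAll T L ≤ pCoreOf 2 L := iSup_le fun D => wOf_le_core h D.2.1 D.2.2
  have hne : wAll T L ≠ ⊥ := by
    intro h0
    obtain ⟨S', hd⟩ := exists_jData h.syl.2.1 hK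
    apply hd.W_ne_bot
    rw [eq_bot_iff, ← h0]
    exact le_iSup_of_le (⟨K, hK, hKL⟩ : {D : Subgroup G // IsJComponent T D ∧ D ≤ L}) le_rfl
  exact (hmax.2 _ ⟨_, (pCoreOf_two L).to_le hle, hne, rfl⟩ (le_normalizer_wAll h)).symm

/-- The maximal 2-local subgroup over a component is unique when all of them keep the Thompson subgroup. -/
theorem unique_of_settings {T : Subgroup G} (hT2 : IsPGroup 2 T) {K : Subgroup G} (hK : IsJComponent T K)
    (hset : ∀ X : Subgroup G, IsMaximalTwoLocal X → K ⊔ thompsonSubgroupOf 2 T ≤ X →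
      ∃ T₀, thompsonSubgroupOf 2 T₀ = thompsonSubgroupOf 2 T ∧ Setting X T₀)
    {L L' : Subgroup G} (hm : IsMaximalTwoLocal L) (hm' : IsMaximalTwoLocal L')
    (hKL : K ⊔ thompsonSubgroupOf 2 T ≤ L) (hKL' : K ⊔ thompsonSubgroupOf 2 T ≤ L') : L = L' := by
  obtain ⟨S', hd⟩ := exists_jData hT2 hK
  have hloc : IsTwoLocal (normalizer (wOf K : Set G)) :=
    ⟨_, IsPGroup.of_card (n := 2) (by rw [hd.wcard]; rfl), hd.W_ne_bot, rfl⟩
  obtain ⟨X, hX, hNX⟩ := exists_maximalTwoLocal_ge hloc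
  suffices key : ∀ L : Subgroup G, IsMaximalTwoLocal L → K ⊔ thompsonSubgroupOf 2 T ≤ L → L = X by
    rw [key L hm hKL, key L' hm' hKL']
  intro L hm hKL
  have hKX : K ⊔ thompsonSubgroupOf 2 T ≤ X := hd.le_normalizer_W.trans hNX
  obtain ⟨T₁, hJ₁, hs₁⟩ := hset L hm hKL
  obtain ⟨T₂, hJ₂, hs₂⟩ := hset X hX hKX
  have hcL : ∀ D, IsJComponent T₁ D → D ≤ L → D ≤ X := by
    intro D hD hDL
    rcases eq_or_ne D K with rfl | hne
    · exact le_sup_left.trans hKX
    · exact ((le_centralizer_wOf hs₁ (isJComponent_congr hJ₁ hK) (le_sup_left.trans hKL) hD hDL hne).trans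
        (centralizer_le_normalizer _)).trans hNX
  have heq₁ := eq_normalizer_wAll hs₁ hm (isJComponent_congr hJ₁ hK) (le_sup_left.trans hKL)
  have heq₂ := eq_normalizer_wAll hs₂ hX (isJComponent_congr hJ₂ hK) (le_sup_left.trans hKX)
  have hcX : ∀ E, IsJComponent T₂ E → E ≤ X → E ≤ L := by
    intro E hE hEX
    by_cases hEL : E ≤ L
    · exact hEL
    refine le_trans ?_ ((centralizer_le_normalizer _).trans heq₁.ge)
    refine le_centralizer_iff.1 (iSup_le fun D => le_centralizer_iff.1 ?_)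
    exact le_centralizer_wOf hs₂ (isJComponent_congr (hJ₂.trans hJ₁.symm) D.2.1) (hcL _ D.2.1 D.2.2) hE hEX
      (fun h => hEL (h ▸ D.2.2))
  have hwe : wAll T₁ L = wAll T₂ X := by
    refine le_antisymm (iSup_le fun D => ?_) (iSup_le fun E => ?_)
    · exact le_iSup_of_le (⟨D.1, isJComponent_congr (hJ₂.trans hJ₁.symm) D.2.1, hcL _ D.2.1 D.2.2⟩ :
        {D : Subgroup G // IsJComponent T₂ D ∧ D ≤ X}) le_rfl
    · exact le_iSup_of_le (⟨E.1, isJComponent_congr (hJ₁.trans hJ₂.symm) E.2.1, hcX _ E.2.1 E.2.2⟩ :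
        {D : Subgroup G // IsJComponent T₁ D ∧ D ≤ L}) le_rfl
  rw [heq₁, hwe, ← heq₂]

/-- The maximal 2-local subgroup over a component outside `M` is unique. -/
theorem unique_maximal_overgroup (hL : Cfsg.IsCharacteristicTwoType G)
    (hN : ∀ N : Subgroup G, Cfsg.IsTwoLocal N → Group.IsSolvable ↥N)
    (hZ : ∀ S : Sylow 2 G, centralizer (omegaCenterOf (S : Subgroup G) : Set G) ≤ normalizer ((S : Subgroup G) : Set G))
    {M T : Subgroup G} (S : Sylow 2 G)
    (hMJ : normalizer (thompsonSubgroupOf 2 (S : Subgroup G) : Set G) ≤ M) (hT : T ∈ maxStraddlingTwoSubgroups M)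
    {K : Subgroup G} (hK : IsJComponent T K) (hKM : ¬ K ≤ M)
    {L L' : Subgroup G} (hm : IsMaximalTwoLocal L) (hm' : IsMaximalTwoLocal L')
    (hKL : K ⊔ thompsonSubgroupOf 2 T ≤ L) (hKL' : K ⊔ thompsonSubgroupOf 2 T ≤ L') : L = L' := by
  obtain ⟨hT2, hT1, -, -⟩ := hT.1
  refine unique_of_settings hT2 hK (fun X hX hKX => ?_) hm hm' hKL hKL'
  obtain ⟨T₀, hT₀, hJT₀⟩ := exists_sylowTwoIn_ge (hT2.to_le (thompsonSubgroupOf_le T)) (le_sup_right.trans hKX)
  obtain ⟨hJ₀, -, hs⟩ := max_straddling_overgroup hL hN hZ S hMJ hT hX.1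
    (fun h => hKM ((le_sup_left.trans hKX).trans h)) hT₀ hJT₀
  exact ⟨T₀, hJ₀, hs⟩

/-- The overgroup of an outside component. -/
theorem exists_maximal_overgroup (hL : Cfsg.IsCharacteristicTwoType G)
    (hN : ∀ N : Subgroup G, Cfsg.IsTwoLocal N → Group.IsSolvable ↥N)
    (hZ : ∀ S : Sylow 2 G, centralizer (omegaCenterOf (S : Subgroup G) : Set G) ≤ normalizer ((S : Subgroup G) : Set G))
    {M T : Subgroup G} (S : Sylow 2 G)
    (hMJ : normalizer (thompsonSubgroupOf 2 (S : Subgroup G) : Set G) ≤ M) (hT : T ∈ maxStraddlingTwoSubgroups M)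
    {K : Subgroup G} (hK : K ∈ jComponentsOutside M T) :
    ∃ L, IsMaximalTwoLocal L ∧ K ⊔ T ≤ L ∧ Setting L T ∧ ¬ L ≤ M := by
  obtain ⟨-, hKM, hne⟩ := hK
  have hloc : IsTwoLocal (normalizer (pCoreOf 2 (K ⊔ T) : Set G)) := ⟨_, pCoreOf_two _, hne, rfl⟩
  obtain ⟨L, hm, hle⟩ := exists_maximalTwoLocal_ge hloc
  have hKT : K ⊔ T ≤ L := (le_normalizer_pCoreOf_self _).trans hle
  have hLM : ¬ L ≤ M := fun h => hKM ((le_sup_left.trans hKT).trans h)
  have hsy := sylow_of_le hT (le_sup_right.trans hKT) fun T₁ h1 h2 =>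
    (max_straddling_overgroup hL hN hZ S hMJ hT hm.1 hLM h1 h2).2.1
  exact ⟨L, hm, hKT, (max_straddling_overgroup hL hN hZ S hMJ hT hm.1 hLM hsy (thompsonSubgroupOf_le T)).2.2, hLM⟩

end CfsgLib.LocalEvenB.JOver
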