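import Cfsg.Agent.Lib.LocalEvenB.JOver.Center

/-!
# Components normalised by `T` with their overgroup
-/

set_option autoImplicit false
set_option linter.all false

namespace CfsgLib.LocalEvenB.JOver

open Subgroup Cfsg
open scoped commutatorElement Pointwise

variable {G : Type*} [Group G]

/-- A component normalised by `T` together with its unique maximal 2-local overgroup. -/
structure Vtx (T K L : Subgroup G) : Prop where
  jc : IsJComponent T K
  norm : T ≤ normalizer (K : Set G)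
  set : Setting L T
  le : K ≤ L
  uq : IsUniqueOver T K L

variable [Finite G]

theorem thompson_map_of_mem_normalizer {T : Subgroup G} {g : G}
    (hg : g ∈ normalizer (thompsonSubgroupOf 2 T : Set G)) :
    (thompsonSubgroupOf 2 T).map (MulAut.conj g).toMonoidHom = thompsonSubgroupOf 2 T :=
  CfsgLib.LocalEvenB.map_conj_eq_self_iff_mem_normalizer.2 hg

theorem map_conj_inv_map (X : Subgroup G) (g : G) :
    (X.map (MulAut.conj g⁻¹).toMonoidHom).map (MulAut.conj g).toMonoidHom = X := by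
  rw [CfsgLib.LocalEvenB.map_conj_map_conj, mul_inv_cancel]
  ext x; simp [CfsgLib.LocalEvenB.mem_map_conj]

theorem map_conj_map_inv (X : Subgroup G) (g : G) :
    (X.map (MulAut.conj g).toMonoidHom).map (MulAut.conj g⁻¹).toMonoidHom = X := by
  rw [CfsgLib.LocalEvenB.map_conj_map_conj, inv_mul_cancel]
  ext x; simp [CfsgLib.LocalEvenB.mem_map_conj]

theorem isTwoLocal_map {L : Subgroup G} (h : IsTwoLocal L) (g : G) :
    IsTwoLocal (L.map (MulAut.conj g).toMonoidHom) := by
  obtain ⟨R, hR, hR1, rfl⟩ := h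
  refine ⟨R.map (MulAut.conj g).toMonoidHom, hR.map _, fun h0 => hR1 ?_, ?_⟩
  · rwa [map_eq_bot_iff_of_injective _ (MulAut.conj g).injective] at h0
  · exact map_equiv_normalizer_eq R (MulAut.conj g)

theorem isMaximalTwoLocal_map {L : Subgroup G} (h : IsMaximalTwoLocal L) (g : G) :
    IsMaximalTwoLocal (L.map (MulAut.conj g).toMonoidHom) := by
  refine ⟨isTwoLocal_map h.1 g, fun N hN hle => ?_⟩
  have h1 := map_mono (f := (MulAut.conj g⁻¹).toMonoidHom) hle
  rw [map_conj_map_inv] at h1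
  rw [← h.2 _ (isTwoLocal_map hN g⁻¹) h1, map_conj_inv_map]

theorem normalizer_of_maximal {L : Subgroup G} (h : IsMaximalTwoLocal L) (hne : pCoreOf 2 L ≠ ⊥) :
    normalizer (L : Set G) = L := by
  refine le_antisymm ?_ le_normalizer
  have hle : normalizer (L : Set G) ≤ normalizer (pCoreOf 2 L : Set G) := by
    intro g hg
    rw [← CfsgLib.LocalEvenB.map_conj_eq_self_iff_mem_normalizer] at hg ⊢
    rw [pCoreOf_map_inj _ (MulAut.conj g).injective, hg]
  exact hle.trans (le_of_eq (h.2 _ ⟨_, pCoreOf_two L, hne, rfl⟩ (le_normalizer_pCoreOf_self L)))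

theorem pCoreOf_ne_bot_of_setting {L T : Subgroup G} (hs : Setting L T) : pCoreOf 2 L ≠ ⊥ := by
  intro h0
  apply hs.jnot
  have htop : centralizer (pCoreOf 2 L : Set G) = ⊤ :=
    eq_top_iff.2 fun g _ => mem_centralizer_iff.2 fun x hx => by
      rw [h0] at hx
      rw [mem_bot.1 hx, one_mul, mul_one]
  have := hs.self
  rw [htop] at this
  exact le_top.trans this

theorem isJComponent_conj_normalizer {T K : Subgroup G} (hK : IsJComponent T K) {g : G}
    (hg : g ∈ normalizer (thompsonSubgroupOf 2 T : Set G)) :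
    IsJComponent T (K.map (MulAut.conj g).toMonoidHom) := by
  obtain ⟨h1, h2, h3, h4, h5, h6⟩ := hK
  have hJ := thompson_map_of_mem_normalizer hg
  have hJ' := thompson_map_of_mem_normalizer (T := T) (inv_mem hg)
  set f := (MulAut.conj g).toMonoidHom with hf
  have hfi : Function.Injective f := (MulAut.conj g).injective
  refine ⟨?_, ?_, ?_, ?_, ?_, ?_⟩
  · refine le_antisymm (by rw [closure_le]; exact fun x hx => hx.1) (map_le_iff_le_comap.2 ?_)
    conv_lhs => rw [← h1]
    rw [closure_le]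
    exact fun x hx => subset_closure ⟨mem_map_of_mem f hx.1, by rw [orderOf_injective f hfi]; exact hx.2⟩
  · conv_lhs => rw [← hJ]
    rw [← map_commutator, h2]
  · rw [← pCoreOf_map_inj f hfi, relIndex_map_map_of_injective _ _ hfi]
    exact h3
  · intro S hS hJS
    have hs := isSylowTwoIn_map (MulAut.conj g⁻¹) hS
    rw [Subgroup.map_sup, map_conj_map_inv, hJ'] at hs
    have h := h4 _ hs (by
      have h7 := map_mono (f := (MulAut.conj g⁻¹).toMonoidHom) hJS
      rwa [hJ'] at h7)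
    rw [thompson_map_conj] at h
    rw [← map_conj_inv_map (thompsonSubgroupOf 2 S) g, h, hJ]
  · rw [← wOf_map, card_map_of_injective hfi]
    exact h5
  · intro w hw
    rw [← wOf_map] at hw
    obtain ⟨w', hw', rfl⟩ := hw
    show MulAut.conj g w' * MulAut.conj g w' = 1
    rw [← map_mul, h6 w' hw', map_one]

theorem isUniqueOver_map {T K L : Subgroup G} (hU : IsUniqueOver T K L) {g : G}
    (hg : g ∈ normalizer (thompsonSubgroupOf 2 T : Set G)) :
    IsUniqueOver T (K.map (MulAut.conj g).toMonoidHom) (L.map (MulAut.conj g).toMonoidHom) := by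
  obtain ⟨h1, h2, h3⟩ := hU
  refine ⟨isMaximalTwoLocal_map h1 g, ?_, fun X hX hle => ?_⟩
  · have := map_mono (f := (MulAut.conj g).toMonoidHom) h2
    rwa [Subgroup.map_sup, thompson_map_of_mem_normalizer hg] at this
  · have := map_mono (f := (MulAut.conj g⁻¹).toMonoidHom) hle
    rw [Subgroup.map_sup, map_conj_map_inv, thompson_map_of_mem_normalizer (inv_mem hg)] at this
    rw [← h3 _ (isMaximalTwoLocal_map hX g⁻¹) this, map_conj_inv_map]

theorem setting_map {L T : Subgroup G} (hs : Setting L T) {g : G} :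
    Setting (L.map (MulAut.conj g).toMonoidHom) (T.map (MulAut.conj g).toMonoidHom) := by
  refine ⟨isSylowTwoIn_map _ hs.syl, fun h => hs.jnot ?_, ?_, ?_, hs.hZ⟩
  · rw [thompson_map_conj, ← pCoreOf_map_inj _ (MulAut.conj g).injective,
      map_le_map_iff_of_injective (MulAut.conj g).injective] at h
    exact h
  · rw [← pCoreOf_map_inj _ (MulAut.conj g).injective, ← centralizer_map_equiv]
    exact map_mono hs.self
  · haveI := hs.solv
    exact solvable_of_surjective ((MulAut.conj g).toMonoidHom.subgroupMap_surjective L)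

theorem map_conj_le_normalizer {K T : Subgroup G} (h : T ≤ normalizer (K : Set G)) {g : G}
    (hg : g ∈ normalizer (T : Set G)) : T ≤ normalizer ((K.map (MulAut.conj g).toMonoidHom : Subgroup G) : Set G) := by
  intro t ht
  refine CfsgLib.LocalEvenB.mem_normalizer_of_forall ?_
  rintro _ ⟨k, hk, rfl⟩
  have ht' : g⁻¹ * t * g ∈ T := (mem_normalizer_iff''.1 hg t).1 ht
  refine ⟨(g⁻¹ * t * g) * k * (g⁻¹ * t * g)⁻¹, (mem_normalizer_iff.1 (h ht') k).1 hk, ?_⟩
  show g * _ * g⁻¹ = t * (g * k * g⁻¹) * t⁻¹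
  group

/-- Elements normalising `T` act on the vertices. -/
theorem Vtx.conj {T K L : Subgroup G} (v : Vtx T K L) {g : G} (hg : g ∈ normalizer (T : Set G)) :
    Vtx T (K.map (MulAut.conj g).toMonoidHom) (L.map (MulAut.conj g).toMonoidHom) := by
  have hJ := CfsgLib.LocalEvenB.normalizer_le_normalizer_thompsonSubgroupOf (p := 2) T hg
  refine ⟨isJComponent_conj_normalizer v.jc hJ, map_conj_le_normalizer v.norm hg, ?_, map_mono v.le,
    isUniqueOver_map v.uq hJ⟩
  have := setting_map (g := g) v.set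
  rwa [CfsgLib.LocalEvenB.map_conj_eq_self_iff_mem_normalizer.2 hg] at this

theorem jCenter_fixed_normal {T : Subgroup G} {g : G} (hg : g ∈ normalizer (thompsonSubgroupOf 2 T : Set G)) :
    g ∈ normalizer (jCenter T : Set G) :=
  mem_normalizer_omegaCenterOf hg

theorem mem_normalizer_jFix {T K : Subgroup G} {g : G} (hg : g ∈ normalizer (thompsonSubgroupOf 2 T : Set G))
    (hgK : g ∈ normalizer (K : Set G)) : g ∈ normalizer (jFix T K : Set G) := by
  refine CfsgLib.LocalEvenB.mem_normalizer_of_forall fun x hx => mem_inf.2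
    ⟨(mem_normalizer_iff.1 (jCenter_fixed_normal hg) x).1 (mem_inf.1 hx).1, ?_⟩
  refine mem_centralizer_iff.2 fun k hk => ?_
  have hk' : g⁻¹ * k * g ∈ K := (mem_normalizer_iff''.1 hgK k).1 hk
  have := mem_centralizer_iff.1 (mem_inf.1 hx).2 _ hk'
  calc k * (g * x * g⁻¹) = g * ((g⁻¹ * k * g) * x) * g⁻¹ := by group
    _ = g * (x * (g⁻¹ * k * g)) * g⁻¹ := by rw [this]
    _ = g * x * g⁻¹ * k := by group

omit [Finite G] in
theorem fixed_of_card_two {H : Subgroup G} (hc : Nat.card H ≤ 2) [Finite H] {g x : G} (hg : g ∈ normalizer (H : Set G))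
    (hx : x ∈ H) : g * x = x * g := by
  classical
  by_cases hx1 : x = 1
  · rw [hx1, one_mul, mul_one]
  refine mul_inv_eq_iff_eq_mul.1 ?_
  by_contra hne
  have hy : g * x * g⁻¹ ∈ H := (mem_normalizer_iff.1 hg x).1 hx
  have hy1 : g * x * g⁻¹ ≠ 1 := fun h => hx1 (conj_eq_one_iff.1 h)
  have hinj : Function.Injective ![(1 : H), ⟨x, hx⟩, ⟨g * x * g⁻¹, hy⟩] := by
    intro i j hij
    fin_cases i <;> fin_cases j <;> simp_all [Subtype.ext_iff, eq_comm]
  have := Nat.card_le_card_of_injective _ hinj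
  simp at this
  omega

/-- Elements normalising a component centralise the center when the fixed part is small. -/
theorem centralizes_jCenter {T K : Subgroup G} (hT : IsPGroup 2 T) (hK : IsJComponent T K)
    (hc : Nat.card ↥(jFix T K) ≤ 2) {g : G} (hgJ : g ∈ normalizer (thompsonSubgroupOf 2 T : Set G))
    (hgK : g ∈ normalizer (K : Set G)) : g ∈ centralizer (jCenter T : Set G) := by
  have hH := mem_normalizer_jFix hgJ hgK
  have hW : g ∈ normalizer ((jCenter T ⊓ wOf K : Subgroup G) : Set G) := by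
    have h1 := normalizer_le_normalizer_wOf K hgK
    exact CfsgLib.LocalEvenB.mem_normalizer_of_forall fun x hx => mem_inf.2
      ⟨(mem_normalizer_iff.1 (jCenter_fixed_normal hgJ) x).1 (mem_inf.1 hx).1,
        (mem_normalizer_iff.1 h1 x).1 (mem_inf.1 hx).2⟩
  have hle : jCenter T ≤ centralizer ({g} : Set G) := by
    rw [← jCenter_eq_sup hT hK]
    exact sup_le (fun x hx => mem_centralizer_singleton_iff.2 (fixed_of_card_two hc hH hx).symm)
      (fun x hx => mem_centralizer_singleton_iff.2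
        (fixed_of_card_two (card_jCenter_inf_wOf hT hK).le hW hx).symm)
  exact mem_centralizer_iff.2 fun x hx => mem_centralizer_singleton_iff.1 (hle hx)

/-- With a second maximal overgroup around, `T` normalises every component. -/
theorem norm_of_second (hG : ZNHyp G) {T K L D LD : Subgroup G} (hs : Setting L T) (hK : IsJComponent T K)
    (hKL : K ≤ L) (hU : IsUniqueOver T K L) (hD : IsJComponent T D) (hUD : IsUniqueOver T D LD) (hne : L ≠ LD) :
    T ≤ normalizer (K : Set G) := by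
  have hT2 := hs.syl.2.1
  obtain ⟨S, hTS⟩ := hT2.exists_le_sylow
  intro t ht
  have hJt : t ∈ normalizer (thompsonSubgroupOf 2 T : Set G) :=
    CfsgLib.LocalEvenB.normalizer_le_normalizer_thompsonSubgroupOf (p := 2) T (le_normalizer ht)
  rw [← CfsgLib.LocalEvenB.map_conj_eq_self_iff_mem_normalizer]
  by_contra hKne
  set K' := K.map (MulAut.conj t).toMonoidHom with hK'
  obtain ⟨hK'j, hK'L⟩ := isJComponent_map hs hK hKL (hs.syl.1 ht)
  have hU' : IsUniqueOver T K' L := by
    have := isUniqueOver_map hU hJt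
    rwa [CfsgLib.LocalEvenB.map_conj_eq_self_iff_mem_normalizer.2 (le_normalizer (hs.syl.1 ht))] at this
  obtain ⟨w, hw⟩ := (Subgroup.bot_or_exists_ne_one (jCenter T ⊓ wOf K)).resolve_left (fun h0 => by
    have := card_jCenter_inf_wOf hT2 hK; rw [h0, card_bot] at this; omega)
  obtain ⟨hw0, hw1⟩ := hw
  set w' := t * w * t⁻¹ with hw'
  have hw'Z : w' ∈ jCenter T := (mem_normalizer_iff.1 (jCenter_fixed_normal hJt) w).1 (mem_inf.1 hw0).1
  have hw'W : w' ∈ wOf K' := by rw [hK', ← wOf_map]; exact ⟨w, (mem_inf.1 hw0).2, rfl⟩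
  have hw'H : w' ∈ jFix T K := mem_inf.2 ⟨hw'Z, mem_centralizer_iff.2 fun k hk =>
    (mem_centralizer_iff.1 (le_centralizer_wOf hs hK'j hK'L hK hKL (Ne.symm hKne) hk) w' hw'W).symm⟩
  have hwH' : w ∈ jFix T K' := mem_inf.2 ⟨(mem_inf.1 hw0).1, mem_centralizer_iff.2 fun k hk =>
    (mem_centralizer_iff.1 (le_centralizer_wOf hs hK hKL hK'j hK'L hKne hk) w (mem_inf.1 hw0).2).symm⟩
  have hw'1 : w' ≠ 1 := fun h => hw1 (conj_eq_one_iff.1 h)
  have hwH : w ∉ jFix T K := fun h => hw1 (mem_bot.1 ((jFix_inf_wOf hT2 hK) ▸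
    mem_inf.2 ⟨h, (mem_inf.1 hw0).2⟩))
  have hcH : Nat.card ↥(jFix T K) ≤ 2 := card_jFix_le_two hT2 hD hUD hU hne.symm
  have hcH' : Nat.card ↥(jFix T K') ≤ 2 := card_jFix_le_two hT2 hD hUD hU' hne.symm
  have hHeq : jFix T K = zpowers w' := by
    refine (eq_of_le_of_card_ge (zpowers_le.2 hw'H) ?_).symm
    rw [Nat.card_zpowers, orderOf_eq_prime ((jCenter_elementary T).2 _ hw'Z) hw'1]
    exact hcH
  have hH'eq : jFix T K' = zpowers w := by
    refine (eq_of_le_of_card_ge (zpowers_le.2 hwH') ?_).symm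
    rw [Nat.card_zpowers, orderOf_eq_prime ((jCenter_elementary T).2 _ (mem_inf.1 hw0).1) hw1]
    exact hcH'
  -- the fixed involutions lie in the third point
  have hZle : omegaCenterOf (S : Subgroup G) ≤ jFix T D := by
    intro u hu
    have huT := omegaCenter_sylow_le hs S hTS hu
    have huZ := omegaCenterOf_le_jCenter T huT
    have hfix : t * u = u * t := centralizes_omegaCenterOf huT ht
    by_cases hu1 : u = 1
    · rw [hu1]; exact one_mem _
    have hDfix : ∃ d ∈ jFix T D, d ≠ 1 := by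
      by_contra h0
      push Not at h0
      have hb : jFix T D = ⊥ := (eq_bot_iff_forall _).2 h0
      have e1 := card_jCenter hT2 hD
      have e2 := card_jCenter hT2 hK
      rw [hb, card_bot] at e1
      have e3 : Nat.card ↥(jFix T K) = 1 := by omega
      rw [Subgroup.card_eq_one] at e3
      exact hw'1 (mem_bot.1 (e3 ▸ hw'H))
    obtain ⟨d, hd, hd1⟩ := hDfix
    have hZ4 : Nat.card ↥(jCenter T) = 4 := by
      have e1 := card_jCenter hT2 hK
      rw [hHeq, Nat.card_zpowers, orderOf_eq_prime ((jCenter_elementary T).2 _ hw'Z) hw'1] at e1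
      exact e1
    have hww : w ≠ w' := fun h => hwH (h ▸ hw'H)
    have hsq : ∀ x ∈ jCenter T, x * x = 1 := fun x hx => by rw [← pow_two]; exact (jCenter_elementary T).2 x hx
    have hd' : d = w * w' := by
      rcases four_cases hZ4 (mem_inf.1 hw0).1 hw'Z hw1 hw'1 hww (hsq _ (mem_inf.1 hw0).1) (mem_inf.1 hd).1 with
        h | h | h | h
      · exact absurd h hd1
      · exact absurd (mem_bot.1 ((jFix_inf_jFix hU' hUD hne) ▸ mem_inf.2 ⟨hH'eq ▸ (h ▸ mem_zpowers w), hd⟩)) hd1
      · exact absurd (mem_bot.1 ((jFix_inf_jFix hU hUD hne) ▸ mem_inf.2 ⟨hHeq ▸ (h ▸ mem_zpowers w'), hd⟩)) hd1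
      · exact h
    rcases four_cases hZ4 (mem_inf.1 hw0).1 hw'Z hw1 hw'1 hww (hsq _ (mem_inf.1 hw0).1) huZ with h | h | h | h
    · exact absurd h hu1
    · exact absurd (show w' = w by rw [hw', ← h, hfix, mul_inv_cancel_right]) hww.symm
    · exfalso
      apply hww
      rw [h] at hfix
      have e : t * (t * w * t⁻¹) * t⁻¹ = t * w * t⁻¹ := by
        rw [← hw', hfix, mul_inv_cancel_right]
      exact ((MulAut.conj t).injective e).symm
    · rw [h, ← hd']; exact hd
  exact not_centralizes_omegaCenter hG hD S hTS fun k hk => mem_centralizer_iff.2 fun u hu =>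
    (mem_centralizer_iff.1 (mem_inf.1 (hZle hu)).2 k hk).symm

/-- The kernel of the action on the four-group inside `T`. -/
def wKer (T K : Subgroup G) : Subgroup G := T ⊓ centralizer (wOf K : Set G)

namespace Vtx

variable {T K L : Subgroup G} (v : Vtx T K L)
include v

theorem T_two : IsPGroup 2 T := v.set.syl.2.1

theorem J_le_T : thompsonSubgroupOf 2 T ≤ T := thompsonSubgroupOf_le T

theorem T_le_normalizer_W : T ≤ normalizer (wOf K : Set G) := v.norm.trans (normalizer_le_normalizer_wOf K)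

theorem K_le_normalizer_W : K ≤ normalizer (wOf K : Set G) := le_normalizer.trans (normalizer_le_normalizer_wOf K)

theorem core_le : pCoreOf 2 K ≤ wKer T K := by
  obtain ⟨S, hd⟩ := exists_jData v.T_two v.jc
  obtain ⟨F⟩ := nonempty_frame v.set
  have hC := comp_of_jComponent F v.jc v.le
  have hQT : pCoreOf 2 L ≤ T := by
    obtain ⟨h1, h2, h3⟩ := v.set.syl
    intro q hq
    obtain ⟨q', hq', rfl⟩ := hq
    exact CfsgLib.Core.pCore_le_sylow ((h2.comap_subtype (K := L)).toSylow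
      (fun hd => Nat.not_even_iff_odd.2 h3 (even_iff_two_dvd.2 hd))) hq'
  exact fun r hr => mem_inf.2
    ⟨hQT ((hC.core_ker (y := ⟨r, hC.le (map_subtype_le _ hr)⟩) hr).2), hd.Q_centralizes_W hr⟩

theorem mem_core_of_centralizes {k : G} (hk : k ∈ K) (hc : k ∈ centralizer (wOf K : Set G)) :
    k ∈ pCoreOf 2 K := by
  obtain ⟨S, hd⟩ := exists_jData v.T_two v.jc
  obtain ⟨c, hcK, hco, hcc⟩ := hd.exists_odd_not_centralizing
  by_contra hne
  have hle : pCoreOf 2 K ≤ K ⊓ centralizer (wOf K : Set G) := le_inf (map_subtype_le _) hd.Q_centralizes_W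
  have h1 := relIndex_mul_relIndex _ _ K hle inf_le_left
  rw [v.jc.2.2.1] at h1
  rcases (Nat.dvd_prime Nat.prime_three).1 (Dvd.intro_left _ h1) with h | h
  · exact hcc (mem_inf.1 ((relIndex_eq_one.1 h) hcK)).2
  · rw [h] at h1
    have h2 : (pCoreOf 2 K).relIndex (K ⊓ centralizer (wOf K : Set G)) = 1 := by omega
    exact hne (relIndex_eq_one.1 h2 (mem_inf.2 ⟨hk, hc⟩))

theorem pow_three_mem {k : G} (hk : k ∈ K) : k ^ 3 ∈ pCoreOf 2 K := by
  haveI : ((pCoreOf 2 K).subgroupOf K).Normal := by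
    rw [pCoreOf, subgroupOf, comap_map_eq_self_of_injective K.subtype_injective]
    exact CfsgLib.Core.normal_pCore 2 ↥K
  have := pow_index_mem ((pCoreOf 2 K).subgroupOf K) (⟨k, hk⟩ : ↥K)
  rwa [← relIndex, v.jc.2.2.1] at this

theorem P_le_normalizer_W : K ⊔ T ≤ normalizer (wOf K : Set G) := sup_le v.K_le_normalizer_W v.T_le_normalizer_W

theorem kernel_eq : (K ⊔ T) ⊓ centralizer (wOf K : Set G) = wKer T K := by
  refine le_antisymm ?_ (le_inf (inf_le_left.trans le_sup_right) inf_le_right)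
  intro r hr
  obtain ⟨hrP, hrc⟩ := mem_inf.1 hr
  have hrP' : r ∈ (K : Set G) * (T : Set G) := by
    rw [← coe_mul_of_right_le_normalizer_left K T v.norm]; exact hrP
  obtain ⟨k, hk, t, ht, rfl⟩ := hrP'
  -- the action of `k` is a 2-element and a 3-element
  let ρ := normalizerMonoidHom (wOf K)
  have hρ : ∀ (g : G) (hg : g ∈ normalizer (wOf K : Set G)),
      ρ ⟨g, hg⟩ = 1 ↔ g ∈ centralizer (wOf K : Set G) := fun g hg => by
    rw [← MonoidHom.mem_ker, normalizerMonoidHom_ker, mem_subgroupOf]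
  have hkN := v.K_le_normalizer_W hk
  have htN := v.T_le_normalizer_W ht
  have h1 : ρ ⟨k, hkN⟩ * ρ ⟨t, htN⟩ = 1 := by rw [← map_mul]; exact (hρ _ (mul_mem hkN htN)).2 hrc
  have h3 : ρ ⟨k, hkN⟩ ^ 3 = 1 := by
    rw [← map_pow]
    exact (hρ _ (pow_mem hkN 3)).2 (mem_inf.1 (v.core_le (v.pow_three_mem hk))).2
  obtain ⟨a, ha⟩ := v.T_two ⟨t, ht⟩
  have h2 : ρ ⟨k, hkN⟩ ^ 2 ^ a = 1 := by
    have hk' : ρ ⟨k, hkN⟩ = (ρ ⟨t, htN⟩)⁻¹ := mul_eq_one_iff_eq_inv.1 h1
    rw [hk', inv_pow, ← map_pow, inv_eq_one]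
    refine (hρ _ (pow_mem htN _)).2 ?_
    rw [show t ^ 2 ^ a = 1 from congrArg Subtype.val ha]
    exact one_mem _
  have hk1 : ρ ⟨k, hkN⟩ = 1 := orderOf_eq_one_iff.1 (Nat.eq_one_of_dvd_coprimes
    ((by norm_num : Nat.Coprime 2 3).pow_left a) (orderOf_dvd_of_pow_eq_one h2) (orderOf_dvd_of_pow_eq_one h3))
  have hkc := (hρ _ hkN).1 hk1
  refine mem_inf.2 ⟨mul_mem ((v.core_le.trans inf_le_left) (v.mem_core_of_centralizes hk hkc)) ht, hrc⟩

theorem K_le_normalizer_wKer : K ≤ normalizer (wKer T K : Set G) := by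
  intro k hk
  refine CfsgLib.LocalEvenB.mem_normalizer_of_forall fun q hq => ?_
  rw [← v.kernel_eq] at hq ⊢
  refine mem_inf.2 ⟨mul_mem (mul_mem (mem_sup_left hk) (mem_inf.1 hq).1) (inv_mem (mem_sup_left hk)), ?_⟩
  exact (mem_normalizer_iff.1 (CfsgLib.Signalizer.normalizer_le_normalizer_centralizer_set _
    (v.K_le_normalizer_W hk)) q).1 (mem_inf.1 hq).2

theorem T_le_normalizer_wKer : T ≤ normalizer (wKer T K : Set G) :=
  (le_inf le_normalizer (v.T_le_normalizer_W.trans
    (CfsgLib.Signalizer.normalizer_le_normalizer_centralizer_set _))).trans inf_normalizer_le_normalizer_inf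

theorem exists_not_centralizing : ∃ a ∈ T, a ∉ centralizer (wOf K : Set G) := by
  obtain ⟨S, hd⟩ := exists_jData v.T_two v.jc
  obtain ⟨a, ha, hac⟩ := SetLike.not_le_iff_exists.1 hd.not_J_centralizes_W
  exact ⟨a, v.J_le_T ha, hac⟩

theorem exists_odd : ∃ x ∈ K, Odd (orderOf x) ∧ x ∉ centralizer (wOf K : Set G) := by
  obtain ⟨S, hd⟩ := exists_jData v.T_two v.jc
  exact hd.exists_odd_not_centralizing

/-- The point of `W` fixed by `T`. -/
theorem exists_point : ∃ z, z ∈ wOf K ∧ z ≠ 1 ∧ z ∈ jCenter T ∧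
    (∀ u ∈ wOf K, u ∈ jCenter T → u = 1 ∨ u = z) ∧
    (∀ t ∈ T, t * z = z * t) ∧
    ∀ a ∈ T, a ∉ centralizer (wOf K : Set G) → ∀ u ∈ wOf K, a * u = u * a → u = 1 ∨ u = z := by
  obtain ⟨S, hd⟩ := exists_jData v.T_two v.jc
  have hcard := card_jCenter_inf_wOf v.T_two v.jc
  obtain ⟨z, hz, hz1⟩ := (Subgroup.bot_or_exists_ne_one (jCenter T ⊓ wOf K)).resolve_left (fun h0 => by
    rw [h0, card_bot] at hcard; omega)
  obtain ⟨hzZ, hzW⟩ := mem_inf.1 hz
  have hfix : ∀ t ∈ T, t * z = z * t := by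
    intro t ht
    refine fixed_of_card_two hcard.le ?_ hz
    exact CfsgLib.LocalEvenB.mem_normalizer_of_forall fun x hx => mem_inf.2
      ⟨(mem_normalizer_iff.1 (jCenter_fixed_normal
        (CfsgLib.LocalEvenB.normalizer_le_normalizer_thompsonSubgroupOf (p := 2) T (le_normalizer ht))) x).1
          (mem_inf.1 hx).1,
        (mem_normalizer_iff.1 (v.T_le_normalizer_W ht) x).1 (mem_inf.1 hx).2⟩
  refine ⟨z, hzW, hz1, hzZ, fun u hu huZ => ?_, hfix, fun a ha hac u hu hau => ?_⟩
  · have he : zpowers z = jCenter T ⊓ wOf K := eq_of_le_of_card_ge (zpowers_le.2 hz) (by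
      rw [hcard, Nat.card_zpowers, orderOf_eq_prime ((jCenter_elementary T).2 _ hzZ) hz1])
    have hu' : u ∈ zpowers z := he ▸ mem_inf.2 ⟨huZ, hu⟩
    obtain ⟨k, rfl⟩ := mem_zpowers_iff.1 hu'
    have h2 : z ^ (2 : ℤ) = 1 := by exact_mod_cast (jCenter_elementary T).2 _ hzZ
    rcases Int.even_or_odd k with ⟨m, hm⟩ | ⟨m, hm⟩
    · left; rw [hm, ← two_mul, zpow_mul, h2, one_zpow]
    · right; rw [hm, zpow_add, zpow_mul, h2, one_zpow, one_mul, zpow_one]
  · by_contra h0
    push Not at h0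
    exact hac (mem_centralizer_iff.2 fun w hw =>
      (four_fixed hd.wcard hd.wsq hu hzW h0.1 hz1 h0.2 hau (hfix a ha) w hw).symm)

theorem mul_centralizes {a b : G} (ha : a ∈ T) (hb : b ∈ T) (hac : a ∉ centralizer (wOf K : Set G))
    (hbc : b ∉ centralizer (wOf K : Set G)) : a * b ∈ centralizer (wOf K : Set G) := by
  obtain ⟨S, hd⟩ := exists_jData v.T_two v.jc
  obtain ⟨z, hzW, hz1, -, -, hfix, hmove⟩ := v.exists_point
  obtain ⟨u, hu, hu1, huz⟩ : ∃ u ∈ wOf K, u ≠ 1 ∧ u ≠ z := by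
    by_contra h0
    push Not at h0
    have hle : wOf K ≤ zpowers z := fun u hu => by
      by_cases h : u = 1
      · rw [h]; exact one_mem _
      · rw [h0 u hu h]; exact mem_zpowers z
    have := card_le_of_le hle
    rw [hd.wcard, Nat.card_zpowers, orderOf_eq_prime (by rw [pow_two]; exact hd.wsq z hzW) hz1] at this
    omega
  have key : ∀ a ∈ T, a ∉ centralizer (wOf K : Set G) → a * u * a⁻¹ = z * u := by
    intro a ha hac
    have hau : a * u * a⁻¹ ∈ wOf K := (mem_normalizer_iff.1 (v.T_le_normalizer_W ha) u).1 hu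
    rcases four_cases hd.wcard hzW hu hz1 hu1 huz.symm (hd.wsq z hzW) hau with h | h | h | h
    · exact absurd (conj_eq_one_iff.1 h) hu1
    · refine absurd ((MulAut.conj a).injective ?_) huz
      show a * u * a⁻¹ = a * z * a⁻¹
      rw [h, hfix a ha, mul_inv_cancel_right]
    · exact absurd (hmove a ha hac u hu (mul_inv_eq_iff_eq_mul.1 h)) (by push Not; exact ⟨hu1, huz⟩)
    · exact h
  refine mem_centralizer_iff.2 fun w hw => (four_fixed hd.wcard hd.wsq hu hzW hu1 hz1 huz ?_ (hfix _ (mul_mem ha hb)) w hw).symm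
  refine mul_inv_eq_iff_eq_mul.1 ?_
  calc a * b * u * (a * b)⁻¹ = a * (b * u * b⁻¹) * a⁻¹ := by group
    _ = (a * z * a⁻¹) * (a * u * a⁻¹) := by rw [key b hb hbc]; group
    _ = z * (z * u) := by rw [key a ha hac, hfix a ha, mul_inv_cancel_right]
    _ = u := by rw [← mul_assoc, hd.wsq z hzW, one_mul]

theorem card_T : Nat.card T = 2 * Nat.card ↥(wKer T K) := by
  classical
  obtain ⟨a, ha, hac⟩ := v.exists_not_centralizing
  have hidx : (wKer T K).relIndex T = 2 := by
    rw [relIndex, index_eq_two_iff]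
    refine ⟨⟨a, ha⟩, fun b => ?_⟩
    by_cases hb : (b : G) ∈ centralizer (wOf K : Set G)
    · refine Or.inr ⟨mem_subgroupOf.2 (mem_inf.2 ⟨b.2, hb⟩), fun h => hac ?_⟩
      have := mul_mem (inv_mem hb) (mem_inf.1 (mem_subgroupOf.1 h)).2
      simpa using this
    · exact Or.inl ⟨mem_subgroupOf.2 (mem_inf.2 ⟨mul_mem b.2 ha, v.mul_centralizes b.2 ha hb hac⟩),
        fun h => hb (mem_inf.1 (mem_subgroupOf.1 h)).2⟩
  have h1 := relIndex_mul_relIndex (⊥ : Subgroup G) (wKer T K) T bot_le inf_le_left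
  rw [relIndex_bot_left, relIndex_bot_left, hidx] at h1
  omega

/-- Elements of `T` moving `W` invert `K` modulo the kernel. -/
theorem inverts {a x : G} (ha : a ∈ T) (hac : a ∉ centralizer (wOf K : Set G)) (hx : x ∈ K)
    (hxo : Odd (orderOf x)) : a * x * a⁻¹ * x ∈ wKer T K := by
  rw [← v.kernel_eq]
  have hPa : a ∈ K ⊔ T := mem_sup_right ha
  have hPx : x ∈ K ⊔ T := mem_sup_left hx
  refine mem_inf.2 ⟨mul_mem (mul_mem (mul_mem hPa hPx) (inv_mem hPa)) hPx, ?_⟩
  by_cases hxc : x ∈ centralizer (wOf K : Set G)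
  · exact mul_mem ((mem_normalizer_iff.1 (CfsgLib.Signalizer.normalizer_le_normalizer_centralizer_set _
      (v.T_le_normalizer_W ha)) x).1 hxc) hxc
  obtain ⟨S, hd⟩ := exists_jData v.T_two v.jc
  obtain ⟨z, hzW, hz1, -, -, hfix, hmove⟩ := v.exists_point
  have hxW := v.K_le_normalizer_W hx
  have haW := v.T_le_normalizer_W ha
  have hnf : ∀ u ∈ wOf K, u ≠ 1 → x * u * x⁻¹ ≠ u := fun u hu hu1 h => hxc (mem_centralizer_iff.2 fun w hw =>
    (four_odd_fixed hd.wcard hd.wsq hxW hxo hu hu1 (mul_inv_eq_iff_eq_mul.1 h) w hw).symm)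
  set p := x * z * x⁻¹ with hp
  set q := x * p * x⁻¹ with hq
  have hpW : p ∈ wOf K := (mem_normalizer_iff.1 hxW z).1 hzW
  have hqW : q ∈ wOf K := (mem_normalizer_iff.1 hxW p).1 hpW
  have hp1 : p ≠ 1 := fun h => hz1 (conj_eq_one_iff.1 h)
  have hq1 : q ≠ 1 := fun h => hp1 (conj_eq_one_iff.1 h)
  have hpz : p ≠ z := hnf z hzW hz1
  have hqp : q ≠ p := hnf p hpW hp1
  have hqz : q ≠ z := by
    intro h
    refine hnf z hzW hz1 ?_
    obtain ⟨k, hk⟩ := exists_pow_eq_self_of_coprime (x := x) (n := 2) (Nat.coprime_two_left.2 hxo)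
    refine mul_inv_eq_iff_eq_mul.2 ?_
    have h2 : Commute (x ^ 2) z := mul_inv_eq_iff_eq_mul.1 (show x ^ 2 * z * (x ^ 2)⁻¹ = z by
      rw [pow_two]; rw [hq, hp] at h; conv_rhs => rw [← h]
      group)
    exact (hk ▸ h2.pow_left k).eq
  have hqxz : x * q * x⁻¹ = z := by
    have hW := (mem_normalizer_iff.1 hxW q).1 hqW
    rcases four_cases hd.wcard hpW hqW hp1 hq1 hqp.symm (hd.wsq p hpW) hW with h | h | h | h
    · exact absurd (conj_eq_one_iff.1 h) hq1
    · exact absurd ((MulAut.conj x).injective (show x * q * x⁻¹ = x * z * x⁻¹ from h.trans hp)) hqz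
    · exact absurd h (hnf q hqW hq1)
    · rcases four_cases hd.wcard hpW hqW hp1 hq1 hqp.symm (hd.wsq p hpW) hzW with h' | h' | h' | h'
      · exact absurd h' hz1
      · exact absurd h' hpz.symm
      · exact absurd h' hqz.symm
      · rw [h, ← h']
  have hsq : ∀ u ∈ wOf K, u⁻¹ = u := fun u hu => inv_eq_of_mul_eq_one_left (hd.wsq u hu)
  have hap : a * p * a⁻¹ = q := by
    have hW := (mem_normalizer_iff.1 haW p).1 hpW
    rcases four_cases hd.wcard hzW hqW hz1 hq1 hqz.symm (hd.wsq z hzW) hW with h | h | h | h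
    · exact absurd (conj_eq_one_iff.1 h) hp1
    · refine absurd ((MulAut.conj a).injective ?_) hpz
      show a * p * a⁻¹ = a * z * a⁻¹
      rw [h, hfix a ha, mul_inv_cancel_right]
    · exact h
    · rcases four_cases hd.wcard hzW hqW hz1 hq1 hqz.symm (hd.wsq z hzW) hpW with h' | h' | h' | h'
      · exact absurd h' hp1
      · exact absurd h' hpz
      · exact absurd h' hqp.symm
      · rw [← h'] at h
        exact absurd (hmove a ha hac p hpW (mul_inv_eq_iff_eq_mul.1 h)) (by push Not; exact ⟨hp1, hpz⟩)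
  have haq : a * q * a⁻¹ = p := by
    have h2 : a * (a * p * a⁻¹) * a⁻¹ = p := by
      have := mem_centralizer_iff.1 (v.mul_centralizes ha ha hac hac) p hpW
      calc a * (a * p * a⁻¹) * a⁻¹ = (a * a) * p * (a * a)⁻¹ := by group
        _ = p := by rw [← this, mul_inv_cancel_right]
    rwa [hap] at h2
  have haiz : a⁻¹ * z * a = z := by rw [mul_assoc, ← hfix a ha, inv_mul_cancel_left]
  have haiq : a⁻¹ * q * a = p := by rw [← hap]; group
  have haip : a⁻¹ * p * a = q := by rw [← haq]; group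
  set y := a * x * a⁻¹ * x with hy
  have hyz : y * z * y⁻¹ = z := by
    calc y * z * y⁻¹ = a * (x * (a⁻¹ * p * a) * x⁻¹) * a⁻¹ := by rw [hy, hp]; group
      _ = z := by rw [haip, hqxz, hfix a ha, mul_inv_cancel_right]
  have hyp : y * p * y⁻¹ = p := by
    calc y * p * y⁻¹ = a * (x * (a⁻¹ * q * a) * x⁻¹) * a⁻¹ := by rw [hy, hq]; group
      _ = p := by rw [haiq, ← hq, haq]
  exact mem_centralizer_iff.2 fun w hw =>
    (four_fixed hd.wcard hd.wsq hzW hpW hz1 hp1 hpz.symm (mul_inv_eq_iff_eq_mul.1 hyz)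
      (mul_inv_eq_iff_eq_mul.1 hyp) w hw).symm

end Vtx

end CfsgLib.LocalEvenB.JOver
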