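import Cfsg.Agent.Lib.LocalEvenB.JOver.Four
import Cfsg.Agent.Lib.Components.Radicals
import Cfsg.Agent.Lib.LocalEvenB.CharP

/-!
# Subnormal factors are normalised by the Thompson subgroup
-/

set_option autoImplicit false
set_option linter.all false

namespace CfsgLib.LocalEvenB.JOver

open Subgroup Cfsg
open scoped commutatorElement Pointwise

theorem perm3_odd_comm_eq : ∀ σ τ : Equiv.Perm (Fin 3), Equiv.Perm.sign σ = -1 → Equiv.Perm.sign τ = -1 →
    σ * τ = τ * σ → σ = τ := by decide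

theorem perm3_odd_even_ne : ∀ σ τ : Equiv.Perm (Fin 3), Equiv.Perm.sign σ = -1 → Equiv.Perm.sign τ = 1 → τ ≠ 1 →
    σ * τ * σ⁻¹ * τ⁻¹ ≠ 1 := by decide

theorem perm3_even_odd_ne : ∀ σ τ : Equiv.Perm (Fin 3), Equiv.Perm.sign σ = 1 → Equiv.Perm.sign τ = -1 → σ ≠ 1 →
    σ * τ * σ⁻¹ * τ⁻¹ ≠ 1 := by decide

variable {G : Type*} [Group G] [Finite G]

/-- A subnormal subgroup generated by odd elements is normalised by normal 2-subgroups. -/
theorem le_normalizer_of_subnormal_odd {K H P : Subgroup G} (hgen : closure {g : G | g ∈ K ∧ Odd (orderOf g)} = K)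
    (hKH : K ≤ H) (hsn : (K.subgroupOf H).IsSubnormal) (hP : IsPGroup 2 P) (hPH : P ≤ H)
    (hPn : H ≤ normalizer (P : Set G)) : P ≤ normalizer (K : Set G) := by
  set X := K ⊔ P with hX
  have hXH : X ≤ H := sup_le hKH hPH
  have hP' : ((P.subgroupOf X)).Normal := (normal_subgroupOf_iff_le_normalizer le_sup_right).2 (hXH.trans hPn)
  have hsnX : (K.subgroupOf X).IsSubnormal := by
    have h1 := hsn.comap (Subgroup.inclusion hXH)
    have e : (K.subgroupOf H).comap (Subgroup.inclusion hXH) = K.subgroupOf X := by ext y; rfl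
    rwa [e] at h1
  have key : ∀ B : Subgroup ↥X, B.IsSubnormal → B ⊔ P.subgroupOf X = ⊤ →
      ∀ x : ↥X, Odd (orderOf x) → x ∈ B := by
    intro B hB
    induction hB with
    | top => exact fun _ x _ => mem_top x
    | step B B' hle hB' hn ih =>
      intro hsup x hx
      have hxB' := ih (top_unique (hsup.ge.trans (sup_le_sup_right hle _))) x hx
      haveI := hP'
      have hB'N : B' ≤ normalizer (B : Set ↥X) := (normal_subgroupOf_iff_le_normalizer hle).1 hn
      obtain ⟨b, hb, p, hp, hbp⟩ := mem_sup_of_normal_right.1 (hsup.ge (mem_top x))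
      refine mem_of_odd_mem_sup (Q := B' ⊓ P.subgroupOf X) ((hP.comap_subtype).to_le inf_le_right)
        (inf_le_left.trans hB'N) ?_ hx
      rw [← hbp]
      refine mul_mem (mem_sup_left hb) (mem_sup_right ⟨?_, hp⟩)
      have := mul_mem (inv_mem (hle hb)) hxB'
      rwa [← hbp, inv_mul_cancel_left] at this
  intro p hp
  refine mem_normalizer_of_odd hgen fun x hx hxo => ?_
  have hmem : p * x * p⁻¹ ∈ X := mul_mem (mul_mem (mem_sup_right hp) (mem_sup_left hx)) (inv_mem (mem_sup_right hp))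
  have hoX : Odd (orderOf (⟨p * x * p⁻¹, hmem⟩ : ↥X)) := by
    rw [Subgroup.orderOf_mk, show p * x * p⁻¹ = MulAut.conj p x from rfl, MulEquiv.orderOf_eq]
    exact hxo
  exact key _ hsnX (by rw [← subgroupOf_sup le_sup_left le_sup_right, subgroupOf_self]) _ hoX

/-- Commutators with a subnormal factor are 3-elements modulo the 2-core. -/
theorem pow_three_mem_core {K H : Subgroup G} (hKH : K ≤ H) (hsn : (K.subgroupOf H).IsSubnormal)
    (hidx : (pCoreOf 2 K).relIndex K = 3) {k h : G} (hk : k ∈ K) (hh : h ∈ H) :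
    ∃ m : ℕ, ⁅k, h⁆ ^ 3 ^ m ∈ pCoreOf 2 H := by
  haveI : Fact (Nat.Prime 3) := ⟨Nat.prime_three⟩
  haveI : Fact (Nat.Prime 2) := ⟨Nat.prime_two⟩
  haveI : (Cfsg.pCore 2 ↥H).Normal := CfsgLib.Core.normal_pCore 2 ↥H
  haveI : (Cfsg.pCore 2 ↥K).Normal := CfsgLib.Core.normal_pCore 2 ↥K
  let π := QuotientGroup.mk' (Cfsg.pCore 2 ↥H)
  have hle : pCoreOf 2 K ≤ K := map_subtype_le _
  have hcore : (pCoreOf 2 K).subgroupOf H ≤ Cfsg.pCore 2 ↥H := by
    refine CfsgLib.Components.subnormal_pGroup_le_pCore ?_ (((CfsgLib.Core.isPGroup_pCore 2 ↥K).map _).comap_subtype)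
    refine IsSubnormal.step _ (K.subgroupOf H) (fun x hx => hle hx) hsn ⟨fun x hx y => ?_⟩
    obtain ⟨x', hx', he⟩ := (hx : ((x : ↥H) : G) ∈ pCoreOf 2 K)
    refine (show ((y : ↥H) : G) * ((x : ↥H) : G) * (((y : ↥H) : G))⁻¹ ∈ pCoreOf 2 K from ?_)
    refine ⟨⟨_, y.2⟩ * x' * ⟨_, y.2⟩⁻¹, (inferInstance : (Cfsg.pCore 2 ↥K).Normal).conj_mem x' hx' _, ?_⟩
    show (y : ↥H) * (x' : G) * ((y : ↥H) : G)⁻¹ = ((y : ↥H) : G) * ((x : ↥H) : G) * (((y : ↥H) : G))⁻¹
    exact congrArg (fun t => ((y : ↥H) : G) * t * (((y : ↥H) : G))⁻¹) he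
  have hK3 : IsPGroup 3 ((K.subgroupOf H).map π) := by
    rintro ⟨_, y, hy, rfl⟩
    refine ⟨1, Subtype.ext ?_⟩
    show π y ^ 3 ^ 1 = 1
    rw [pow_one, ← map_pow, QuotientGroup.mk'_apply, QuotientGroup.eq_one_iff]
    refine hcore (mem_subgroupOf.2 ?_)
    have h3 : (⟨y, hy⟩ : ↥K) ^ 3 ∈ (pCoreOf 2 K).subgroupOf K := by
      haveI : ((pCoreOf 2 K).subgroupOf K).Normal := by
        rw [pCoreOf, subgroupOf, comap_map_eq_self_of_injective K.subtype_injective]
        infer_instance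
      have := pow_index_mem ((pCoreOf 2 K).subgroupOf K) (⟨y, hy⟩ : ↥K)
      rwa [← relIndex, hidx] at this
    exact h3
  have hk3 : π ⟨k, hKH hk⟩ ∈ Cfsg.pCore 3 (↥H ⧸ Cfsg.pCore 2 ↥H) :=
    CfsgLib.Components.subnormal_pGroup_le_pCore (hsn.map (QuotientGroup.mk'_surjective _)) hK3
      ⟨⟨k, hKH hk⟩, hk, rfl⟩
  haveI : (Cfsg.pCore 3 (↥H ⧸ Cfsg.pCore 2 ↥H)).Normal := CfsgLib.Core.normal_pCore 3 _
  have hc : π ⁅(⟨k, hKH hk⟩ : ↥H), ⟨h, hh⟩⁆ ∈ Cfsg.pCore 3 (↥H ⧸ Cfsg.pCore 2 ↥H) := by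
    rw [map_commutatorElement, commutatorElement_def, mul_assoc, mul_assoc, ← mul_assoc (π ⟨h, hh⟩)]
    exact mul_mem hk3 ((inferInstance : (Cfsg.pCore 3 (↥H ⧸ Cfsg.pCore 2 ↥H)).Normal).conj_mem _ (inv_mem hk3) _)
  obtain ⟨m, hm⟩ := CfsgLib.Core.isPGroup_pCore 3 _ ⟨_, hc⟩
  refine ⟨m, ⁅(⟨k, hKH hk⟩ : ↥H), ⟨h, hh⟩⁆ ^ 3 ^ m, ?_, rfl⟩
  have hm' := congrArg Subtype.val hm
  rw [SubmonoidClass.coe_pow, ← map_pow] at hm'
  exact (QuotientGroup.eq_one_iff _).1 hm'

namespace Comp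

variable {L J Q : Subgroup G} {F : Frame L J Q} {K : Subgroup G} (hK : Comp F K)
include hK

/-- A 3-cycle at the coordinate of a factor moves its four-group. -/
theorem not_centralizes_wOf {i : Fin F.n} (hi : AtIndex F K i) (hW4 : Nat.card ↥(wOf K) = 4)
    (hWsq : ∀ w ∈ wOf K, w * w = 1) (hWc : pCoreOf 2 K ≤ centralizer (wOf K : Set G))
    {c : G} (hcK : c ∈ K) (hco : Odd (orderOf c)) (hcc : c ∉ centralizer (wOf K : Set G))
    {y : ↥F.Y} (hy1 : Equiv.Perm.sign (F.φ y i) = 1) (hy2 : F.φ y i ≠ 1) :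
    (y : G) ∉ centralizer (wOf K : Set G) := by
  intro hyc
  set W := wOf K with hW
  have hYW : F.Y ≤ normalizer (W : Set G) := hK.normalizes.trans (normalizer_le_normalizer_wOf K)
  have hW1 : W ≠ ⊥ := fun h => by rw [h, card_bot] at hW4; omega
  have hW2 : IsPGroup 2 W := IsPGroup.of_card (n := 2) (by rw [hW4]; rfl)
  have hYC : F.Y ≤ normalizer (centralizer (W : Set G) : Set G) :=
    hYW.trans (CfsgLib.Signalizer.normalizer_le_normalizer_centralizer_set _)
  have hcW : c ∈ normalizer (W : Set G) := hYW (hK.le hcK)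
  obtain ⟨fj, hfj, hfi, hfk⟩ := F.flip i
  obtain ⟨m, hm⟩ := F.J_two ⟨(fj : G), hfj⟩
  have hfk' : ∀ k, k ≠ i → F.φ fj k = 1 := fun k hk => phi_two_elem F fj (congrArg Subtype.val hm) k (hfk k hk)
  set z : ↥F.Y := y * fj * y⁻¹ * fj⁻¹ with hz
  have hzW : (z : G) ∈ centralizer (W : Set G) := by
    show (y : G) * fj * (y : G)⁻¹ * (fj : G)⁻¹ ∈ centralizer (W : Set G)
    rw [mul_assoc, mul_assoc, ← mul_assoc (fj : G)]
    exact mul_mem hyc ((mem_normalizer_iff.1 (hYC fj.2) _).1 (inv_mem hyc))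
  have hzi : F.φ z i = F.φ y i * F.φ fj i * (F.φ y i)⁻¹ * (F.φ fj i)⁻¹ := by
    rw [hz, map_mul, map_mul, map_mul, map_inv, map_inv]; rfl
  have hzi1 : F.φ z i ≠ 1 := hzi ▸ perm3_even_odd_ne _ _ hy1 hfi hy2
  have hzis : Equiv.Perm.sign (F.φ z i) = 1 := by rw [hzi, map_mul, map_mul, map_mul, map_inv, map_inv, hy1]; simp
  have hzk : ∀ k, k ≠ i → F.φ z k = 1 := fun k hk => by
    rw [hz, map_mul, map_mul, map_mul, map_inv, map_inv, Pi.mul_apply, Pi.mul_apply, Pi.mul_apply,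
      Pi.inv_apply, Pi.inv_apply, hfk' k hk]
    simp
  set c' : ↥F.Y := ⟨c, hK.le hcK⟩ with hc'
  have hc1 : F.φ c' ≠ 1 := fun h => hcc (hWc (hK.ker_le hcK h))
  have hci : F.φ c' i ≠ 1 := fun h => hc1 (funext fun k => by
    by_cases hk : k = i
    · subst hk; exact h
    · exact hi.1 c' hcK k hk)
  have hodd2 : Odd (orderOf (c * c)) := by
    rw [← pow_two, Nat.Coprime.orderOf_pow (Nat.coprime_two_right.2 hco)]
    exact hco
  obtain ⟨e, heK, heo, hei, hec⟩ : ∃ e : ↥F.Y, (e : G) ∈ K ∧ Odd (orderOf (e : G)) ∧ F.φ e i = F.φ z i ∧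
      (e : G) ∉ centralizer (W : Set G) := by
    rcases perm3_pow_cases _ _ (hK.sign_eq c' hcK i) hzis hci with h | h | h
    · exact absurd h hzi1
    · exact ⟨c', hcK, hco, h.symm, hcc⟩
    · refine ⟨c' * c', mul_mem hcK hcK, hodd2, by rw [map_mul, Pi.mul_apply, h], fun hcc2 => hcc ?_⟩
      obtain ⟨k, hk⟩ := exists_pow_eq_self_of_coprime (x := c) (n := 2) (Nat.coprime_two_left.2 hco)
      rw [← hk, pow_two]
      exact pow_mem hcc2 k
  set r : ↥F.Y := e⁻¹ * z with hr
  have hr1 : F.φ r = 1 := funext fun k => by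
    rw [hr, map_mul, map_inv, Pi.mul_apply, Pi.inv_apply, Pi.one_apply]
    by_cases hk : k = i
    · subst hk; rw [hei, inv_mul_cancel]
    · rw [hzk k hk, hi.1 e heK k hk]; simp
  -- the 2-core of `L` centralises `W`
  obtain ⟨u, hu, hu1, huQ⟩ := exists_fixed_of_two F.Q_two hW2 hW1 (F.Q_le.trans hYW)
  have hQW : Q ≤ centralizer (W : Set G) := by
    intro q hq
    refine mem_centralizer_iff.2 fun w hw => ?_
    have hq' : c⁻¹ * q * c ∈ Q := by simpa using F.Q_normal c⁻¹ (inv_mem (F.Y_le (hK.le hcK))) q hq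
    have hv : c * u * c⁻¹ ∈ W := (mem_normalizer_iff.1 hcW u).1 hu
    have hne : c * u * c⁻¹ ≠ u := fun h => hcc (mem_centralizer_iff.2 fun w hw =>
      (four_odd_fixed hW4 hWsq hcW hco hu hu1 (mul_inv_eq_iff_eq_mul.1 h) w hw).symm)
    refine (four_fixed hW4 hWsq hu hv hu1 (fun h => hu1 (conj_eq_one_iff.1 h)) hne.symm (huQ q hq) ?_ w hw).symm
    calc q * (c * u * c⁻¹) = c * ((c⁻¹ * q * c) * u) * c⁻¹ := by group
      _ = c * (u * (c⁻¹ * q * c)) * c⁻¹ := by rw [huQ _ hq']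
      _ = c * u * c⁻¹ * q := by group
  obtain ⟨v, hv, hv1, hvJ⟩ := exists_fixed_of_two F.J_two hW2 hW1 (F.J_le.trans hYW)
  have hfjv := hvJ _ hfj
  have hjne : (fj : G) ∉ centralizer (W : Set G) := by
    intro hj
    have h1 : (fj : G) * c * (fj : G)⁻¹ * c ∈ centralizer (W : Set G) :=
      hWc (hK.inverts hi hfj hfi (y := c') hcK)
    have h2 : c * c ∈ centralizer (W : Set G) := by
      refine (mem_centralizer_iff.2 fun w hw => ?_)
      have hcw : c * w * c⁻¹ ∈ W := (mem_normalizer_iff.1 hcW w).1 hw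
      have hccw : c * (c * w * c⁻¹) * c⁻¹ ∈ W := (mem_normalizer_iff.1 hcW _).1 hcw
      have e1 := mem_centralizer_iff.1 h1 w hw
      have e2 : (fj : G)⁻¹ * (c * w * c⁻¹) * fj = c * w * c⁻¹ := by
        rw [mul_assoc, mem_centralizer_iff.1 hj _ hcw, inv_mul_cancel_left]
      have e3 : (fj : G)⁻¹ * w * fj = w := by
        rw [mul_assoc, mem_centralizer_iff.1 hj w hw, inv_mul_cancel_left]
      refine (mul_inv_eq_iff_eq_mul.1 ?_).symm
      calc c * c * w * (c * c)⁻¹ = c * ((fj : G)⁻¹ * (c * w * c⁻¹) * fj) * c⁻¹ := by rw [e2]; group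
        _ = (fj : G)⁻¹ * (((fj : G) * c * (fj : G)⁻¹ * c) * w * ((fj : G) * c * (fj : G)⁻¹ * c)⁻¹) * fj := by group
        _ = w := by rw [← e1, mul_inv_cancel_right, e3]
    obtain ⟨k, hk⟩ := exists_pow_eq_self_of_coprime (x := c) (n := 2) (Nat.coprime_two_left.2 hco)
    exact hcc (hk ▸ (pow_two c).symm ▸ pow_mem h2 k)
  -- `r` fixes the fixed point of `fj`
  have hrW : (r : G) ∈ normalizer (W : Set G) := hYW r.2
  have hrv : (r : G) * v * (r : G)⁻¹ = v := by
    have hrvW : (r : G) * v * (r : G)⁻¹ ∈ W := (mem_normalizer_iff.1 hrW v).1 hv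
    by_contra hne
    refine hjne (mem_centralizer_iff.2 fun w hw => (four_fixed hW4 hWsq hv hrvW hv1
      (fun h => hv1 (conj_eq_one_iff.1 h)) (Ne.symm hne) hfjv ?_ w hw).symm)
    have hd : ⁅(r : G), (fj : G)⁆ ∈ centralizer (W : Set G) := hQW (F.ker_comm r fj hr1)
    have e1 := mem_centralizer_iff.1 hd _ hrvW
    have e2 : (fj : G) * v * (fj : G)⁻¹ = v := by rw [hfjv, mul_inv_cancel_right]
    refine mul_inv_eq_iff_eq_mul.1 ?_
    calc (fj : G) * ((r : G) * v * (r : G)⁻¹) * (fj : G)⁻¹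
        = ⁅(r : G), (fj : G)⁆⁻¹ * ((r : G) * ((fj : G) * v * (fj : G)⁻¹) * (r : G)⁻¹) * ⁅(r : G), (fj : G)⁆ := by
          simp [commutatorElement_def, mul_assoc]
      _ = (r : G) * v * (r : G)⁻¹ := by rw [e2, mul_assoc, e1, inv_mul_cancel_left]
  refine hec (mem_centralizer_iff.2 fun w hw =>
    (four_odd_fixed hW4 hWsq (hYW e.2) heo hv hv1 (mul_inv_eq_iff_eq_mul.1 ?_) w hw).symm)
  calc (e : G) * v * (e : G)⁻¹ = (e : G) * ((r : G) * v * (r : G)⁻¹) * (e : G)⁻¹ := by rw [hrv]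
    _ = (z : G) * v * (z : G)⁻¹ := by simp [hr, mul_assoc]
    _ = v := by rw [← mem_centralizer_iff.1 hzW v hv, mul_inv_cancel_right]

end Comp

variable {L T : Subgroup G}

/-- A subnormal factor-like subgroup of an overgroup has four-group normalised by the Thompson subgroup. -/
theorem thompson_le_normalizer_wOf (h : Setting L T) {K : Subgroup G} (hKL : K ≤ L)
    (hgen : closure {g : G | g ∈ K ∧ Odd (orderOf g)} = K) (hidx : (pCoreOf 2 K).relIndex K = 3)
    (hW4 : Nat.card ↥(wOf K) = 4) (hsn : (K.subgroupOf (K ⊔ thompsonSubgroupOf 2 T)).IsSubnormal) :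
    thompsonSubgroupOf 2 T ≤ normalizer (wOf K : Set G) := by
  classical
  haveI : Fact (Nat.Prime 2) := ⟨Nat.prime_two⟩
  obtain ⟨F⟩ := nonempty_frame h
  choose Ki hKiJ hKiL hC hat using exists_jComponent h F
  have hTL := h.syl.1
  have hJT : thompsonSubgroupOf 2 T ≤ T := thompsonSubgroupOf_le T
  have hHL : K ⊔ thompsonSubgroupOf 2 T ≤ L := sup_le hKL (hJT.trans hTL)
  set H := K ⊔ thompsonSubgroupOf 2 T with hH
  have hJH : thompsonSubgroupOf 2 T ≤ H := le_sup_right
  have hKH : K ≤ H := le_sup_left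
  have hN : ∀ P : Subgroup G, IsPGroup 2 P → P ≤ H → H ≤ normalizer (P : Set G) → P ≤ normalizer (K : Set G) :=
    fun P h1 h2 h3 => le_normalizer_of_subnormal_odd hgen hKH hsn h1 h2 h3
  choose fj hfj hfi hfk using F.flip
  have hfk' : ∀ i k, k ≠ i → F.φ (fj i) k = 1 := fun i k hk => by
    obtain ⟨m, hm⟩ := F.J_two ⟨_, hfj i⟩
    exact phi_two_elem F (fj i) (congrArg Subtype.val hm) k (hfk i k hk)
  -- coordinates with a 3-cycle inside `H`
  set Big : Fin F.n → Prop := fun i => ∃ y : ↥F.Y, (y : G) ∈ H ∧ Equiv.Perm.sign (F.φ y i) = 1 ∧ F.φ y i ≠ 1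
    with hBig
  have hsgn : ∀ i, Big i → ∀ k ∈ K, ∀ y y' : ↥F.Y, (y : G) ∈ H → (y' : G) = k * y * k⁻¹ →
      Equiv.Perm.sign (F.φ y' i) = Equiv.Perm.sign (F.φ y i) := by
    rintro i ⟨b, hbH, hbs, hb1⟩ k hk y y' hyH hy'
    obtain ⟨m, hm⟩ := pow_three_mem_core hKH hsn hidx hk hyH
    set c : ↥F.Y := y' * y⁻¹ with hc
    have hcG : (c : G) = ⁅k, (y : G)⁆ := by simp [hc, hy', commutatorElement_def, mul_assoc]
    suffices Equiv.Perm.sign (F.φ c i) = 1 by
      rw [hc, map_mul, map_inv, Pi.mul_apply, Pi.inv_apply, map_mul, map_inv, mul_inv_eq_one] at this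
      exact this
    by_contra hne
    have hc1 := (Int.units_eq_one_or _).resolve_left hne
    set z : ↥F.Y := c ^ 3 ^ m with hz
    have hzs : Equiv.Perm.sign (F.φ z i) = -1 := by
      rw [hz, map_pow, Pi.pow_apply, map_pow, hc1, (Odd.pow (by decide : Odd 3)).neg_one_pow]
    have hzO : (z : G) ∈ pCoreOf 2 H := by rw [hz, Subgroup.coe_pow, hcG]; exact hm
    set d : ↥F.Y := z * b * z⁻¹ * b⁻¹ with hd
    have hdO : (d : G) ∈ pCoreOf 2 H := by
      show (z : G) * b * (z : G)⁻¹ * (b : G)⁻¹ ∈ pCoreOf 2 H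
      rw [mul_assoc, mul_assoc, ← mul_assoc (b : G)]
      exact mul_mem hzO ((mem_normalizer_iff.1 (le_normalizer_pCoreOf_self H hbH) _).1 (inv_mem hzO))
    obtain ⟨n, hn⟩ := pCoreOf_two H ⟨_, hdO⟩
    have hdi : F.φ d i = F.φ z i * F.φ b i * (F.φ z i)⁻¹ * (F.φ b i)⁻¹ := by
      rw [hd, map_mul, map_mul, map_mul, map_inv, map_inv]; rfl
    refine perm3_odd_even_ne _ _ hzs hbs hb1 (hdi ▸ phi_two_elem F d (congrArg Subtype.val hn) i ?_)
    rw [hdi, map_mul, map_mul, map_mul, map_inv, map_inv, hbs]; simp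
  have hfix : ∀ i, Big i → K ≤ normalizer (Ki i : Set G) := by
    intro i hi k hk
    rw [← inv_mem_iff, ← CfsgLib.LocalEvenB.map_conj_eq_self_iff_mem_normalizer]
    have hk' : k⁻¹ ∈ L := inv_mem (hKL hk)
    have hC' := (hC i).conj hk'
    obtain ⟨l, hl⟩ := hC'.exists_index
    by_cases hli : l = i
    · subst hli
      exact (hC l).eq_of_same_index hC' (hat l) hl
    exfalso
    obtain ⟨x, hx, hxi⟩ := (hat i).2
    set x'' : ↥F.Y := ⟨k⁻¹ * x * k, by simpa using F.Y_normal k⁻¹ hk' x x.2⟩ with hx''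
    have hx''K : (x'' : G) ∈ (Ki i).map (MulAut.conj k⁻¹).toMonoidHom := ⟨x, hx, by simp [hx'']⟩
    set y' : ↥F.Y := ⟨k * fj l * k⁻¹, F.Y_normal k (hKL hk) _ (fj l).2⟩ with hy'
    have hs : Equiv.Perm.sign (F.φ y' i) = 1 := by
      rw [hsgn i hi k hk (fj l) y' (hJH (hfj l)) rfl, hfk l i (fun h => hli h.symm)]
    have hxs : Equiv.Perm.sign (F.φ x i) = 1 := (hC i).sign_eq x hx i
    have hd1 : F.φ (y' * x * y'⁻¹ * x⁻¹) = 1 := funext fun k' => by
      rw [map_mul, map_mul, map_mul, map_inv, map_inv, Pi.mul_apply, Pi.mul_apply, Pi.mul_apply,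
        Pi.inv_apply, Pi.inv_apply, Pi.one_apply]
      by_cases hk' : k' = i
      · subst hk'; rw [perm3_even_comm _ _ hs hxs, mul_inv_cancel]
      · rw [(hat i).1 x hx k' hk']; simp
    have hd2 := F.ker_conj k⁻¹ hk' _ hd1
    have hd3 : F.φ (fj l * x'' * (fj l)⁻¹ * x''⁻¹) = 1 := by
      convert hd2 using 2
      exact Subtype.ext (by simp [hx'', hy', mul_assoc])
    have hx''l : F.φ x'' l ≠ 1 := by
      intro h1
      apply hxi
      have h2 : F.φ x'' = 1 := funext fun k' => by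
        by_cases hk' : k' = l
        · subst hk'; exact h1
        · exact hl.1 x'' hx''K k' hk'
      have h3 := F.ker_conj k (hKL hk) x'' h2
      have e : (⟨k * (x'' : G) * k⁻¹, F.Y_normal k (hKL hk) x'' x''.2⟩ : ↥F.Y) = x :=
        Subtype.ext (by simp [hx'', mul_assoc])
      rw [e] at h3
      rw [h3]; rfl
    have := congrFun hd3 l
    rw [map_mul, map_mul, map_mul, map_inv, map_inv] at this
    exact perm3_odd_even_ne _ _ (hfi l) (hC'.sign_eq x'' hx''K l) hx''l this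
  by_cases hcase : ∃ i, Big i ∧ ∃ x ∈ K, Odd (orderOf x) ∧ x ∉ centralizer (wOf (Ki i) : Set G)
  · obtain ⟨i, hi, x, hxK, hxo, hxc⟩ := hcase
    obtain ⟨S', hd⟩ := exists_jData (h.syl.2.1) (hKiJ i)
    set W := wOf (Ki i) with hW
    have hKW : K ≤ normalizer (W : Set G) := (hfix i hi).trans (normalizer_le_normalizer_wOf _)
    have hJW : thompsonSubgroupOf 2 T ≤ normalizer (W : Set G) := le_sup_right.trans hd.le_normalizer_W
    have hWQ : W ≤ pCoreOf 2 L := by
      intro w hw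
      have hwc : w ∈ pCoreOf 2 (Ki i) := omegaCenterOf_le_self _ (hd.W_le_omega hw)
      exact ((hC i).core_ker (y := ⟨w, (hC i).le (map_subtype_le _ hwc)⟩) hwc).2
    have hWel : IsElementaryAbelian 2 W :=
      have hV := JData.omegaCenter_elementary (pCoreOf 2 (Ki i))
      ⟨CfsgLib.Techniques.abelian_mono hV.1 hd.W_le_omega, fun w hw => hV.2 w (hd.W_le_omega hw)⟩
    have hW2 : IsPGroup 2 W := IsPGroup.of_card (n := 2) (by rw [hd.wcard]; rfl)
    -- a point of `W` inside the Thompson subgroup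
    obtain ⟨A, hA⟩ := exists_isBig T
    have hAW : A ≤ normalizer (W : Set G) := (le_thompsonSubgroupOf hA).trans hJW
    have hA2 : IsPGroup 2 A := fun u => ⟨1, Subtype.ext (by simpa using hA.elem.2 u u.2)⟩
    obtain ⟨z, hz, hz1, hzA⟩ := exists_fixed_of_two hA2 hW2 hd.W_ne_bot hAW
    have hzJ : z ∈ thompsonSubgroupOf 2 T := by
      refine le_thompsonSubgroupOf hA ?_
      have hQT : pCoreOf 2 L ≤ T := by
        obtain ⟨h1, h2, h3⟩ := h.syl
        intro q hq
        obtain ⟨q', hq', rfl⟩ := hq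
        exact CfsgLib.Core.pCore_le_sylow ((h2.comap_subtype (K := L)).toSylow
          (fun hd => Nat.not_even_iff_odd.2 h3 (even_iff_two_dvd.2 hd))) hq'
      have hzc : zpowers z ≤ centralizer (A : Set G) := zpowers_le.2 (mem_centralizer_iff.2 hzA)
      have hel : IsElementaryAbelian 2 (A ⊔ zpowers z : Subgroup G) := by
        have hcm := CfsgLib.Techniques.abelian_sup hA.elem.1 (CfsgLib.Techniques.abelian_mono hWel.1 (zpowers_le.2 hz))
          (le_centralizer_iff.1 hzc)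
        refine ⟨hcm, fun y hy => ?_⟩
        rw [sup_eq_closure] at hy
        induction hy using closure_induction with
        | mem y hy => exact hy.elim (fun h => hA.elem.2 y h) (fun h => hWel.2 y ((zpowers_le.2 hz) h))
        | one => exact one_pow _
        | mul y z hy hz ihy ihz =>
          rw [← sup_eq_closure] at hy hz
          rw [Commute.mul_pow (CfsgLib.PLocal.comm_of_mem hcm hy hz), ihy, ihz, one_mul]
        | inv y _ ihy => rw [inv_pow, ihy, inv_one]
      have hle := hA.max _ (sup_le hA.le (zpowers_le.2 (hQT (hWQ hz)))) hel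
      exact (eq_of_le_of_card_ge le_sup_left hle).ge (mem_sup_right (mem_zpowers z))
    have hQH : pCoreOf 2 L ⊓ H ≤ normalizer (K : Set G) := by
      refine hN _ ((pCoreOf_two L).to_le inf_le_left) inf_le_right fun g hg => ?_
      refine CfsgLib.LocalEvenB.mem_normalizer_of_forall fun q hq =>
        mem_inf.2 ⟨F.Q_normal g (hHL hg) q (mem_inf.1 hq).1, mul_mem (mul_mem hg (mem_inf.1 hq).2) (inv_mem hg)⟩
    have hzx : ⁅z, x⁆ ∈ K := by
      rw [commutatorElement_def]
      exact mul_mem ((mem_normalizer_iff.1 (hQH (mem_inf.2 ⟨hWQ hz, hJH hzJ⟩)) x).1 hxK) (inv_mem hxK)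
    have hxW : x ∈ normalizer (W : Set G) := hKW hxK
    set a := ⁅z, x⁆ with ha
    have haW : a ∈ W := by
      rw [ha, commutatorElement_def, show z * x * z⁻¹ * x⁻¹ = z * (x * z⁻¹ * x⁻¹) by group]
      exact mul_mem hz ((mem_normalizer_iff.1 hxW _).1 (inv_mem hz))
    have hfixx : ∀ w ∈ W, w ≠ 1 → x * w * x⁻¹ ≠ w := fun w hw hw1 heq =>
      hxc (mem_centralizer_iff.2 fun v hv =>
        (four_odd_fixed hd.wcard hd.wsq hxW hxo hw hw1 (mul_inv_eq_iff_eq_mul.1 heq) v hv).symm)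
    have ha1 : a ≠ 1 := by
      intro h0
      rw [ha, commutatorElement_eq_one_iff_mul_comm] at h0
      exact hfixx z hz hz1 (by rw [← h0, mul_inv_cancel_right])
    set b := x * a * x⁻¹ with hb
    have hbW : b ∈ W := (mem_normalizer_iff.1 hxW a).1 haW
    have hb1 : b ≠ 1 := fun h0 => ha1 (conj_eq_one_iff.1 h0)
    have hab : a ≠ b := fun h0 => hfixx a haW ha1 h0.symm
    have hWeq : ∀ w ∈ W, w = 1 ∨ w = a ∨ w = b ∨ w = a * b := fun w hw =>
      four_cases hd.wcard haW hbW ha1 hb1 hab (hd.wsq a haW) hw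
    have hWK : W ≤ K := by
      intro w hw
      have hbK : b ∈ K := mul_mem (mul_mem hxK hzx) (inv_mem hxK)
      rcases hWeq w hw with rfl | rfl | rfl | rfl
      · exact one_mem _
      · exact hzx
      · exact hbK
      · exact mul_mem hzx hbK
    have hWcore : W ≤ pCoreOf 2 K := CfsgLib.LocalEvenB.le_pCoreOf hWK hW2 hKW
    have hcoreW : ∀ r ∈ pCoreOf 2 K, ∀ w ∈ W, r * w = w * r := by
      intro r hr
      have hrK : r ∈ K := map_subtype_le _ hr
      obtain ⟨u, hu, hu1, huR⟩ := exists_fixed_of_two (pCoreOf_two K) hW2 hd.W_ne_bot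
        ((map_subtype_le _).trans hKW)
      have hr' : x⁻¹ * r * x ∈ pCoreOf 2 K := by
        simpa using (mem_normalizer_iff''.1 (le_normalizer_pCoreOf_self K hxK) r).1 hr
      refine four_fixed hd.wcard hd.wsq hu ((mem_normalizer_iff.1 hxW u).1 hu) hu1
        (fun h => hu1 (conj_eq_one_iff.1 h)) (hfixx u hu hu1).symm (huR r hr) ?_
      calc r * (x * u * x⁻¹) = x * ((x⁻¹ * r * x) * u) * x⁻¹ := by group
        _ = x * (u * (x⁻¹ * r * x)) * x⁻¹ := by rw [huR _ hr']
        _ = x * u * x⁻¹ * r := by group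
    have hWV : W ≤ omegaCenterOf (pCoreOf 2 K) := fun w hw =>
      mem_omegaCenterOf (hWcore hw) (fun r hr => hcoreW r hr w hw) (hWel.2 w hw)
    have hWK' : W ≤ wOf K := by
      intro w hw
      -- every element is a commutator with `x`
      have hd' : ∀ v ∈ W, ⁅v, x⁆ ∈ wOf K := fun v hv => commutator_mem_commutator (hWV hv) hxK
      have haK : a ∈ wOf K := hd' z hz
      have hbK : b ∈ wOf K := by
        have := hd' _ ((mem_normalizer_iff.1 hxW z).1 hz)
        convert this using 1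
        simp [hb, ha, commutatorElement_def, mul_assoc]
      rcases hWeq w hw with rfl | rfl | rfl | rfl
      · exact one_mem _
      · exact haK
      · exact hbK
      · exact mul_mem haK hbK
    haveI : Finite ↥(wOf K) := inferInstance
    rw [← eq_of_le_of_card_ge hWK' (by rw [hW4, hd.wcard])]
    exact hJW
  · push Not at hcase
    refine le_trans ?_ (normalizer_le_normalizer_wOf K)
    -- allowed values
    set τ : Fin F.n → Equiv.Perm (Fin 3) := fun k => F.φ (fj k) k with hτ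
    have hτ2 : ∀ k, τ k * τ k = 1 := fun k => perm3_odd_sq _ (hfi k)
    have hτi : ∀ k, (τ k)⁻¹ = τ k := fun k => inv_eq_of_mul_eq_one_left (hτ2 k)
    haveI : ((pCoreOf 2 L).subgroupOf F.Y).Normal := ⟨fun q hq y => F.Q_normal _ (F.Y_le y.2) _ hq⟩
    let π := QuotientGroup.mk' ((pCoreOf 2 L).subgroupOf F.Y)
    have hπ : ∀ y : ↥F.Y, π y = 1 ↔ (y : G) ∈ pCoreOf 2 L :=
      fun y => (QuotientGroup.eq_one_iff y).trans mem_subgroupOf
    have hcen : ∀ y : ↥F.Y, F.φ y = 1 → ∀ w : ↥F.Y, π y * π w = π w * π y := by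
      intro y hy w
      refine commutatorElement_eq_one_iff_mul_comm.1 ?_
      rw [← map_commutatorElement, hπ]
      exact F.ker_comm y w hy
    have hcomm : ∀ a b : ↥F.Y, π a * π a = 1 → π b * π b = 1 →
        (∀ k, F.φ a k = 1 ∨ F.φ a k = τ k) → (∀ k, F.φ b k = 1 ∨ F.φ b k = τ k) → π a * π b = π b * π a := by
      intro a b ha hb ha' hb'
      have h1 : F.φ ⁅a, b⁆ = 1 := funext fun k => by
        show (Pi.evalMonoidHom _ k) (F.φ ⁅a, b⁆) = 1
        rw [map_commutatorElement, map_commutatorElement, commutatorElement_eq_one_iff_mul_comm]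
        show F.φ a k * F.φ b k = F.φ b k * F.φ a k
        rcases ha' k with h | h <;> rcases hb' k with h' | h' <;> rw [h, h'] <;> simp
      have hai : (π a)⁻¹ = π a := inv_eq_of_mul_eq_one_left ha
      have hbi : (π b)⁻¹ = π b := inv_eq_of_mul_eq_one_left hb
      have h2 : π ⁅a, b⁆ * π ⁅a, b⁆ = 1 := by
        have hc := hcen _ h1 a
        have e1 : π a * π ⁅a, b⁆ * (π a)⁻¹ = π ⁅a, b⁆ := by rw [← hc, mul_inv_cancel_right]
        rw [map_commutatorElement, commutatorElement_def, hai, hbi] at e1 ⊢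
        calc π a * π b * π a * π b * (π a * π b * π a * π b)
            = π a * π b * π a * π b * (π a * (π a * π b * π a * π b) * π a) := by rw [e1]
          _ = π a * π b * π a * π b * ((π a * π a) * π b * π a * π b * π a) := by simp only [mul_assoc]
          _ = π a * π b * π a * (π b * π b) * π a * π b * π a := by rw [ha]; simp only [one_mul, mul_assoc]
          _ = π a * π b * (π a * π a) * π b * π a := by rw [hb]; simp only [mul_one, mul_assoc]
          _ = π a * (π b * π b) * π a := by rw [ha]; simp only [mul_one, mul_assoc]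
          _ = 1 := by rw [hb, mul_one, ha]
      have h3 : ((⁅a, b⁆ : ↥F.Y) : G) ∈ pCoreOf 2 L := F.ker_two _ h1 1 (by
        rw [pow_one, pow_two]; exact (hπ (⁅a, b⁆ * ⁅a, b⁆)).1 (by rw [map_mul, h2]))
      rw [← commutatorElement_eq_one_iff_mul_comm, ← map_commutatorElement, hπ]
      exact h3
    let P₀ : Subgroup ↥F.Y :=
      { carrier := {y | (y : G) ∈ H ∧ π y * π y = 1 ∧ ∀ k, F.φ y k = 1 ∨ F.φ y k = τ k}
        one_mem' := ⟨one_mem _, by simp, fun k => Or.inl (by rw [map_one]; rfl)⟩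
        mul_mem' := by
          rintro a b ⟨ha1, ha2, ha3⟩ ⟨hb1, hb2, hb3⟩
          refine ⟨mul_mem ha1 hb1, ?_, fun k => ?_⟩
          · rw [map_mul, mul_assoc, ← mul_assoc (π b), ← hcomm a b ha2 hb2 ha3 hb3, mul_assoc (π a) (π b), hb2, mul_one, ha2]
          · rw [map_mul, Pi.mul_apply]
            rcases ha3 k with h | h <;> rcases hb3 k with h' | h' <;> rw [h, h']
            · exact Or.inl (one_mul _)
            · exact Or.inr (one_mul _)
            · exact Or.inr (mul_one _)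
            · exact Or.inl (hτ2 k)
        inv_mem' := by
          rintro a ⟨ha1, ha2, ha3⟩
          refine ⟨inv_mem ha1, by rw [map_inv, ← mul_inv_rev, ha2, inv_one], fun k => ?_⟩
          rw [map_inv, Pi.inv_apply]
          rcases ha3 k with h | h <;> rw [h]
          · exact Or.inl inv_one
          · exact Or.inr (hτi k) }
    have hP2 : ∀ y ∈ P₀, ∃ m, (y : G) ^ 2 ^ m = 1 := by
      rintro y ⟨-, hy, -⟩
      rw [← map_mul, hπ] at hy
      obtain ⟨a, ha⟩ := pCoreOf_two L ⟨_, hy⟩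
      refine ⟨a + 1, ?_⟩
      rw [pow_succ', pow_mul, pow_two]
      exact congrArg Subtype.val ha
    have hJP : (thompsonSubgroupOf 2 T).subgroupOf F.Y ≤ P₀ := by
      intro y hy
      obtain ⟨m, hm⟩ := F.J_two ⟨(y : G), hy⟩
      have hm' : (y : G) ^ 2 ^ m = 1 := congrArg Subtype.val hm
      have hval : ∀ k, F.φ y k = 1 ∨ F.φ y k = τ k := by
        intro k
        rcases Int.units_eq_one_or (Equiv.Perm.sign (F.φ y k)) with hs | hs
        · exact Or.inl (phi_two_elem F y hm' k hs)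
        refine Or.inr (perm3_odd_comm_eq _ _ hs (hfi k) ?_)
        have hc : ((⁅y, fj k⁆ : ↥F.Y) : G) ∈ thompsonSubgroupOf 2 T :=
          mul_mem (mul_mem (mul_mem hy (hfj k)) (inv_mem hy)) (inv_mem (hfj k))
        obtain ⟨m', hm''⟩ := F.J_two ⟨_, hc⟩
        have h1 : F.φ ⁅y, fj k⁆ k = 1 := by
          refine phi_two_elem F _ (congrArg Subtype.val hm'') k ?_
          show Equiv.Perm.sign ((Pi.evalMonoidHom _ k) (F.φ ⁅y, fj k⁆)) = 1
          rw [map_commutatorElement, map_commutatorElement, map_commutatorElement]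
          exact commutatorElement_eq_one_iff_mul_comm.2 (mul_comm _ _)
        rw [map_commutatorElement] at h1
        exact commutatorElement_eq_one_iff_mul_comm.1 h1
      refine ⟨hJH hy, ?_, hval⟩
      rw [← map_mul, hπ]
      refine F.ker_two (y * y) (funext fun k => ?_) m ?_
      · rw [map_mul, Pi.mul_apply, Pi.one_apply]
        rcases hval k with h | h <;> rw [h]
        · exact one_mul _
        · exact hτ2 k
      · rw [Subgroup.coe_mul, ← pow_two, ← pow_mul, mul_comm, pow_mul, hm', one_pow]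
        exact one_mem _
    set P := P₀.map F.Y.subtype with hP
    have hPH : P ≤ H := by rintro _ ⟨y, hy, rfl⟩; exact hy.1
    have hJP' : thompsonSubgroupOf 2 T ≤ P := fun x hx =>
      ⟨⟨x, F.J_le hx⟩, hJP (mem_subgroupOf.2 hx), rfl⟩
    have hPn : H ≤ normalizer (P : Set G) := by
      refine sup_le ?_ (hJP'.trans le_normalizer)
      conv_lhs => rw [← hgen]
      rw [closure_le]
      rintro x ⟨hxK, hxo⟩
      refine CfsgLib.LocalEvenB.mem_normalizer_of_forall ?_
      rintro _ ⟨y, hy, rfl⟩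
      obtain ⟨hyH, hy2, hy3⟩ := hy
      have hxL : x ∈ L := hKL hxK
      set y' : ↥F.Y := ⟨x * y * x⁻¹, F.Y_normal x hxL y y.2⟩ with hy'
      have hy'H : (y' : G) ∈ H := mul_mem (mul_mem (hKH hxK) hyH) (inv_mem (hKH hxK))
      obtain ⟨m, hm⟩ := hP2 y ⟨hyH, hy2, hy3⟩
      have hm' : (y' : G) ^ 2 ^ m = 1 := by
        show (x * y * x⁻¹) ^ 2 ^ m = 1
        rw [conj_pow, hm, mul_one, mul_inv_cancel]
      refine ⟨y', ⟨hy'H, ?_, fun k => ?_⟩, rfl⟩
      · rw [← map_mul, hπ]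
        rw [← map_mul, hπ] at hy2
        have := F.Q_normal x hxL _ hy2
        convert this using 1
        simp [hy', mul_assoc]
      rcases Int.units_eq_one_or (Equiv.Perm.sign (F.φ y' k)) with hs | hs
      · exact Or.inl (phi_two_elem F y' hm' k hs)
      right
      by_cases hbig : Big k
      · have hsy : Equiv.Perm.sign (F.φ y k) = -1 := by rw [← hsgn k hbig x hxK y y' hyH rfl, hs]
        have hyk : F.φ y k = τ k := by
          rcases hy3 k with h | h
          · rw [h] at hsy; exact absurd hsy (by simp)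
          · exact h
        have hfP : fj k ∈ P₀ := hJP (mem_subgroupOf.2 (hfj k))
        obtain ⟨hw1, hw2, hw3⟩ : y * fj k ∈ P₀ := mul_mem ⟨hyH, hy2, hy3⟩ hfP
        obtain ⟨m', hm''⟩ := hP2 _ ⟨hw1, hw2, hw3⟩
        set w' : ↥F.Y := ⟨x * (y * fj k : ↥F.Y) * x⁻¹, F.Y_normal x hxL _ (y * fj k : ↥F.Y).2⟩ with hw'
        have hw'1 : F.φ w' k = 1 := by
          refine phi_two_elem F w' (m := m') ?_ k ?_
          · show (x * (y * fj k : ↥F.Y) * x⁻¹) ^ 2 ^ m' = 1
            rw [conj_pow, hm'', mul_one, mul_inv_cancel]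
          · rw [hsgn k hbig x hxK _ w' hw1 rfl, map_mul, Pi.mul_apply, hyk, hτ2, map_one]
        set v : ↥F.Y := ⟨x * fj k * x⁻¹, F.Y_normal x hxL _ (fj k).2⟩ with hv
        have hwv : w' = y' * v := Subtype.ext (by simp [hw', hv, hy', mul_assoc])
        have hv' : F.φ v k = τ k := by
          by_contra hne
          have hvs : Equiv.Perm.sign (F.φ v k) = -1 := by
            rw [hsgn k hbig x hxK (fj k) v (hJH (hfj k)) rfl, hfi k]
          obtain ⟨S', hd⟩ := exists_jData (h.syl.2.1) (hKiJ k)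
          obtain ⟨c, hcK, hco, hcc⟩ := hd.exists_odd_not_centralizing
          have hmem : ((v * (fj k)⁻¹ : ↥F.Y) : G) ∈ centralizer (wOf (Ki k) : Set G) := by
            have hxC := hcase k hbig x hxK hxo
            show x * fj k * x⁻¹ * (fj k : G)⁻¹ ∈ _
            rw [mul_assoc, mul_assoc, ← mul_assoc (fj k : G)]
            refine mul_mem hxC ((mem_normalizer_iff.1 ?_ _).1 (inv_mem hxC))
            exact CfsgLib.Signalizer.normalizer_le_normalizer_centralizer_set _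
              (hd.le_normalizer_W (mem_sup_right (hfj k)))
          refine (hC k).not_centralizes_wOf (hat k) hd.wcard hd.wsq hd.Q_centralizes_W hcK hco hcc
            (y := v * (fj k)⁻¹) ?_ ?_ hmem
          · rw [map_mul, map_inv, Pi.mul_apply, Pi.inv_apply, map_mul, map_inv, hvs, hfi k, mul_inv_cancel]
          · rw [map_mul, map_inv, Pi.mul_apply, Pi.inv_apply, Ne, mul_inv_eq_one]
            exact hne
        rw [hwv, map_mul, Pi.mul_apply, hv', mul_eq_one_iff_eq_inv, hτi] at hw'1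
        exact hw'1
      · by_contra hne
        refine hbig ⟨y' * fj k, mul_mem hy'H (hJH (hfj k)), by rw [map_mul, Pi.mul_apply, map_mul, hs, hfi k]; decide,
          fun h1 => hne ?_⟩
        rw [map_mul, Pi.mul_apply, mul_eq_one_iff_eq_inv] at h1
        rw [h1]
        exact hτi k
    refine hJP'.trans (hN P ?_ hPH hPn)
    rintro ⟨_, y, hy, rfl⟩
    obtain ⟨m, hm⟩ := hP2 y hy
    exact ⟨m, Subtype.ext hm⟩

end CfsgLib.LocalEvenB.JOver
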